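import Cfsg.Agent.Lib.KnownSimple.J3.Defs

/-!
# The Janko group: checks of the table
-/

set_option autoImplicit false

namespace Cfsg.Agent.Lib.KnownSimple.J3

open Cfsg Cfsg.Spor Cfsg.Agent.Lib.Compute Cfsg.Agent.Lib.KnownSimple.PE Cfsg.Agent.Lib.KnownSimple.Leech
open Cfsg.Agent.Lib.KnownSimple Cfsg.Agent.Lib.KnownSimple.AutRigid
open Cfsg.Agent.Lib.KnownSimple.J3Data

set_option maxRecDepth 100000 in
theorem cPack0 : chunk gPack 2584 0 = true := by decide +kernel
set_option maxRecDepth 100000 in
theorem cPack1 : chunk gPack 2584 1 = true := by decide +kernel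
set_option maxRecDepth 100000 in
theorem cPack2 : chunk gPack 2584 2 = true := by decide +kernel
set_option maxRecDepth 100000 in
theorem cPack3 : chunk gPack 2584 3 = true := by decide +kernel
set_option maxRecDepth 100000 in
theorem cPack4 : chunk gPack 2584 4 = true := by decide +kernel
set_option maxRecDepth 100000 in
theorem cPack5 : chunk gPack 2584 5 = true := by decide +kernel
set_option maxRecDepth 100000 in
theorem cPack6 : chunk gPack 2584 6 = true := by decide +kernel
set_option maxRecDepth 100000 in
theorem cPack7 : chunk gPack 2584 7 = true := by decide +kernel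
set_option maxRecDepth 100000 in
theorem cPack8 : chunk gPack 2584 8 = true := by decide +kernel
set_option maxRecDepth 100000 in
theorem cFind0 : chunk gFind 2584 0 = true := by decide +kernel
set_option maxRecDepth 100000 in
theorem cFind1 : chunk gFind 2584 1 = true := by decide +kernel
set_option maxRecDepth 100000 in
theorem cFind2 : chunk gFind 2584 2 = true := by decide +kernel
set_option maxRecDepth 100000 in
theorem cFind3 : chunk gFind 2584 3 = true := by decide +kernel
set_option maxRecDepth 100000 in
theorem cFind4 : chunk gFind 2584 4 = true := by decide +kernel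
set_option maxRecDepth 100000 in
theorem cFind5 : chunk gFind 2584 5 = true := by decide +kernel
set_option maxRecDepth 100000 in
theorem cFind6 : chunk gFind 2584 6 = true := by decide +kernel
set_option maxRecDepth 100000 in
theorem cFind7 : chunk gFind 2584 7 = true := by decide +kernel
set_option maxRecDepth 100000 in
theorem cFind8 : chunk gFind 2584 8 = true := by decide +kernel
set_option maxRecDepth 100000 in
theorem cLead0 : chunk gLead 2584 0 = true := by decide +kernel
set_option maxRecDepth 100000 in
theorem cLead1 : chunk gLead 2584 1 = true := by decide +kernel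
set_option maxRecDepth 100000 in
theorem cLead2 : chunk gLead 2584 2 = true := by decide +kernel
set_option maxRecDepth 100000 in
theorem cLead3 : chunk gLead 2584 3 = true := by decide +kernel
set_option maxRecDepth 100000 in
theorem cLead4 : chunk gLead 2584 4 = true := by decide +kernel
set_option maxRecDepth 100000 in
theorem cLead5 : chunk gLead 2584 5 = true := by decide +kernel
set_option maxRecDepth 100000 in
theorem cLead6 : chunk gLead 2584 6 = true := by decide +kernel
set_option maxRecDepth 100000 in
theorem cLead7 : chunk gLead 2584 7 = true := by decide +kernel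
set_option maxRecDepth 100000 in
theorem cLead8 : chunk gLead 2584 8 = true := by decide +kernel

theorem hpackT : allBelow gPack (9 * 2584) = true := allBelow_of_chunks (fun c hc => by
    interval_cases c
    · exact cPack0
    · exact cPack1
    · exact cPack2
    · exact cPack3
    · exact cPack4
    · exact cPack5
    · exact cPack6
    · exact cPack7
    · exact cPack8
  )
theorem hfindT : allBelow gFind (9 * 2584) = true := allBelow_of_chunks (fun c hc => by
    interval_cases c
    · exact cFind0
    · exact cFind1
    · exact cFind2
    · exact cFind3
    · exact cFind4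
    · exact cFind5
    · exact cFind6
    · exact cFind7
    · exact cFind8
  )
theorem hleadT : allBelow gLead (9 * 2584) = true := allBelow_of_chunks (fun c hc => by
    interval_cases c
    · exact cLead0
    · exact cLead1
    · exact cLead2
    · exact cLead3
    · exact cLead4
    · exact cLead5
    · exact cLead6
    · exact cLead7
    · exact cLead8
  )

theorem hcolT : allBelow (fun k => colOK (gC k)) 47 = true := by decide +kernel
theorem hUT : allBelow (fun k => allBelow (fun a => allBelow (fun b =>
    Nat.beq (hermC (pick 1 (gC k a)) (pick 1 (gC k b))) (bcond (Nat.beq a b) 1 0)) 9) 9) 47 = true := by decide +kernel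
theorem hAT : ∀ Z w z : F9, cA Z w z = dg (pick 1 (gC (zi Z) (zi z))) (zi w) := by decide +kernel
theorem hET : ∀ Z w z : F9, cE Z w z = dg (pick 1 (gC (9 + zi Z) (zi z))) (zi w) := by decide +kernel
theorem hDT : ∀ Z w z : F9, cD Z w z = dg (pick 1 (gC (18 + zi Z) (zi z))) (zi w) := by decide +kernel
theorem hBT : ∀ Z w z : F9, Z ≠ 0 → cB Z w z = dg (pick 1 (gC (26 + zi Z) (zi z))) (zi w) := by decide +kernel
theorem hCT : ∀ Z w z : F9, Z ≠ 0 → cC Z w z = dg (pick 1 (gC (34 + zi Z) (zi z))) (zi w) := by decide +kernel

end Cfsg.Agent.Lib.KnownSimple.J3
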