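import Cfsg.Agent.Lib.KnownSimple.J3.Defs

/-!
# The Janko group: checks of the tables of the generators
-/

set_option autoImplicit false

namespace Cfsg.Agent.Lib.KnownSimple.J3

open Cfsg Cfsg.Spor Cfsg.Agent.Lib.Compute Cfsg.Agent.Lib.KnownSimple.PE Cfsg.Agent.Lib.KnownSimple.Leech
open Cfsg.Agent.Lib.KnownSimple Cfsg.Agent.Lib.KnownSimple.AutRigid
open Cfsg.Agent.Lib.KnownSimple.J3Data

set_option maxRecDepth 100000 in
theorem cG0_0 : chunk (chkG tab N (gC 0) (T 0)) 2584 0 = true := by decide +kernel
set_option maxRecDepth 100000 in
theorem cG0_1 : chunk (chkG tab N (gC 0) (T 0)) 2584 1 = true := by decide +kernel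
set_option maxRecDepth 100000 in
theorem cG0_2 : chunk (chkG tab N (gC 0) (T 0)) 2584 2 = true := by decide +kernel
set_option maxRecDepth 100000 in
theorem cG0_3 : chunk (chkG tab N (gC 0) (T 0)) 2584 3 = true := by decide +kernel
set_option maxRecDepth 100000 in
theorem cG0_4 : chunk (chkG tab N (gC 0) (T 0)) 2584 4 = true := by decide +kernel
set_option maxRecDepth 100000 in
theorem cG0_5 : chunk (chkG tab N (gC 0) (T 0)) 2584 5 = true := by decide +kernel
set_option maxRecDepth 100000 in
theorem cG0_6 : chunk (chkG tab N (gC 0) (T 0)) 2584 6 = true := by decide +kernel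
set_option maxRecDepth 100000 in
theorem cG0_7 : chunk (chkG tab N (gC 0) (T 0)) 2584 7 = true := by decide +kernel
set_option maxRecDepth 100000 in
theorem cG0_8 : chunk (chkG tab N (gC 0) (T 0)) 2584 8 = true := by decide +kernel
theorem gG0 : allBelow (chkG tab N (gC 0) (T 0)) (9 * 2584) = true := allBelow_of_chunks (fun c hc => by
    interval_cases c
    · exact cG0_0
    · exact cG0_1
    · exact cG0_2
    · exact cG0_3
    · exact cG0_4
    · exact cG0_5
    · exact cG0_6
    · exact cG0_7
    · exact cG0_8
  )
set_option maxRecDepth 100000 in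
theorem cG4_0 : chunk (chkG tab N (gC 4) (T 4)) 2584 0 = true := by decide +kernel
set_option maxRecDepth 100000 in
theorem cG4_1 : chunk (chkG tab N (gC 4) (T 4)) 2584 1 = true := by decide +kernel
set_option maxRecDepth 100000 in
theorem cG4_2 : chunk (chkG tab N (gC 4) (T 4)) 2584 2 = true := by decide +kernel
set_option maxRecDepth 100000 in
theorem cG4_3 : chunk (chkG tab N (gC 4) (T 4)) 2584 3 = true := by decide +kernel
set_option maxRecDepth 100000 in
theorem cG4_4 : chunk (chkG tab N (gC 4) (T 4)) 2584 4 = true := by decide +kernel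
set_option maxRecDepth 100000 in
theorem cG4_5 : chunk (chkG tab N (gC 4) (T 4)) 2584 5 = true := by decide +kernel
set_option maxRecDepth 100000 in
theorem cG4_6 : chunk (chkG tab N (gC 4) (T 4)) 2584 6 = true := by decide +kernel
set_option maxRecDepth 100000 in
theorem cG4_7 : chunk (chkG tab N (gC 4) (T 4)) 2584 7 = true := by decide +kernel
set_option maxRecDepth 100000 in
theorem cG4_8 : chunk (chkG tab N (gC 4) (T 4)) 2584 8 = true := by decide +kernel
theorem gG4 : allBelow (chkG tab N (gC 4) (T 4)) (9 * 2584) = true := allBelow_of_chunks (fun c hc => by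
    interval_cases c
    · exact cG4_0
    · exact cG4_1
    · exact cG4_2
    · exact cG4_3
    · exact cG4_4
    · exact cG4_5
    · exact cG4_6
    · exact cG4_7
    · exact cG4_8
  )
set_option maxRecDepth 100000 in
theorem cG8_0 : chunk (chkG tab N (gC 8) (T 8)) 2584 0 = true := by decide +kernel
set_option maxRecDepth 100000 in
theorem cG8_1 : chunk (chkG tab N (gC 8) (T 8)) 2584 1 = true := by decide +kernel
set_option maxRecDepth 100000 in
theorem cG8_2 : chunk (chkG tab N (gC 8) (T 8)) 2584 2 = true := by decide +kernel
set_option maxRecDepth 100000 in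
theorem cG8_3 : chunk (chkG tab N (gC 8) (T 8)) 2584 3 = true := by decide +kernel
set_option maxRecDepth 100000 in
theorem cG8_4 : chunk (chkG tab N (gC 8) (T 8)) 2584 4 = true := by decide +kernel
set_option maxRecDepth 100000 in
theorem cG8_5 : chunk (chkG tab N (gC 8) (T 8)) 2584 5 = true := by decide +kernel
set_option maxRecDepth 100000 in
theorem cG8_6 : chunk (chkG tab N (gC 8) (T 8)) 2584 6 = true := by decide +kernel
set_option maxRecDepth 100000 in
theorem cG8_7 : chunk (chkG tab N (gC 8) (T 8)) 2584 7 = true := by decide +kernel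
set_option maxRecDepth 100000 in
theorem cG8_8 : chunk (chkG tab N (gC 8) (T 8)) 2584 8 = true := by decide +kernel
theorem gG8 : allBelow (chkG tab N (gC 8) (T 8)) (9 * 2584) = true := allBelow_of_chunks (fun c hc => by
    interval_cases c
    · exact cG8_0
    · exact cG8_1
    · exact cG8_2
    · exact cG8_3
    · exact cG8_4
    · exact cG8_5
    · exact cG8_6
    · exact cG8_7
    · exact cG8_8
  )
set_option maxRecDepth 100000 in
theorem cG12_0 : chunk (chkG tab N (gC 12) (T 12)) 2584 0 = true := by decide +kernel
set_option maxRecDepth 100000 in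
theorem cG12_1 : chunk (chkG tab N (gC 12) (T 12)) 2584 1 = true := by decide +kernel
set_option maxRecDepth 100000 in
theorem cG12_2 : chunk (chkG tab N (gC 12) (T 12)) 2584 2 = true := by decide +kernel
set_option maxRecDepth 100000 in
theorem cG12_3 : chunk (chkG tab N (gC 12) (T 12)) 2584 3 = true := by decide +kernel
set_option maxRecDepth 100000 in
theorem cG12_4 : chunk (chkG tab N (gC 12) (T 12)) 2584 4 = true := by decide +kernel
set_option maxRecDepth 100000 in
theorem cG12_5 : chunk (chkG tab N (gC 12) (T 12)) 2584 5 = true := by decide +kernel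
set_option maxRecDepth 100000 in
theorem cG12_6 : chunk (chkG tab N (gC 12) (T 12)) 2584 6 = true := by decide +kernel
set_option maxRecDepth 100000 in
theorem cG12_7 : chunk (chkG tab N (gC 12) (T 12)) 2584 7 = true := by decide +kernel
set_option maxRecDepth 100000 in
theorem cG12_8 : chunk (chkG tab N (gC 12) (T 12)) 2584 8 = true := by decide +kernel
theorem gG12 : allBelow (chkG tab N (gC 12) (T 12)) (9 * 2584) = true := allBelow_of_chunks (fun c hc => by
    interval_cases c
    · exact cG12_0
    · exact cG12_1
    · exact cG12_2
    · exact cG12_3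
    · exact cG12_4
    · exact cG12_5
    · exact cG12_6
    · exact cG12_7
    · exact cG12_8
  )
set_option maxRecDepth 100000 in
theorem cG16_0 : chunk (chkG tab N (gC 16) (T 16)) 2584 0 = true := by decide +kernel
set_option maxRecDepth 100000 in
theorem cG16_1 : chunk (chkG tab N (gC 16) (T 16)) 2584 1 = true := by decide +kernel
set_option maxRecDepth 100000 in
theorem cG16_2 : chunk (chkG tab N (gC 16) (T 16)) 2584 2 = true := by decide +kernel
set_option maxRecDepth 100000 in
theorem cG16_3 : chunk (chkG tab N (gC 16) (T 16)) 2584 3 = true := by decide +kernel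
set_option maxRecDepth 100000 in
theorem cG16_4 : chunk (chkG tab N (gC 16) (T 16)) 2584 4 = true := by decide +kernel
set_option maxRecDepth 100000 in
theorem cG16_5 : chunk (chkG tab N (gC 16) (T 16)) 2584 5 = true := by decide +kernel
set_option maxRecDepth 100000 in
theorem cG16_6 : chunk (chkG tab N (gC 16) (T 16)) 2584 6 = true := by decide +kernel
set_option maxRecDepth 100000 in
theorem cG16_7 : chunk (chkG tab N (gC 16) (T 16)) 2584 7 = true := by decide +kernel
set_option maxRecDepth 100000 in
theorem cG16_8 : chunk (chkG tab N (gC 16) (T 16)) 2584 8 = true := by decide +kernel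
theorem gG16 : allBelow (chkG tab N (gC 16) (T 16)) (9 * 2584) = true := allBelow_of_chunks (fun c hc => by
    interval_cases c
    · exact cG16_0
    · exact cG16_1
    · exact cG16_2
    · exact cG16_3
    · exact cG16_4
    · exact cG16_5
    · exact cG16_6
    · exact cG16_7
    · exact cG16_8
  )
set_option maxRecDepth 100000 in
theorem cG20_0 : chunk (chkG tab N (gC 20) (T 20)) 2584 0 = true := by decide +kernel
set_option maxRecDepth 100000 in
theorem cG20_1 : chunk (chkG tab N (gC 20) (T 20)) 2584 1 = true := by decide +kernel
set_option maxRecDepth 100000 in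
theorem cG20_2 : chunk (chkG tab N (gC 20) (T 20)) 2584 2 = true := by decide +kernel
set_option maxRecDepth 100000 in
theorem cG20_3 : chunk (chkG tab N (gC 20) (T 20)) 2584 3 = true := by decide +kernel
set_option maxRecDepth 100000 in
theorem cG20_4 : chunk (chkG tab N (gC 20) (T 20)) 2584 4 = true := by decide +kernel
set_option maxRecDepth 100000 in
theorem cG20_5 : chunk (chkG tab N (gC 20) (T 20)) 2584 5 = true := by decide +kernel
set_option maxRecDepth 100000 in
theorem cG20_6 : chunk (chkG tab N (gC 20) (T 20)) 2584 6 = true := by decide +kernel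
set_option maxRecDepth 100000 in
theorem cG20_7 : chunk (chkG tab N (gC 20) (T 20)) 2584 7 = true := by decide +kernel
set_option maxRecDepth 100000 in
theorem cG20_8 : chunk (chkG tab N (gC 20) (T 20)) 2584 8 = true := by decide +kernel
theorem gG20 : allBelow (chkG tab N (gC 20) (T 20)) (9 * 2584) = true := allBelow_of_chunks (fun c hc => by
    interval_cases c
    · exact cG20_0
    · exact cG20_1
    · exact cG20_2
    · exact cG20_3
    · exact cG20_4
    · exact cG20_5
    · exact cG20_6
    · exact cG20_7
    · exact cG20_8
  )
set_option maxRecDepth 100000 in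
theorem cG24_0 : chunk (chkG tab N (gC 24) (T 24)) 2584 0 = true := by decide +kernel
set_option maxRecDepth 100000 in
theorem cG24_1 : chunk (chkG tab N (gC 24) (T 24)) 2584 1 = true := by decide +kernel
set_option maxRecDepth 100000 in
theorem cG24_2 : chunk (chkG tab N (gC 24) (T 24)) 2584 2 = true := by decide +kernel
set_option maxRecDepth 100000 in
theorem cG24_3 : chunk (chkG tab N (gC 24) (T 24)) 2584 3 = true := by decide +kernel
set_option maxRecDepth 100000 in
theorem cG24_4 : chunk (chkG tab N (gC 24) (T 24)) 2584 4 = true := by decide +kernel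
set_option maxRecDepth 100000 in
theorem cG24_5 : chunk (chkG tab N (gC 24) (T 24)) 2584 5 = true := by decide +kernel
set_option maxRecDepth 100000 in
theorem cG24_6 : chunk (chkG tab N (gC 24) (T 24)) 2584 6 = true := by decide +kernel
set_option maxRecDepth 100000 in
theorem cG24_7 : chunk (chkG tab N (gC 24) (T 24)) 2584 7 = true := by decide +kernel
set_option maxRecDepth 100000 in
theorem cG24_8 : chunk (chkG tab N (gC 24) (T 24)) 2584 8 = true := by decide +kernel
theorem gG24 : allBelow (chkG tab N (gC 24) (T 24)) (9 * 2584) = true := allBelow_of_chunks (fun c hc => by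
    interval_cases c
    · exact cG24_0
    · exact cG24_1
    · exact cG24_2
    · exact cG24_3
    · exact cG24_4
    · exact cG24_5
    · exact cG24_6
    · exact cG24_7
    · exact cG24_8
  )
set_option maxRecDepth 100000 in
theorem cG28_0 : chunk (chkG tab N (gC 28) (T 28)) 2584 0 = true := by decide +kernel
set_option maxRecDepth 100000 in
theorem cG28_1 : chunk (chkG tab N (gC 28) (T 28)) 2584 1 = true := by decide +kernel
set_option maxRecDepth 100000 in
theorem cG28_2 : chunk (chkG tab N (gC 28) (T 28)) 2584 2 = true := by decide +kernel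
set_option maxRecDepth 100000 in
theorem cG28_3 : chunk (chkG tab N (gC 28) (T 28)) 2584 3 = true := by decide +kernel
set_option maxRecDepth 100000 in
theorem cG28_4 : chunk (chkG tab N (gC 28) (T 28)) 2584 4 = true := by decide +kernel
set_option maxRecDepth 100000 in
theorem cG28_5 : chunk (chkG tab N (gC 28) (T 28)) 2584 5 = true := by decide +kernel
set_option maxRecDepth 100000 in
theorem cG28_6 : chunk (chkG tab N (gC 28) (T 28)) 2584 6 = true := by decide +kernel
set_option maxRecDepth 100000 in
theorem cG28_7 : chunk (chkG tab N (gC 28) (T 28)) 2584 7 = true := by decide +kernel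
set_option maxRecDepth 100000 in
theorem cG28_8 : chunk (chkG tab N (gC 28) (T 28)) 2584 8 = true := by decide +kernel
theorem gG28 : allBelow (chkG tab N (gC 28) (T 28)) (9 * 2584) = true := allBelow_of_chunks (fun c hc => by
    interval_cases c
    · exact cG28_0
    · exact cG28_1
    · exact cG28_2
    · exact cG28_3
    · exact cG28_4
    · exact cG28_5
    · exact cG28_6
    · exact cG28_7
    · exact cG28_8
  )
set_option maxRecDepth 100000 in
theorem cG32_0 : chunk (chkG tab N (gC 32) (T 32)) 2584 0 = true := by decide +kernel
set_option maxRecDepth 100000 in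
theorem cG32_1 : chunk (chkG tab N (gC 32) (T 32)) 2584 1 = true := by decide +kernel
set_option maxRecDepth 100000 in
theorem cG32_2 : chunk (chkG tab N (gC 32) (T 32)) 2584 2 = true := by decide +kernel
set_option maxRecDepth 100000 in
theorem cG32_3 : chunk (chkG tab N (gC 32) (T 32)) 2584 3 = true := by decide +kernel
set_option maxRecDepth 100000 in
theorem cG32_4 : chunk (chkG tab N (gC 32) (T 32)) 2584 4 = true := by decide +kernel
set_option maxRecDepth 100000 in
theorem cG32_5 : chunk (chkG tab N (gC 32) (T 32)) 2584 5 = true := by decide +kernel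
set_option maxRecDepth 100000 in
theorem cG32_6 : chunk (chkG tab N (gC 32) (T 32)) 2584 6 = true := by decide +kernel
set_option maxRecDepth 100000 in
theorem cG32_7 : chunk (chkG tab N (gC 32) (T 32)) 2584 7 = true := by decide +kernel
set_option maxRecDepth 100000 in
theorem cG32_8 : chunk (chkG tab N (gC 32) (T 32)) 2584 8 = true := by decide +kernel
theorem gG32 : allBelow (chkG tab N (gC 32) (T 32)) (9 * 2584) = true := allBelow_of_chunks (fun c hc => by
    interval_cases c
    · exact cG32_0
    · exact cG32_1
    · exact cG32_2
    · exact cG32_3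
    · exact cG32_4
    · exact cG32_5
    · exact cG32_6
    · exact cG32_7
    · exact cG32_8
  )
set_option maxRecDepth 100000 in
theorem cG36_0 : chunk (chkG tab N (gC 36) (T 36)) 2584 0 = true := by decide +kernel
set_option maxRecDepth 100000 in
theorem cG36_1 : chunk (chkG tab N (gC 36) (T 36)) 2584 1 = true := by decide +kernel
set_option maxRecDepth 100000 in
theorem cG36_2 : chunk (chkG tab N (gC 36) (T 36)) 2584 2 = true := by decide +kernel
set_option maxRecDepth 100000 in
theorem cG36_3 : chunk (chkG tab N (gC 36) (T 36)) 2584 3 = true := by decide +kernel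
set_option maxRecDepth 100000 in
theorem cG36_4 : chunk (chkG tab N (gC 36) (T 36)) 2584 4 = true := by decide +kernel
set_option maxRecDepth 100000 in
theorem cG36_5 : chunk (chkG tab N (gC 36) (T 36)) 2584 5 = true := by decide +kernel
set_option maxRecDepth 100000 in
theorem cG36_6 : chunk (chkG tab N (gC 36) (T 36)) 2584 6 = true := by decide +kernel
set_option maxRecDepth 100000 in
theorem cG36_7 : chunk (chkG tab N (gC 36) (T 36)) 2584 7 = true := by decide +kernel
set_option maxRecDepth 100000 in
theorem cG36_8 : chunk (chkG tab N (gC 36) (T 36)) 2584 8 = true := by decide +kernel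
theorem gG36 : allBelow (chkG tab N (gC 36) (T 36)) (9 * 2584) = true := allBelow_of_chunks (fun c hc => by
    interval_cases c
    · exact cG36_0
    · exact cG36_1
    · exact cG36_2
    · exact cG36_3
    · exact cG36_4
    · exact cG36_5
    · exact cG36_6
    · exact cG36_7
    · exact cG36_8
  )
set_option maxRecDepth 100000 in
theorem cG40_0 : chunk (chkG tab N (gC 40) (T 40)) 2584 0 = true := by decide +kernel
set_option maxRecDepth 100000 in
theorem cG40_1 : chunk (chkG tab N (gC 40) (T 40)) 2584 1 = true := by decide +kernel
set_option maxRecDepth 100000 in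
theorem cG40_2 : chunk (chkG tab N (gC 40) (T 40)) 2584 2 = true := by decide +kernel
set_option maxRecDepth 100000 in
theorem cG40_3 : chunk (chkG tab N (gC 40) (T 40)) 2584 3 = true := by decide +kernel
set_option maxRecDepth 100000 in
theorem cG40_4 : chunk (chkG tab N (gC 40) (T 40)) 2584 4 = true := by decide +kernel
set_option maxRecDepth 100000 in
theorem cG40_5 : chunk (chkG tab N (gC 40) (T 40)) 2584 5 = true := by decide +kernel
set_option maxRecDepth 100000 in
theorem cG40_6 : chunk (chkG tab N (gC 40) (T 40)) 2584 6 = true := by decide +kernel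
set_option maxRecDepth 100000 in
theorem cG40_7 : chunk (chkG tab N (gC 40) (T 40)) 2584 7 = true := by decide +kernel
set_option maxRecDepth 100000 in
theorem cG40_8 : chunk (chkG tab N (gC 40) (T 40)) 2584 8 = true := by decide +kernel
theorem gG40 : allBelow (chkG tab N (gC 40) (T 40)) (9 * 2584) = true := allBelow_of_chunks (fun c hc => by
    interval_cases c
    · exact cG40_0
    · exact cG40_1
    · exact cG40_2
    · exact cG40_3
    · exact cG40_4
    · exact cG40_5
    · exact cG40_6
    · exact cG40_7
    · exact cG40_8
  )
set_option maxRecDepth 100000 in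
theorem cG44_0 : chunk (chkG tab N (gC 44) (T 44)) 2584 0 = true := by decide +kernel
set_option maxRecDepth 100000 in
theorem cG44_1 : chunk (chkG tab N (gC 44) (T 44)) 2584 1 = true := by decide +kernel
set_option maxRecDepth 100000 in
theorem cG44_2 : chunk (chkG tab N (gC 44) (T 44)) 2584 2 = true := by decide +kernel
set_option maxRecDepth 100000 in
theorem cG44_3 : chunk (chkG tab N (gC 44) (T 44)) 2584 3 = true := by decide +kernel
set_option maxRecDepth 100000 in
theorem cG44_4 : chunk (chkG tab N (gC 44) (T 44)) 2584 4 = true := by decide +kernel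
set_option maxRecDepth 100000 in
theorem cG44_5 : chunk (chkG tab N (gC 44) (T 44)) 2584 5 = true := by decide +kernel
set_option maxRecDepth 100000 in
theorem cG44_6 : chunk (chkG tab N (gC 44) (T 44)) 2584 6 = true := by decide +kernel
set_option maxRecDepth 100000 in
theorem cG44_7 : chunk (chkG tab N (gC 44) (T 44)) 2584 7 = true := by decide +kernel
set_option maxRecDepth 100000 in
theorem cG44_8 : chunk (chkG tab N (gC 44) (T 44)) 2584 8 = true := by decide +kernel
theorem gG44 : allBelow (chkG tab N (gC 44) (T 44)) (9 * 2584) = true := allBelow_of_chunks (fun c hc => by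
    interval_cases c
    · exact cG44_0
    · exact cG44_1
    · exact cG44_2
    · exact cG44_3
    · exact cG44_4
    · exact cG44_5
    · exact cG44_6
    · exact cG44_7
    · exact cG44_8
  )

end Cfsg.Agent.Lib.KnownSimple.J3
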