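import Cfsg.Agent.Lib.KnownSimple.J3.Defs

/-!
# The Janko group: checks of the tables of the generators
-/

set_option autoImplicit false

namespace Cfsg.Agent.Lib.KnownSimple.J3

open Cfsg Cfsg.Spor Cfsg.Agent.Lib.Compute Cfsg.Agent.Lib.KnownSimple.PE Cfsg.Agent.Lib.KnownSimple.Leech
open Cfsg.Agent.Lib.KnownSimple Cfsg.Agent.Lib.KnownSimple.AutRigid
open Cfsg.Agent.Lib.KnownSimple.J3Data

set_option maxRecDepth 100000 in
theorem cG1_0 : chunk (chkG tab N (gC 1) (T 1)) 2584 0 = true := by decide +kernel
set_option maxRecDepth 100000 in
theorem cG1_1 : chunk (chkG tab N (gC 1) (T 1)) 2584 1 = true := by decide +kernel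
set_option maxRecDepth 100000 in
theorem cG1_2 : chunk (chkG tab N (gC 1) (T 1)) 2584 2 = true := by decide +kernel
set_option maxRecDepth 100000 in
theorem cG1_3 : chunk (chkG tab N (gC 1) (T 1)) 2584 3 = true := by decide +kernel
set_option maxRecDepth 100000 in
theorem cG1_4 : chunk (chkG tab N (gC 1) (T 1)) 2584 4 = true := by decide +kernel
set_option maxRecDepth 100000 in
theorem cG1_5 : chunk (chkG tab N (gC 1) (T 1)) 2584 5 = true := by decide +kernel
set_option maxRecDepth 100000 in
theorem cG1_6 : chunk (chkG tab N (gC 1) (T 1)) 2584 6 = true := by decide +kernel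
set_option maxRecDepth 100000 in
theorem cG1_7 : chunk (chkG tab N (gC 1) (T 1)) 2584 7 = true := by decide +kernel
set_option maxRecDepth 100000 in
theorem cG1_8 : chunk (chkG tab N (gC 1) (T 1)) 2584 8 = true := by decide +kernel
theorem gG1 : allBelow (chkG tab N (gC 1) (T 1)) (9 * 2584) = true := allBelow_of_chunks (fun c hc => by
    interval_cases c
    · exact cG1_0
    · exact cG1_1
    · exact cG1_2
    · exact cG1_3
    · exact cG1_4
    · exact cG1_5
    · exact cG1_6
    · exact cG1_7
    · exact cG1_8
  )
set_option maxRecDepth 100000 in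
theorem cG5_0 : chunk (chkG tab N (gC 5) (T 5)) 2584 0 = true := by decide +kernel
set_option maxRecDepth 100000 in
theorem cG5_1 : chunk (chkG tab N (gC 5) (T 5)) 2584 1 = true := by decide +kernel
set_option maxRecDepth 100000 in
theorem cG5_2 : chunk (chkG tab N (gC 5) (T 5)) 2584 2 = true := by decide +kernel
set_option maxRecDepth 100000 in
theorem cG5_3 : chunk (chkG tab N (gC 5) (T 5)) 2584 3 = true := by decide +kernel
set_option maxRecDepth 100000 in
theorem cG5_4 : chunk (chkG tab N (gC 5) (T 5)) 2584 4 = true := by decide +kernel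
set_option maxRecDepth 100000 in
theorem cG5_5 : chunk (chkG tab N (gC 5) (T 5)) 2584 5 = true := by decide +kernel
set_option maxRecDepth 100000 in
theorem cG5_6 : chunk (chkG tab N (gC 5) (T 5)) 2584 6 = true := by decide +kernel
set_option maxRecDepth 100000 in
theorem cG5_7 : chunk (chkG tab N (gC 5) (T 5)) 2584 7 = true := by decide +kernel
set_option maxRecDepth 100000 in
theorem cG5_8 : chunk (chkG tab N (gC 5) (T 5)) 2584 8 = true := by decide +kernel
theorem gG5 : allBelow (chkG tab N (gC 5) (T 5)) (9 * 2584) = true := allBelow_of_chunks (fun c hc => by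
    interval_cases c
    · exact cG5_0
    · exact cG5_1
    · exact cG5_2
    · exact cG5_3
    · exact cG5_4
    · exact cG5_5
    · exact cG5_6
    · exact cG5_7
    · exact cG5_8
  )
set_option maxRecDepth 100000 in
theorem cG9_0 : chunk (chkG tab N (gC 9) (T 9)) 2584 0 = true := by decide +kernel
set_option maxRecDepth 100000 in
theorem cG9_1 : chunk (chkG tab N (gC 9) (T 9)) 2584 1 = true := by decide +kernel
set_option maxRecDepth 100000 in
theorem cG9_2 : chunk (chkG tab N (gC 9) (T 9)) 2584 2 = true := by decide +kernel
set_option maxRecDepth 100000 in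
theorem cG9_3 : chunk (chkG tab N (gC 9) (T 9)) 2584 3 = true := by decide +kernel
set_option maxRecDepth 100000 in
theorem cG9_4 : chunk (chkG tab N (gC 9) (T 9)) 2584 4 = true := by decide +kernel
set_option maxRecDepth 100000 in
theorem cG9_5 : chunk (chkG tab N (gC 9) (T 9)) 2584 5 = true := by decide +kernel
set_option maxRecDepth 100000 in
theorem cG9_6 : chunk (chkG tab N (gC 9) (T 9)) 2584 6 = true := by decide +kernel
set_option maxRecDepth 100000 in
theorem cG9_7 : chunk (chkG tab N (gC 9) (T 9)) 2584 7 = true := by decide +kernel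
set_option maxRecDepth 100000 in
theorem cG9_8 : chunk (chkG tab N (gC 9) (T 9)) 2584 8 = true := by decide +kernel
theorem gG9 : allBelow (chkG tab N (gC 9) (T 9)) (9 * 2584) = true := allBelow_of_chunks (fun c hc => by
    interval_cases c
    · exact cG9_0
    · exact cG9_1
    · exact cG9_2
    · exact cG9_3
    · exact cG9_4
    · exact cG9_5
    · exact cG9_6
    · exact cG9_7
    · exact cG9_8
  )
set_option maxRecDepth 100000 in
theorem cG13_0 : chunk (chkG tab N (gC 13) (T 13)) 2584 0 = true := by decide +kernel
set_option maxRecDepth 100000 in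
theorem cG13_1 : chunk (chkG tab N (gC 13) (T 13)) 2584 1 = true := by decide +kernel
set_option maxRecDepth 100000 in
theorem cG13_2 : chunk (chkG tab N (gC 13) (T 13)) 2584 2 = true := by decide +kernel
set_option maxRecDepth 100000 in
theorem cG13_3 : chunk (chkG tab N (gC 13) (T 13)) 2584 3 = true := by decide +kernel
set_option maxRecDepth 100000 in
theorem cG13_4 : chunk (chkG tab N (gC 13) (T 13)) 2584 4 = true := by decide +kernel
set_option maxRecDepth 100000 in
theorem cG13_5 : chunk (chkG tab N (gC 13) (T 13)) 2584 5 = true := by decide +kernel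
set_option maxRecDepth 100000 in
theorem cG13_6 : chunk (chkG tab N (gC 13) (T 13)) 2584 6 = true := by decide +kernel
set_option maxRecDepth 100000 in
theorem cG13_7 : chunk (chkG tab N (gC 13) (T 13)) 2584 7 = true := by decide +kernel
set_option maxRecDepth 100000 in
theorem cG13_8 : chunk (chkG tab N (gC 13) (T 13)) 2584 8 = true := by decide +kernel
theorem gG13 : allBelow (chkG tab N (gC 13) (T 13)) (9 * 2584) = true := allBelow_of_chunks (fun c hc => by
    interval_cases c
    · exact cG13_0
    · exact cG13_1
    · exact cG13_2
    · exact cG13_3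
    · exact cG13_4
    · exact cG13_5
    · exact cG13_6
    · exact cG13_7
    · exact cG13_8
  )
set_option maxRecDepth 100000 in
theorem cG17_0 : chunk (chkG tab N (gC 17) (T 17)) 2584 0 = true := by decide +kernel
set_option maxRecDepth 100000 in
theorem cG17_1 : chunk (chkG tab N (gC 17) (T 17)) 2584 1 = true := by decide +kernel
set_option maxRecDepth 100000 in
theorem cG17_2 : chunk (chkG tab N (gC 17) (T 17)) 2584 2 = true := by decide +kernel
set_option maxRecDepth 100000 in
theorem cG17_3 : chunk (chkG tab N (gC 17) (T 17)) 2584 3 = true := by decide +kernel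
set_option maxRecDepth 100000 in
theorem cG17_4 : chunk (chkG tab N (gC 17) (T 17)) 2584 4 = true := by decide +kernel
set_option maxRecDepth 100000 in
theorem cG17_5 : chunk (chkG tab N (gC 17) (T 17)) 2584 5 = true := by decide +kernel
set_option maxRecDepth 100000 in
theorem cG17_6 : chunk (chkG tab N (gC 17) (T 17)) 2584 6 = true := by decide +kernel
set_option maxRecDepth 100000 in
theorem cG17_7 : chunk (chkG tab N (gC 17) (T 17)) 2584 7 = true := by decide +kernel
set_option maxRecDepth 100000 in
theorem cG17_8 : chunk (chkG tab N (gC 17) (T 17)) 2584 8 = true := by decide +kernel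
theorem gG17 : allBelow (chkG tab N (gC 17) (T 17)) (9 * 2584) = true := allBelow_of_chunks (fun c hc => by
    interval_cases c
    · exact cG17_0
    · exact cG17_1
    · exact cG17_2
    · exact cG17_3
    · exact cG17_4
    · exact cG17_5
    · exact cG17_6
    · exact cG17_7
    · exact cG17_8
  )
set_option maxRecDepth 100000 in
theorem cG21_0 : chunk (chkG tab N (gC 21) (T 21)) 2584 0 = true := by decide +kernel
set_option maxRecDepth 100000 in
theorem cG21_1 : chunk (chkG tab N (gC 21) (T 21)) 2584 1 = true := by decide +kernel
set_option maxRecDepth 100000 in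
theorem cG21_2 : chunk (chkG tab N (gC 21) (T 21)) 2584 2 = true := by decide +kernel
set_option maxRecDepth 100000 in
theorem cG21_3 : chunk (chkG tab N (gC 21) (T 21)) 2584 3 = true := by decide +kernel
set_option maxRecDepth 100000 in
theorem cG21_4 : chunk (chkG tab N (gC 21) (T 21)) 2584 4 = true := by decide +kernel
set_option maxRecDepth 100000 in
theorem cG21_5 : chunk (chkG tab N (gC 21) (T 21)) 2584 5 = true := by decide +kernel
set_option maxRecDepth 100000 in
theorem cG21_6 : chunk (chkG tab N (gC 21) (T 21)) 2584 6 = true := by decide +kernel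
set_option maxRecDepth 100000 in
theorem cG21_7 : chunk (chkG tab N (gC 21) (T 21)) 2584 7 = true := by decide +kernel
set_option maxRecDepth 100000 in
theorem cG21_8 : chunk (chkG tab N (gC 21) (T 21)) 2584 8 = true := by decide +kernel
theorem gG21 : allBelow (chkG tab N (gC 21) (T 21)) (9 * 2584) = true := allBelow_of_chunks (fun c hc => by
    interval_cases c
    · exact cG21_0
    · exact cG21_1
    · exact cG21_2
    · exact cG21_3
    · exact cG21_4
    · exact cG21_5
    · exact cG21_6
    · exact cG21_7
    · exact cG21_8
  )
set_option maxRecDepth 100000 in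
theorem cG25_0 : chunk (chkG tab N (gC 25) (T 25)) 2584 0 = true := by decide +kernel
set_option maxRecDepth 100000 in
theorem cG25_1 : chunk (chkG tab N (gC 25) (T 25)) 2584 1 = true := by decide +kernel
set_option maxRecDepth 100000 in
theorem cG25_2 : chunk (chkG tab N (gC 25) (T 25)) 2584 2 = true := by decide +kernel
set_option maxRecDepth 100000 in
theorem cG25_3 : chunk (chkG tab N (gC 25) (T 25)) 2584 3 = true := by decide +kernel
set_option maxRecDepth 100000 in
theorem cG25_4 : chunk (chkG tab N (gC 25) (T 25)) 2584 4 = true := by decide +kernel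
set_option maxRecDepth 100000 in
theorem cG25_5 : chunk (chkG tab N (gC 25) (T 25)) 2584 5 = true := by decide +kernel
set_option maxRecDepth 100000 in
theorem cG25_6 : chunk (chkG tab N (gC 25) (T 25)) 2584 6 = true := by decide +kernel
set_option maxRecDepth 100000 in
theorem cG25_7 : chunk (chkG tab N (gC 25) (T 25)) 2584 7 = true := by decide +kernel
set_option maxRecDepth 100000 in
theorem cG25_8 : chunk (chkG tab N (gC 25) (T 25)) 2584 8 = true := by decide +kernel
theorem gG25 : allBelow (chkG tab N (gC 25) (T 25)) (9 * 2584) = true := allBelow_of_chunks (fun c hc => by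
    interval_cases c
    · exact cG25_0
    · exact cG25_1
    · exact cG25_2
    · exact cG25_3
    · exact cG25_4
    · exact cG25_5
    · exact cG25_6
    · exact cG25_7
    · exact cG25_8
  )
set_option maxRecDepth 100000 in
theorem cG29_0 : chunk (chkG tab N (gC 29) (T 29)) 2584 0 = true := by decide +kernel
set_option maxRecDepth 100000 in
theorem cG29_1 : chunk (chkG tab N (gC 29) (T 29)) 2584 1 = true := by decide +kernel
set_option maxRecDepth 100000 in
theorem cG29_2 : chunk (chkG tab N (gC 29) (T 29)) 2584 2 = true := by decide +kernel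
set_option maxRecDepth 100000 in
theorem cG29_3 : chunk (chkG tab N (gC 29) (T 29)) 2584 3 = true := by decide +kernel
set_option maxRecDepth 100000 in
theorem cG29_4 : chunk (chkG tab N (gC 29) (T 29)) 2584 4 = true := by decide +kernel
set_option maxRecDepth 100000 in
theorem cG29_5 : chunk (chkG tab N (gC 29) (T 29)) 2584 5 = true := by decide +kernel
set_option maxRecDepth 100000 in
theorem cG29_6 : chunk (chkG tab N (gC 29) (T 29)) 2584 6 = true := by decide +kernel
set_option maxRecDepth 100000 in
theorem cG29_7 : chunk (chkG tab N (gC 29) (T 29)) 2584 7 = true := by decide +kernel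
set_option maxRecDepth 100000 in
theorem cG29_8 : chunk (chkG tab N (gC 29) (T 29)) 2584 8 = true := by decide +kernel
theorem gG29 : allBelow (chkG tab N (gC 29) (T 29)) (9 * 2584) = true := allBelow_of_chunks (fun c hc => by
    interval_cases c
    · exact cG29_0
    · exact cG29_1
    · exact cG29_2
    · exact cG29_3
    · exact cG29_4
    · exact cG29_5
    · exact cG29_6
    · exact cG29_7
    · exact cG29_8
  )
set_option maxRecDepth 100000 in
theorem cG33_0 : chunk (chkG tab N (gC 33) (T 33)) 2584 0 = true := by decide +kernel
set_option maxRecDepth 100000 in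
theorem cG33_1 : chunk (chkG tab N (gC 33) (T 33)) 2584 1 = true := by decide +kernel
set_option maxRecDepth 100000 in
theorem cG33_2 : chunk (chkG tab N (gC 33) (T 33)) 2584 2 = true := by decide +kernel
set_option maxRecDepth 100000 in
theorem cG33_3 : chunk (chkG tab N (gC 33) (T 33)) 2584 3 = true := by decide +kernel
set_option maxRecDepth 100000 in
theorem cG33_4 : chunk (chkG tab N (gC 33) (T 33)) 2584 4 = true := by decide +kernel
set_option maxRecDepth 100000 in
theorem cG33_5 : chunk (chkG tab N (gC 33) (T 33)) 2584 5 = true := by decide +kernel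
set_option maxRecDepth 100000 in
theorem cG33_6 : chunk (chkG tab N (gC 33) (T 33)) 2584 6 = true := by decide +kernel
set_option maxRecDepth 100000 in
theorem cG33_7 : chunk (chkG tab N (gC 33) (T 33)) 2584 7 = true := by decide +kernel
set_option maxRecDepth 100000 in
theorem cG33_8 : chunk (chkG tab N (gC 33) (T 33)) 2584 8 = true := by decide +kernel
theorem gG33 : allBelow (chkG tab N (gC 33) (T 33)) (9 * 2584) = true := allBelow_of_chunks (fun c hc => by
    interval_cases c
    · exact cG33_0
    · exact cG33_1
    · exact cG33_2
    · exact cG33_3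
    · exact cG33_4
    · exact cG33_5
    · exact cG33_6
    · exact cG33_7
    · exact cG33_8
  )
set_option maxRecDepth 100000 in
theorem cG37_0 : chunk (chkG tab N (gC 37) (T 37)) 2584 0 = true := by decide +kernel
set_option maxRecDepth 100000 in
theorem cG37_1 : chunk (chkG tab N (gC 37) (T 37)) 2584 1 = true := by decide +kernel
set_option maxRecDepth 100000 in
theorem cG37_2 : chunk (chkG tab N (gC 37) (T 37)) 2584 2 = true := by decide +kernel
set_option maxRecDepth 100000 in
theorem cG37_3 : chunk (chkG tab N (gC 37) (T 37)) 2584 3 = true := by decide +kernel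
set_option maxRecDepth 100000 in
theorem cG37_4 : chunk (chkG tab N (gC 37) (T 37)) 2584 4 = true := by decide +kernel
set_option maxRecDepth 100000 in
theorem cG37_5 : chunk (chkG tab N (gC 37) (T 37)) 2584 5 = true := by decide +kernel
set_option maxRecDepth 100000 in
theorem cG37_6 : chunk (chkG tab N (gC 37) (T 37)) 2584 6 = true := by decide +kernel
set_option maxRecDepth 100000 in
theorem cG37_7 : chunk (chkG tab N (gC 37) (T 37)) 2584 7 = true := by decide +kernel
set_option maxRecDepth 100000 in
theorem cG37_8 : chunk (chkG tab N (gC 37) (T 37)) 2584 8 = true := by decide +kernel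
theorem gG37 : allBelow (chkG tab N (gC 37) (T 37)) (9 * 2584) = true := allBelow_of_chunks (fun c hc => by
    interval_cases c
    · exact cG37_0
    · exact cG37_1
    · exact cG37_2
    · exact cG37_3
    · exact cG37_4
    · exact cG37_5
    · exact cG37_6
    · exact cG37_7
    · exact cG37_8
  )
set_option maxRecDepth 100000 in
theorem cG41_0 : chunk (chkG tab N (gC 41) (T 41)) 2584 0 = true := by decide +kernel
set_option maxRecDepth 100000 in
theorem cG41_1 : chunk (chkG tab N (gC 41) (T 41)) 2584 1 = true := by decide +kernel
set_option maxRecDepth 100000 in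
theorem cG41_2 : chunk (chkG tab N (gC 41) (T 41)) 2584 2 = true := by decide +kernel
set_option maxRecDepth 100000 in
theorem cG41_3 : chunk (chkG tab N (gC 41) (T 41)) 2584 3 = true := by decide +kernel
set_option maxRecDepth 100000 in
theorem cG41_4 : chunk (chkG tab N (gC 41) (T 41)) 2584 4 = true := by decide +kernel
set_option maxRecDepth 100000 in
theorem cG41_5 : chunk (chkG tab N (gC 41) (T 41)) 2584 5 = true := by decide +kernel
set_option maxRecDepth 100000 in
theorem cG41_6 : chunk (chkG tab N (gC 41) (T 41)) 2584 6 = true := by decide +kernel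
set_option maxRecDepth 100000 in
theorem cG41_7 : chunk (chkG tab N (gC 41) (T 41)) 2584 7 = true := by decide +kernel
set_option maxRecDepth 100000 in
theorem cG41_8 : chunk (chkG tab N (gC 41) (T 41)) 2584 8 = true := by decide +kernel
theorem gG41 : allBelow (chkG tab N (gC 41) (T 41)) (9 * 2584) = true := allBelow_of_chunks (fun c hc => by
    interval_cases c
    · exact cG41_0
    · exact cG41_1
    · exact cG41_2
    · exact cG41_3
    · exact cG41_4
    · exact cG41_5
    · exact cG41_6
    · exact cG41_7
    · exact cG41_8
  )
set_option maxRecDepth 100000 in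
theorem cG45_0 : chunk (chkG tab N (gC 45) (T 45)) 2584 0 = true := by decide +kernel
set_option maxRecDepth 100000 in
theorem cG45_1 : chunk (chkG tab N (gC 45) (T 45)) 2584 1 = true := by decide +kernel
set_option maxRecDepth 100000 in
theorem cG45_2 : chunk (chkG tab N (gC 45) (T 45)) 2584 2 = true := by decide +kernel
set_option maxRecDepth 100000 in
theorem cG45_3 : chunk (chkG tab N (gC 45) (T 45)) 2584 3 = true := by decide +kernel
set_option maxRecDepth 100000 in
theorem cG45_4 : chunk (chkG tab N (gC 45) (T 45)) 2584 4 = true := by decide +kernel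
set_option maxRecDepth 100000 in
theorem cG45_5 : chunk (chkG tab N (gC 45) (T 45)) 2584 5 = true := by decide +kernel
set_option maxRecDepth 100000 in
theorem cG45_6 : chunk (chkG tab N (gC 45) (T 45)) 2584 6 = true := by decide +kernel
set_option maxRecDepth 100000 in
theorem cG45_7 : chunk (chkG tab N (gC 45) (T 45)) 2584 7 = true := by decide +kernel
set_option maxRecDepth 100000 in
theorem cG45_8 : chunk (chkG tab N (gC 45) (T 45)) 2584 8 = true := by decide +kernel
theorem gG45 : allBelow (chkG tab N (gC 45) (T 45)) (9 * 2584) = true := allBelow_of_chunks (fun c hc => by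
    interval_cases c
    · exact cG45_0
    · exact cG45_1
    · exact cG45_2
    · exact cG45_3
    · exact cG45_4
    · exact cG45_5
    · exact cG45_6
    · exact cG45_7
    · exact cG45_8
  )

end Cfsg.Agent.Lib.KnownSimple.J3
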