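import Cfsg.Agent.Lib.KnownSimple.J3.Defs

/-!
# The Janko group: checks of the tables of the generators
-/

set_option autoImplicit false

namespace Cfsg.Agent.Lib.KnownSimple.J3

open Cfsg Cfsg.Spor Cfsg.Agent.Lib.Compute Cfsg.Agent.Lib.KnownSimple.PE Cfsg.Agent.Lib.KnownSimple.Leech
open Cfsg.Agent.Lib.KnownSimple Cfsg.Agent.Lib.KnownSimple.AutRigid
open Cfsg.Agent.Lib.KnownSimple.J3Data

set_option maxRecDepth 100000 in
theorem cG2_0 : chunk (chkG tab N (gC 2) (T 2)) 2584 0 = true := by decide +kernel
set_option maxRecDepth 100000 in
theorem cG2_1 : chunk (chkG tab N (gC 2) (T 2)) 2584 1 = true := by decide +kernel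
set_option maxRecDepth 100000 in
theorem cG2_2 : chunk (chkG tab N (gC 2) (T 2)) 2584 2 = true := by decide +kernel
set_option maxRecDepth 100000 in
theorem cG2_3 : chunk (chkG tab N (gC 2) (T 2)) 2584 3 = true := by decide +kernel
set_option maxRecDepth 100000 in
theorem cG2_4 : chunk (chkG tab N (gC 2) (T 2)) 2584 4 = true := by decide +kernel
set_option maxRecDepth 100000 in
theorem cG2_5 : chunk (chkG tab N (gC 2) (T 2)) 2584 5 = true := by decide +kernel
set_option maxRecDepth 100000 in
theorem cG2_6 : chunk (chkG tab N (gC 2) (T 2)) 2584 6 = true := by decide +kernel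
set_option maxRecDepth 100000 in
theorem cG2_7 : chunk (chkG tab N (gC 2) (T 2)) 2584 7 = true := by decide +kernel
set_option maxRecDepth 100000 in
theorem cG2_8 : chunk (chkG tab N (gC 2) (T 2)) 2584 8 = true := by decide +kernel
theorem gG2 : allBelow (chkG tab N (gC 2) (T 2)) (9 * 2584) = true := allBelow_of_chunks (fun c hc => by
    interval_cases c
    · exact cG2_0
    · exact cG2_1
    · exact cG2_2
    · exact cG2_3
    · exact cG2_4
    · exact cG2_5
    · exact cG2_6
    · exact cG2_7
    · exact cG2_8
  )
set_option maxRecDepth 100000 in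
theorem cG6_0 : chunk (chkG tab N (gC 6) (T 6)) 2584 0 = true := by decide +kernel
set_option maxRecDepth 100000 in
theorem cG6_1 : chunk (chkG tab N (gC 6) (T 6)) 2584 1 = true := by decide +kernel
set_option maxRecDepth 100000 in
theorem cG6_2 : chunk (chkG tab N (gC 6) (T 6)) 2584 2 = true := by decide +kernel
set_option maxRecDepth 100000 in
theorem cG6_3 : chunk (chkG tab N (gC 6) (T 6)) 2584 3 = true := by decide +kernel
set_option maxRecDepth 100000 in
theorem cG6_4 : chunk (chkG tab N (gC 6) (T 6)) 2584 4 = true := by decide +kernel
set_option maxRecDepth 100000 in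
theorem cG6_5 : chunk (chkG tab N (gC 6) (T 6)) 2584 5 = true := by decide +kernel
set_option maxRecDepth 100000 in
theorem cG6_6 : chunk (chkG tab N (gC 6) (T 6)) 2584 6 = true := by decide +kernel
set_option maxRecDepth 100000 in
theorem cG6_7 : chunk (chkG tab N (gC 6) (T 6)) 2584 7 = true := by decide +kernel
set_option maxRecDepth 100000 in
theorem cG6_8 : chunk (chkG tab N (gC 6) (T 6)) 2584 8 = true := by decide +kernel
theorem gG6 : allBelow (chkG tab N (gC 6) (T 6)) (9 * 2584) = true := allBelow_of_chunks (fun c hc => by
    interval_cases c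
    · exact cG6_0
    · exact cG6_1
    · exact cG6_2
    · exact cG6_3
    · exact cG6_4
    · exact cG6_5
    · exact cG6_6
    · exact cG6_7
    · exact cG6_8
  )
set_option maxRecDepth 100000 in
theorem cG10_0 : chunk (chkG tab N (gC 10) (T 10)) 2584 0 = true := by decide +kernel
set_option maxRecDepth 100000 in
theorem cG10_1 : chunk (chkG tab N (gC 10) (T 10)) 2584 1 = true := by decide +kernel
set_option maxRecDepth 100000 in
theorem cG10_2 : chunk (chkG tab N (gC 10) (T 10)) 2584 2 = true := by decide +kernel
set_option maxRecDepth 100000 in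
theorem cG10_3 : chunk (chkG tab N (gC 10) (T 10)) 2584 3 = true := by decide +kernel
set_option maxRecDepth 100000 in
theorem cG10_4 : chunk (chkG tab N (gC 10) (T 10)) 2584 4 = true := by decide +kernel
set_option maxRecDepth 100000 in
theorem cG10_5 : chunk (chkG tab N (gC 10) (T 10)) 2584 5 = true := by decide +kernel
set_option maxRecDepth 100000 in
theorem cG10_6 : chunk (chkG tab N (gC 10) (T 10)) 2584 6 = true := by decide +kernel
set_option maxRecDepth 100000 in
theorem cG10_7 : chunk (chkG tab N (gC 10) (T 10)) 2584 7 = true := by decide +kernel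
set_option maxRecDepth 100000 in
theorem cG10_8 : chunk (chkG tab N (gC 10) (T 10)) 2584 8 = true := by decide +kernel
theorem gG10 : allBelow (chkG tab N (gC 10) (T 10)) (9 * 2584) = true := allBelow_of_chunks (fun c hc => by
    interval_cases c
    · exact cG10_0
    · exact cG10_1
    · exact cG10_2
    · exact cG10_3
    · exact cG10_4
    · exact cG10_5
    · exact cG10_6
    · exact cG10_7
    · exact cG10_8
  )
set_option maxRecDepth 100000 in
theorem cG14_0 : chunk (chkG tab N (gC 14) (T 14)) 2584 0 = true := by decide +kernel
set_option maxRecDepth 100000 in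
theorem cG14_1 : chunk (chkG tab N (gC 14) (T 14)) 2584 1 = true := by decide +kernel
set_option maxRecDepth 100000 in
theorem cG14_2 : chunk (chkG tab N (gC 14) (T 14)) 2584 2 = true := by decide +kernel
set_option maxRecDepth 100000 in
theorem cG14_3 : chunk (chkG tab N (gC 14) (T 14)) 2584 3 = true := by decide +kernel
set_option maxRecDepth 100000 in
theorem cG14_4 : chunk (chkG tab N (gC 14) (T 14)) 2584 4 = true := by decide +kernel
set_option maxRecDepth 100000 in
theorem cG14_5 : chunk (chkG tab N (gC 14) (T 14)) 2584 5 = true := by decide +kernel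
set_option maxRecDepth 100000 in
theorem cG14_6 : chunk (chkG tab N (gC 14) (T 14)) 2584 6 = true := by decide +kernel
set_option maxRecDepth 100000 in
theorem cG14_7 : chunk (chkG tab N (gC 14) (T 14)) 2584 7 = true := by decide +kernel
set_option maxRecDepth 100000 in
theorem cG14_8 : chunk (chkG tab N (gC 14) (T 14)) 2584 8 = true := by decide +kernel
theorem gG14 : allBelow (chkG tab N (gC 14) (T 14)) (9 * 2584) = true := allBelow_of_chunks (fun c hc => by
    interval_cases c
    · exact cG14_0
    · exact cG14_1
    · exact cG14_2
    · exact cG14_3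
    · exact cG14_4
    · exact cG14_5
    · exact cG14_6
    · exact cG14_7
    · exact cG14_8
  )
set_option maxRecDepth 100000 in
theorem cG18_0 : chunk (chkG tab N (gC 18) (T 18)) 2584 0 = true := by decide +kernel
set_option maxRecDepth 100000 in
theorem cG18_1 : chunk (chkG tab N (gC 18) (T 18)) 2584 1 = true := by decide +kernel
set_option maxRecDepth 100000 in
theorem cG18_2 : chunk (chkG tab N (gC 18) (T 18)) 2584 2 = true := by decide +kernel
set_option maxRecDepth 100000 in
theorem cG18_3 : chunk (chkG tab N (gC 18) (T 18)) 2584 3 = true := by decide +kernel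
set_option maxRecDepth 100000 in
theorem cG18_4 : chunk (chkG tab N (gC 18) (T 18)) 2584 4 = true := by decide +kernel
set_option maxRecDepth 100000 in
theorem cG18_5 : chunk (chkG tab N (gC 18) (T 18)) 2584 5 = true := by decide +kernel
set_option maxRecDepth 100000 in
theorem cG18_6 : chunk (chkG tab N (gC 18) (T 18)) 2584 6 = true := by decide +kernel
set_option maxRecDepth 100000 in
theorem cG18_7 : chunk (chkG tab N (gC 18) (T 18)) 2584 7 = true := by decide +kernel
set_option maxRecDepth 100000 in
theorem cG18_8 : chunk (chkG tab N (gC 18) (T 18)) 2584 8 = true := by decide +kernel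
theorem gG18 : allBelow (chkG tab N (gC 18) (T 18)) (9 * 2584) = true := allBelow_of_chunks (fun c hc => by
    interval_cases c
    · exact cG18_0
    · exact cG18_1
    · exact cG18_2
    · exact cG18_3
    · exact cG18_4
    · exact cG18_5
    · exact cG18_6
    · exact cG18_7
    · exact cG18_8
  )
set_option maxRecDepth 100000 in
theorem cG22_0 : chunk (chkG tab N (gC 22) (T 22)) 2584 0 = true := by decide +kernel
set_option maxRecDepth 100000 in
theorem cG22_1 : chunk (chkG tab N (gC 22) (T 22)) 2584 1 = true := by decide +kernel
set_option maxRecDepth 100000 in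
theorem cG22_2 : chunk (chkG tab N (gC 22) (T 22)) 2584 2 = true := by decide +kernel
set_option maxRecDepth 100000 in
theorem cG22_3 : chunk (chkG tab N (gC 22) (T 22)) 2584 3 = true := by decide +kernel
set_option maxRecDepth 100000 in
theorem cG22_4 : chunk (chkG tab N (gC 22) (T 22)) 2584 4 = true := by decide +kernel
set_option maxRecDepth 100000 in
theorem cG22_5 : chunk (chkG tab N (gC 22) (T 22)) 2584 5 = true := by decide +kernel
set_option maxRecDepth 100000 in
theorem cG22_6 : chunk (chkG tab N (gC 22) (T 22)) 2584 6 = true := by decide +kernel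
set_option maxRecDepth 100000 in
theorem cG22_7 : chunk (chkG tab N (gC 22) (T 22)) 2584 7 = true := by decide +kernel
set_option maxRecDepth 100000 in
theorem cG22_8 : chunk (chkG tab N (gC 22) (T 22)) 2584 8 = true := by decide +kernel
theorem gG22 : allBelow (chkG tab N (gC 22) (T 22)) (9 * 2584) = true := allBelow_of_chunks (fun c hc => by
    interval_cases c
    · exact cG22_0
    · exact cG22_1
    · exact cG22_2
    · exact cG22_3
    · exact cG22_4
    · exact cG22_5
    · exact cG22_6
    · exact cG22_7
    · exact cG22_8
  )
set_option maxRecDepth 100000 in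
theorem cG26_0 : chunk (chkG tab N (gC 26) (T 26)) 2584 0 = true := by decide +kernel
set_option maxRecDepth 100000 in
theorem cG26_1 : chunk (chkG tab N (gC 26) (T 26)) 2584 1 = true := by decide +kernel
set_option maxRecDepth 100000 in
theorem cG26_2 : chunk (chkG tab N (gC 26) (T 26)) 2584 2 = true := by decide +kernel
set_option maxRecDepth 100000 in
theorem cG26_3 : chunk (chkG tab N (gC 26) (T 26)) 2584 3 = true := by decide +kernel
set_option maxRecDepth 100000 in
theorem cG26_4 : chunk (chkG tab N (gC 26) (T 26)) 2584 4 = true := by decide +kernel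
set_option maxRecDepth 100000 in
theorem cG26_5 : chunk (chkG tab N (gC 26) (T 26)) 2584 5 = true := by decide +kernel
set_option maxRecDepth 100000 in
theorem cG26_6 : chunk (chkG tab N (gC 26) (T 26)) 2584 6 = true := by decide +kernel
set_option maxRecDepth 100000 in
theorem cG26_7 : chunk (chkG tab N (gC 26) (T 26)) 2584 7 = true := by decide +kernel
set_option maxRecDepth 100000 in
theorem cG26_8 : chunk (chkG tab N (gC 26) (T 26)) 2584 8 = true := by decide +kernel
theorem gG26 : allBelow (chkG tab N (gC 26) (T 26)) (9 * 2584) = true := allBelow_of_chunks (fun c hc => by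
    interval_cases c
    · exact cG26_0
    · exact cG26_1
    · exact cG26_2
    · exact cG26_3
    · exact cG26_4
    · exact cG26_5
    · exact cG26_6
    · exact cG26_7
    · exact cG26_8
  )
set_option maxRecDepth 100000 in
theorem cG30_0 : chunk (chkG tab N (gC 30) (T 30)) 2584 0 = true := by decide +kernel
set_option maxRecDepth 100000 in
theorem cG30_1 : chunk (chkG tab N (gC 30) (T 30)) 2584 1 = true := by decide +kernel
set_option maxRecDepth 100000 in
theorem cG30_2 : chunk (chkG tab N (gC 30) (T 30)) 2584 2 = true := by decide +kernel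
set_option maxRecDepth 100000 in
theorem cG30_3 : chunk (chkG tab N (gC 30) (T 30)) 2584 3 = true := by decide +kernel
set_option maxRecDepth 100000 in
theorem cG30_4 : chunk (chkG tab N (gC 30) (T 30)) 2584 4 = true := by decide +kernel
set_option maxRecDepth 100000 in
theorem cG30_5 : chunk (chkG tab N (gC 30) (T 30)) 2584 5 = true := by decide +kernel
set_option maxRecDepth 100000 in
theorem cG30_6 : chunk (chkG tab N (gC 30) (T 30)) 2584 6 = true := by decide +kernel
set_option maxRecDepth 100000 in
theorem cG30_7 : chunk (chkG tab N (gC 30) (T 30)) 2584 7 = true := by decide +kernel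
set_option maxRecDepth 100000 in
theorem cG30_8 : chunk (chkG tab N (gC 30) (T 30)) 2584 8 = true := by decide +kernel
theorem gG30 : allBelow (chkG tab N (gC 30) (T 30)) (9 * 2584) = true := allBelow_of_chunks (fun c hc => by
    interval_cases c
    · exact cG30_0
    · exact cG30_1
    · exact cG30_2
    · exact cG30_3
    · exact cG30_4
    · exact cG30_5
    · exact cG30_6
    · exact cG30_7
    · exact cG30_8
  )
set_option maxRecDepth 100000 in
theorem cG34_0 : chunk (chkG tab N (gC 34) (T 34)) 2584 0 = true := by decide +kernel
set_option maxRecDepth 100000 in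
theorem cG34_1 : chunk (chkG tab N (gC 34) (T 34)) 2584 1 = true := by decide +kernel
set_option maxRecDepth 100000 in
theorem cG34_2 : chunk (chkG tab N (gC 34) (T 34)) 2584 2 = true := by decide +kernel
set_option maxRecDepth 100000 in
theorem cG34_3 : chunk (chkG tab N (gC 34) (T 34)) 2584 3 = true := by decide +kernel
set_option maxRecDepth 100000 in
theorem cG34_4 : chunk (chkG tab N (gC 34) (T 34)) 2584 4 = true := by decide +kernel
set_option maxRecDepth 100000 in
theorem cG34_5 : chunk (chkG tab N (gC 34) (T 34)) 2584 5 = true := by decide +kernel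
set_option maxRecDepth 100000 in
theorem cG34_6 : chunk (chkG tab N (gC 34) (T 34)) 2584 6 = true := by decide +kernel
set_option maxRecDepth 100000 in
theorem cG34_7 : chunk (chkG tab N (gC 34) (T 34)) 2584 7 = true := by decide +kernel
set_option maxRecDepth 100000 in
theorem cG34_8 : chunk (chkG tab N (gC 34) (T 34)) 2584 8 = true := by decide +kernel
theorem gG34 : allBelow (chkG tab N (gC 34) (T 34)) (9 * 2584) = true := allBelow_of_chunks (fun c hc => by
    interval_cases c
    · exact cG34_0
    · exact cG34_1
    · exact cG34_2
    · exact cG34_3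
    · exact cG34_4
    · exact cG34_5
    · exact cG34_6
    · exact cG34_7
    · exact cG34_8
  )
set_option maxRecDepth 100000 in
theorem cG38_0 : chunk (chkG tab N (gC 38) (T 38)) 2584 0 = true := by decide +kernel
set_option maxRecDepth 100000 in
theorem cG38_1 : chunk (chkG tab N (gC 38) (T 38)) 2584 1 = true := by decide +kernel
set_option maxRecDepth 100000 in
theorem cG38_2 : chunk (chkG tab N (gC 38) (T 38)) 2584 2 = true := by decide +kernel
set_option maxRecDepth 100000 in
theorem cG38_3 : chunk (chkG tab N (gC 38) (T 38)) 2584 3 = true := by decide +kernel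
set_option maxRecDepth 100000 in
theorem cG38_4 : chunk (chkG tab N (gC 38) (T 38)) 2584 4 = true := by decide +kernel
set_option maxRecDepth 100000 in
theorem cG38_5 : chunk (chkG tab N (gC 38) (T 38)) 2584 5 = true := by decide +kernel
set_option maxRecDepth 100000 in
theorem cG38_6 : chunk (chkG tab N (gC 38) (T 38)) 2584 6 = true := by decide +kernel
set_option maxRecDepth 100000 in
theorem cG38_7 : chunk (chkG tab N (gC 38) (T 38)) 2584 7 = true := by decide +kernel
set_option maxRecDepth 100000 in
theorem cG38_8 : chunk (chkG tab N (gC 38) (T 38)) 2584 8 = true := by decide +kernel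
theorem gG38 : allBelow (chkG tab N (gC 38) (T 38)) (9 * 2584) = true := allBelow_of_chunks (fun c hc => by
    interval_cases c
    · exact cG38_0
    · exact cG38_1
    · exact cG38_2
    · exact cG38_3
    · exact cG38_4
    · exact cG38_5
    · exact cG38_6
    · exact cG38_7
    · exact cG38_8
  )
set_option maxRecDepth 100000 in
theorem cG42_0 : chunk (chkG tab N (gC 42) (T 42)) 2584 0 = true := by decide +kernel
set_option maxRecDepth 100000 in
theorem cG42_1 : chunk (chkG tab N (gC 42) (T 42)) 2584 1 = true := by decide +kernel
set_option maxRecDepth 100000 in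
theorem cG42_2 : chunk (chkG tab N (gC 42) (T 42)) 2584 2 = true := by decide +kernel
set_option maxRecDepth 100000 in
theorem cG42_3 : chunk (chkG tab N (gC 42) (T 42)) 2584 3 = true := by decide +kernel
set_option maxRecDepth 100000 in
theorem cG42_4 : chunk (chkG tab N (gC 42) (T 42)) 2584 4 = true := by decide +kernel
set_option maxRecDepth 100000 in
theorem cG42_5 : chunk (chkG tab N (gC 42) (T 42)) 2584 5 = true := by decide +kernel
set_option maxRecDepth 100000 in
theorem cG42_6 : chunk (chkG tab N (gC 42) (T 42)) 2584 6 = true := by decide +kernel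
set_option maxRecDepth 100000 in
theorem cG42_7 : chunk (chkG tab N (gC 42) (T 42)) 2584 7 = true := by decide +kernel
set_option maxRecDepth 100000 in
theorem cG42_8 : chunk (chkG tab N (gC 42) (T 42)) 2584 8 = true := by decide +kernel
theorem gG42 : allBelow (chkG tab N (gC 42) (T 42)) (9 * 2584) = true := allBelow_of_chunks (fun c hc => by
    interval_cases c
    · exact cG42_0
    · exact cG42_1
    · exact cG42_2
    · exact cG42_3
    · exact cG42_4
    · exact cG42_5
    · exact cG42_6
    · exact cG42_7
    · exact cG42_8
  )
set_option maxRecDepth 100000 in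
theorem cG46_0 : chunk (chkG tab N (gC 46) (T 46)) 2584 0 = true := by decide +kernel
set_option maxRecDepth 100000 in
theorem cG46_1 : chunk (chkG tab N (gC 46) (T 46)) 2584 1 = true := by decide +kernel
set_option maxRecDepth 100000 in
theorem cG46_2 : chunk (chkG tab N (gC 46) (T 46)) 2584 2 = true := by decide +kernel
set_option maxRecDepth 100000 in
theorem cG46_3 : chunk (chkG tab N (gC 46) (T 46)) 2584 3 = true := by decide +kernel
set_option maxRecDepth 100000 in
theorem cG46_4 : chunk (chkG tab N (gC 46) (T 46)) 2584 4 = true := by decide +kernel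
set_option maxRecDepth 100000 in
theorem cG46_5 : chunk (chkG tab N (gC 46) (T 46)) 2584 5 = true := by decide +kernel
set_option maxRecDepth 100000 in
theorem cG46_6 : chunk (chkG tab N (gC 46) (T 46)) 2584 6 = true := by decide +kernel
set_option maxRecDepth 100000 in
theorem cG46_7 : chunk (chkG tab N (gC 46) (T 46)) 2584 7 = true := by decide +kernel
set_option maxRecDepth 100000 in
theorem cG46_8 : chunk (chkG tab N (gC 46) (T 46)) 2584 8 = true := by decide +kernel
theorem gG46 : allBelow (chkG tab N (gC 46) (T 46)) (9 * 2584) = true := allBelow_of_chunks (fun c hc => by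
    interval_cases c
    · exact cG46_0
    · exact cG46_1
    · exact cG46_2
    · exact cG46_3
    · exact cG46_4
    · exact cG46_5
    · exact cG46_6
    · exact cG46_7
    · exact cG46_8
  )

end Cfsg.Agent.Lib.KnownSimple.J3
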