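import Cfsg.Agent.Lib.KnownSimple.J3.Defs

/-!
# The Janko group: checks of the tables of the generators
-/

set_option autoImplicit false

namespace Cfsg.Agent.Lib.KnownSimple.J3

open Cfsg Cfsg.Spor Cfsg.Agent.Lib.Compute Cfsg.Agent.Lib.KnownSimple.PE Cfsg.Agent.Lib.KnownSimple.Leech
open Cfsg.Agent.Lib.KnownSimple Cfsg.Agent.Lib.KnownSimple.AutRigid
open Cfsg.Agent.Lib.KnownSimple.J3Data

set_option maxRecDepth 100000 in
theorem cG3_0 : chunk (chkG tab N (gC 3) (T 3)) 2584 0 = true := by decide +kernel
set_option maxRecDepth 100000 in
theorem cG3_1 : chunk (chkG tab N (gC 3) (T 3)) 2584 1 = true := by decide +kernel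
set_option maxRecDepth 100000 in
theorem cG3_2 : chunk (chkG tab N (gC 3) (T 3)) 2584 2 = true := by decide +kernel
set_option maxRecDepth 100000 in
theorem cG3_3 : chunk (chkG tab N (gC 3) (T 3)) 2584 3 = true := by decide +kernel
set_option maxRecDepth 100000 in
theorem cG3_4 : chunk (chkG tab N (gC 3) (T 3)) 2584 4 = true := by decide +kernel
set_option maxRecDepth 100000 in
theorem cG3_5 : chunk (chkG tab N (gC 3) (T 3)) 2584 5 = true := by decide +kernel
set_option maxRecDepth 100000 in
theorem cG3_6 : chunk (chkG tab N (gC 3) (T 3)) 2584 6 = true := by decide +kernel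
set_option maxRecDepth 100000 in
theorem cG3_7 : chunk (chkG tab N (gC 3) (T 3)) 2584 7 = true := by decide +kernel
set_option maxRecDepth 100000 in
theorem cG3_8 : chunk (chkG tab N (gC 3) (T 3)) 2584 8 = true := by decide +kernel
theorem gG3 : allBelow (chkG tab N (gC 3) (T 3)) (9 * 2584) = true := allBelow_of_chunks (fun c hc => by
    interval_cases c
    · exact cG3_0
    · exact cG3_1
    · exact cG3_2
    · exact cG3_3
    · exact cG3_4
    · exact cG3_5
    · exact cG3_6
    · exact cG3_7
    · exact cG3_8
  )
set_option maxRecDepth 100000 in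
theorem cG7_0 : chunk (chkG tab N (gC 7) (T 7)) 2584 0 = true := by decide +kernel
set_option maxRecDepth 100000 in
theorem cG7_1 : chunk (chkG tab N (gC 7) (T 7)) 2584 1 = true := by decide +kernel
set_option maxRecDepth 100000 in
theorem cG7_2 : chunk (chkG tab N (gC 7) (T 7)) 2584 2 = true := by decide +kernel
set_option maxRecDepth 100000 in
theorem cG7_3 : chunk (chkG tab N (gC 7) (T 7)) 2584 3 = true := by decide +kernel
set_option maxRecDepth 100000 in
theorem cG7_4 : chunk (chkG tab N (gC 7) (T 7)) 2584 4 = true := by decide +kernel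
set_option maxRecDepth 100000 in
theorem cG7_5 : chunk (chkG tab N (gC 7) (T 7)) 2584 5 = true := by decide +kernel
set_option maxRecDepth 100000 in
theorem cG7_6 : chunk (chkG tab N (gC 7) (T 7)) 2584 6 = true := by decide +kernel
set_option maxRecDepth 100000 in
theorem cG7_7 : chunk (chkG tab N (gC 7) (T 7)) 2584 7 = true := by decide +kernel
set_option maxRecDepth 100000 in
theorem cG7_8 : chunk (chkG tab N (gC 7) (T 7)) 2584 8 = true := by decide +kernel
theorem gG7 : allBelow (chkG tab N (gC 7) (T 7)) (9 * 2584) = true := allBelow_of_chunks (fun c hc => by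
    interval_cases c
    · exact cG7_0
    · exact cG7_1
    · exact cG7_2
    · exact cG7_3
    · exact cG7_4
    · exact cG7_5
    · exact cG7_6
    · exact cG7_7
    · exact cG7_8
  )
set_option maxRecDepth 100000 in
theorem cG11_0 : chunk (chkG tab N (gC 11) (T 11)) 2584 0 = true := by decide +kernel
set_option maxRecDepth 100000 in
theorem cG11_1 : chunk (chkG tab N (gC 11) (T 11)) 2584 1 = true := by decide +kernel
set_option maxRecDepth 100000 in
theorem cG11_2 : chunk (chkG tab N (gC 11) (T 11)) 2584 2 = true := by decide +kernel
set_option maxRecDepth 100000 in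
theorem cG11_3 : chunk (chkG tab N (gC 11) (T 11)) 2584 3 = true := by decide +kernel
set_option maxRecDepth 100000 in
theorem cG11_4 : chunk (chkG tab N (gC 11) (T 11)) 2584 4 = true := by decide +kernel
set_option maxRecDepth 100000 in
theorem cG11_5 : chunk (chkG tab N (gC 11) (T 11)) 2584 5 = true := by decide +kernel
set_option maxRecDepth 100000 in
theorem cG11_6 : chunk (chkG tab N (gC 11) (T 11)) 2584 6 = true := by decide +kernel
set_option maxRecDepth 100000 in
theorem cG11_7 : chunk (chkG tab N (gC 11) (T 11)) 2584 7 = true := by decide +kernel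
set_option maxRecDepth 100000 in
theorem cG11_8 : chunk (chkG tab N (gC 11) (T 11)) 2584 8 = true := by decide +kernel
theorem gG11 : allBelow (chkG tab N (gC 11) (T 11)) (9 * 2584) = true := allBelow_of_chunks (fun c hc => by
    interval_cases c
    · exact cG11_0
    · exact cG11_1
    · exact cG11_2
    · exact cG11_3
    · exact cG11_4
    · exact cG11_5
    · exact cG11_6
    · exact cG11_7
    · exact cG11_8
  )
set_option maxRecDepth 100000 in
theorem cG15_0 : chunk (chkG tab N (gC 15) (T 15)) 2584 0 = true := by decide +kernel
set_option maxRecDepth 100000 in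
theorem cG15_1 : chunk (chkG tab N (gC 15) (T 15)) 2584 1 = true := by decide +kernel
set_option maxRecDepth 100000 in
theorem cG15_2 : chunk (chkG tab N (gC 15) (T 15)) 2584 2 = true := by decide +kernel
set_option maxRecDepth 100000 in
theorem cG15_3 : chunk (chkG tab N (gC 15) (T 15)) 2584 3 = true := by decide +kernel
set_option maxRecDepth 100000 in
theorem cG15_4 : chunk (chkG tab N (gC 15) (T 15)) 2584 4 = true := by decide +kernel
set_option maxRecDepth 100000 in
theorem cG15_5 : chunk (chkG tab N (gC 15) (T 15)) 2584 5 = true := by decide +kernel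
set_option maxRecDepth 100000 in
theorem cG15_6 : chunk (chkG tab N (gC 15) (T 15)) 2584 6 = true := by decide +kernel
set_option maxRecDepth 100000 in
theorem cG15_7 : chunk (chkG tab N (gC 15) (T 15)) 2584 7 = true := by decide +kernel
set_option maxRecDepth 100000 in
theorem cG15_8 : chunk (chkG tab N (gC 15) (T 15)) 2584 8 = true := by decide +kernel
theorem gG15 : allBelow (chkG tab N (gC 15) (T 15)) (9 * 2584) = true := allBelow_of_chunks (fun c hc => by
    interval_cases c
    · exact cG15_0
    · exact cG15_1
    · exact cG15_2
    · exact cG15_3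
    · exact cG15_4
    · exact cG15_5
    · exact cG15_6
    · exact cG15_7
    · exact cG15_8
  )
set_option maxRecDepth 100000 in
theorem cG19_0 : chunk (chkG tab N (gC 19) (T 19)) 2584 0 = true := by decide +kernel
set_option maxRecDepth 100000 in
theorem cG19_1 : chunk (chkG tab N (gC 19) (T 19)) 2584 1 = true := by decide +kernel
set_option maxRecDepth 100000 in
theorem cG19_2 : chunk (chkG tab N (gC 19) (T 19)) 2584 2 = true := by decide +kernel
set_option maxRecDepth 100000 in
theorem cG19_3 : chunk (chkG tab N (gC 19) (T 19)) 2584 3 = true := by decide +kernel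
set_option maxRecDepth 100000 in
theorem cG19_4 : chunk (chkG tab N (gC 19) (T 19)) 2584 4 = true := by decide +kernel
set_option maxRecDepth 100000 in
theorem cG19_5 : chunk (chkG tab N (gC 19) (T 19)) 2584 5 = true := by decide +kernel
set_option maxRecDepth 100000 in
theorem cG19_6 : chunk (chkG tab N (gC 19) (T 19)) 2584 6 = true := by decide +kernel
set_option maxRecDepth 100000 in
theorem cG19_7 : chunk (chkG tab N (gC 19) (T 19)) 2584 7 = true := by decide +kernel
set_option maxRecDepth 100000 in
theorem cG19_8 : chunk (chkG tab N (gC 19) (T 19)) 2584 8 = true := by decide +kernel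
theorem gG19 : allBelow (chkG tab N (gC 19) (T 19)) (9 * 2584) = true := allBelow_of_chunks (fun c hc => by
    interval_cases c
    · exact cG19_0
    · exact cG19_1
    · exact cG19_2
    · exact cG19_3
    · exact cG19_4
    · exact cG19_5
    · exact cG19_6
    · exact cG19_7
    · exact cG19_8
  )
set_option maxRecDepth 100000 in
theorem cG23_0 : chunk (chkG tab N (gC 23) (T 23)) 2584 0 = true := by decide +kernel
set_option maxRecDepth 100000 in
theorem cG23_1 : chunk (chkG tab N (gC 23) (T 23)) 2584 1 = true := by decide +kernel
set_option maxRecDepth 100000 in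
theorem cG23_2 : chunk (chkG tab N (gC 23) (T 23)) 2584 2 = true := by decide +kernel
set_option maxRecDepth 100000 in
theorem cG23_3 : chunk (chkG tab N (gC 23) (T 23)) 2584 3 = true := by decide +kernel
set_option maxRecDepth 100000 in
theorem cG23_4 : chunk (chkG tab N (gC 23) (T 23)) 2584 4 = true := by decide +kernel
set_option maxRecDepth 100000 in
theorem cG23_5 : chunk (chkG tab N (gC 23) (T 23)) 2584 5 = true := by decide +kernel
set_option maxRecDepth 100000 in
theorem cG23_6 : chunk (chkG tab N (gC 23) (T 23)) 2584 6 = true := by decide +kernel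
set_option maxRecDepth 100000 in
theorem cG23_7 : chunk (chkG tab N (gC 23) (T 23)) 2584 7 = true := by decide +kernel
set_option maxRecDepth 100000 in
theorem cG23_8 : chunk (chkG tab N (gC 23) (T 23)) 2584 8 = true := by decide +kernel
theorem gG23 : allBelow (chkG tab N (gC 23) (T 23)) (9 * 2584) = true := allBelow_of_chunks (fun c hc => by
    interval_cases c
    · exact cG23_0
    · exact cG23_1
    · exact cG23_2
    · exact cG23_3
    · exact cG23_4
    · exact cG23_5
    · exact cG23_6
    · exact cG23_7
    · exact cG23_8
  )
set_option maxRecDepth 100000 in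
theorem cG27_0 : chunk (chkG tab N (gC 27) (T 27)) 2584 0 = true := by decide +kernel
set_option maxRecDepth 100000 in
theorem cG27_1 : chunk (chkG tab N (gC 27) (T 27)) 2584 1 = true := by decide +kernel
set_option maxRecDepth 100000 in
theorem cG27_2 : chunk (chkG tab N (gC 27) (T 27)) 2584 2 = true := by decide +kernel
set_option maxRecDepth 100000 in
theorem cG27_3 : chunk (chkG tab N (gC 27) (T 27)) 2584 3 = true := by decide +kernel
set_option maxRecDepth 100000 in
theorem cG27_4 : chunk (chkG tab N (gC 27) (T 27)) 2584 4 = true := by decide +kernel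
set_option maxRecDepth 100000 in
theorem cG27_5 : chunk (chkG tab N (gC 27) (T 27)) 2584 5 = true := by decide +kernel
set_option maxRecDepth 100000 in
theorem cG27_6 : chunk (chkG tab N (gC 27) (T 27)) 2584 6 = true := by decide +kernel
set_option maxRecDepth 100000 in
theorem cG27_7 : chunk (chkG tab N (gC 27) (T 27)) 2584 7 = true := by decide +kernel
set_option maxRecDepth 100000 in
theorem cG27_8 : chunk (chkG tab N (gC 27) (T 27)) 2584 8 = true := by decide +kernel
theorem gG27 : allBelow (chkG tab N (gC 27) (T 27)) (9 * 2584) = true := allBelow_of_chunks (fun c hc => by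
    interval_cases c
    · exact cG27_0
    · exact cG27_1
    · exact cG27_2
    · exact cG27_3
    · exact cG27_4
    · exact cG27_5
    · exact cG27_6
    · exact cG27_7
    · exact cG27_8
  )
set_option maxRecDepth 100000 in
theorem cG31_0 : chunk (chkG tab N (gC 31) (T 31)) 2584 0 = true := by decide +kernel
set_option maxRecDepth 100000 in
theorem cG31_1 : chunk (chkG tab N (gC 31) (T 31)) 2584 1 = true := by decide +kernel
set_option maxRecDepth 100000 in
theorem cG31_2 : chunk (chkG tab N (gC 31) (T 31)) 2584 2 = true := by decide +kernel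
set_option maxRecDepth 100000 in
theorem cG31_3 : chunk (chkG tab N (gC 31) (T 31)) 2584 3 = true := by decide +kernel
set_option maxRecDepth 100000 in
theorem cG31_4 : chunk (chkG tab N (gC 31) (T 31)) 2584 4 = true := by decide +kernel
set_option maxRecDepth 100000 in
theorem cG31_5 : chunk (chkG tab N (gC 31) (T 31)) 2584 5 = true := by decide +kernel
set_option maxRecDepth 100000 in
theorem cG31_6 : chunk (chkG tab N (gC 31) (T 31)) 2584 6 = true := by decide +kernel
set_option maxRecDepth 100000 in
theorem cG31_7 : chunk (chkG tab N (gC 31) (T 31)) 2584 7 = true := by decide +kernel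
set_option maxRecDepth 100000 in
theorem cG31_8 : chunk (chkG tab N (gC 31) (T 31)) 2584 8 = true := by decide +kernel
theorem gG31 : allBelow (chkG tab N (gC 31) (T 31)) (9 * 2584) = true := allBelow_of_chunks (fun c hc => by
    interval_cases c
    · exact cG31_0
    · exact cG31_1
    · exact cG31_2
    · exact cG31_3
    · exact cG31_4
    · exact cG31_5
    · exact cG31_6
    · exact cG31_7
    · exact cG31_8
  )
set_option maxRecDepth 100000 in
theorem cG35_0 : chunk (chkG tab N (gC 35) (T 35)) 2584 0 = true := by decide +kernel
set_option maxRecDepth 100000 in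
theorem cG35_1 : chunk (chkG tab N (gC 35) (T 35)) 2584 1 = true := by decide +kernel
set_option maxRecDepth 100000 in
theorem cG35_2 : chunk (chkG tab N (gC 35) (T 35)) 2584 2 = true := by decide +kernel
set_option maxRecDepth 100000 in
theorem cG35_3 : chunk (chkG tab N (gC 35) (T 35)) 2584 3 = true := by decide +kernel
set_option maxRecDepth 100000 in
theorem cG35_4 : chunk (chkG tab N (gC 35) (T 35)) 2584 4 = true := by decide +kernel
set_option maxRecDepth 100000 in
theorem cG35_5 : chunk (chkG tab N (gC 35) (T 35)) 2584 5 = true := by decide +kernel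
set_option maxRecDepth 100000 in
theorem cG35_6 : chunk (chkG tab N (gC 35) (T 35)) 2584 6 = true := by decide +kernel
set_option maxRecDepth 100000 in
theorem cG35_7 : chunk (chkG tab N (gC 35) (T 35)) 2584 7 = true := by decide +kernel
set_option maxRecDepth 100000 in
theorem cG35_8 : chunk (chkG tab N (gC 35) (T 35)) 2584 8 = true := by decide +kernel
theorem gG35 : allBelow (chkG tab N (gC 35) (T 35)) (9 * 2584) = true := allBelow_of_chunks (fun c hc => by
    interval_cases c
    · exact cG35_0
    · exact cG35_1
    · exact cG35_2
    · exact cG35_3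
    · exact cG35_4
    · exact cG35_5
    · exact cG35_6
    · exact cG35_7
    · exact cG35_8
  )
set_option maxRecDepth 100000 in
theorem cG39_0 : chunk (chkG tab N (gC 39) (T 39)) 2584 0 = true := by decide +kernel
set_option maxRecDepth 100000 in
theorem cG39_1 : chunk (chkG tab N (gC 39) (T 39)) 2584 1 = true := by decide +kernel
set_option maxRecDepth 100000 in
theorem cG39_2 : chunk (chkG tab N (gC 39) (T 39)) 2584 2 = true := by decide +kernel
set_option maxRecDepth 100000 in
theorem cG39_3 : chunk (chkG tab N (gC 39) (T 39)) 2584 3 = true := by decide +kernel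
set_option maxRecDepth 100000 in
theorem cG39_4 : chunk (chkG tab N (gC 39) (T 39)) 2584 4 = true := by decide +kernel
set_option maxRecDepth 100000 in
theorem cG39_5 : chunk (chkG tab N (gC 39) (T 39)) 2584 5 = true := by decide +kernel
set_option maxRecDepth 100000 in
theorem cG39_6 : chunk (chkG tab N (gC 39) (T 39)) 2584 6 = true := by decide +kernel
set_option maxRecDepth 100000 in
theorem cG39_7 : chunk (chkG tab N (gC 39) (T 39)) 2584 7 = true := by decide +kernel
set_option maxRecDepth 100000 in
theorem cG39_8 : chunk (chkG tab N (gC 39) (T 39)) 2584 8 = true := by decide +kernel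
theorem gG39 : allBelow (chkG tab N (gC 39) (T 39)) (9 * 2584) = true := allBelow_of_chunks (fun c hc => by
    interval_cases c
    · exact cG39_0
    · exact cG39_1
    · exact cG39_2
    · exact cG39_3
    · exact cG39_4
    · exact cG39_5
    · exact cG39_6
    · exact cG39_7
    · exact cG39_8
  )
set_option maxRecDepth 100000 in
theorem cG43_0 : chunk (chkG tab N (gC 43) (T 43)) 2584 0 = true := by decide +kernel
set_option maxRecDepth 100000 in
theorem cG43_1 : chunk (chkG tab N (gC 43) (T 43)) 2584 1 = true := by decide +kernel
set_option maxRecDepth 100000 in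
theorem cG43_2 : chunk (chkG tab N (gC 43) (T 43)) 2584 2 = true := by decide +kernel
set_option maxRecDepth 100000 in
theorem cG43_3 : chunk (chkG tab N (gC 43) (T 43)) 2584 3 = true := by decide +kernel
set_option maxRecDepth 100000 in
theorem cG43_4 : chunk (chkG tab N (gC 43) (T 43)) 2584 4 = true := by decide +kernel
set_option maxRecDepth 100000 in
theorem cG43_5 : chunk (chkG tab N (gC 43) (T 43)) 2584 5 = true := by decide +kernel
set_option maxRecDepth 100000 in
theorem cG43_6 : chunk (chkG tab N (gC 43) (T 43)) 2584 6 = true := by decide +kernel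
set_option maxRecDepth 100000 in
theorem cG43_7 : chunk (chkG tab N (gC 43) (T 43)) 2584 7 = true := by decide +kernel
set_option maxRecDepth 100000 in
theorem cG43_8 : chunk (chkG tab N (gC 43) (T 43)) 2584 8 = true := by decide +kernel
theorem gG43 : allBelow (chkG tab N (gC 43) (T 43)) (9 * 2584) = true := allBelow_of_chunks (fun c hc => by
    interval_cases c
    · exact cG43_0
    · exact cG43_1
    · exact cG43_2
    · exact cG43_3
    · exact cG43_4
    · exact cG43_5
    · exact cG43_6
    · exact cG43_7
    · exact cG43_8
  )

end Cfsg.Agent.Lib.KnownSimple.J3
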