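import Cfsg.Prelude.Def_Spor_J3
import Cfsg.Agent.Lib.KnownSimple.Leech.Big

/-!
# The Janko group `J₃`: vectors over a field with four elements, encoded by numbers

An element of a field with four elements is encoded by a digit `< 4`; a vector indexed by the field with
nine elements is encoded by a number with nine digits.
-/

set_option autoImplicit false

namespace Cfsg.Agent.Lib.KnownSimple.J3

open Cfsg Cfsg.Spor Cfsg.Agent.Lib.Compute Cfsg.Agent.Lib.KnownSimple.PE Cfsg.Agent.Lib.KnownSimple.Leech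
open scoped Matrix

/-! ### Digits -/

/-- A digit of a number. -/
noncomputable def dg (c k : ℕ) : ℕ := Nat.land (Nat.shiftRight c (Nat.mul 2 k)) 3

/-- The product of two digits. -/
noncomputable def mulN (a b : ℕ) : ℕ := Nat.land (Nat.shiftRight 0x9c78e400 (Nat.mul 2 (Nat.add (Nat.mul 4 a) b))) 3

/-- The conjugate of a digit. -/
noncomputable def conjN (a : ℕ) : ℕ := Nat.land (Nat.shiftRight 180 (Nat.mul 2 a)) 3

theorem dg_lt (c k : ℕ) : dg c k < 4 := Nat.lt_succ_of_le Nat.and_le_right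
theorem mulN_lt (a b : ℕ) : mulN a b < 4 := Nat.lt_succ_of_le Nat.and_le_right
theorem conjN_lt (a : ℕ) : conjN a < 4 := Nat.lt_succ_of_le Nat.and_le_right

theorem xor_lt {a b : ℕ} (ha : a < 4) (hb : b < 4) : Nat.xor a b < 4 :=
  Nat.xor_lt_two_pow (n := 2) ha hb

theorem dg_xor (a b k : ℕ) : dg (Nat.xor a b) k = Nat.xor (dg a k) (dg b k) := by
  show ((a ^^^ b) >>> (2 * k)) &&& 3 = ((a >>> (2 * k)) &&& 3) ^^^ ((b >>> (2 * k)) &&& 3)
  rw [Nat.shiftRight_xor_distrib, Nat.and_xor_distrib_right]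

/-- A sum of digits in a field with four elements. -/
noncomputable def xorS (g : ℕ → ℕ) (n : ℕ) : ℕ := Nat.rec 0 (fun j ih => Nat.xor ih (g j)) n

section field

variable {F : Type*} [Field F] (ω : F)

/-- The element of the field with a given digit. -/
def φ : ℕ → F
  | 0 => 0
  | 1 => 1
  | 2 => ω
  | 3 => ω ^ 2
  | _ => 0

/-- The relations of the primitive cube root of unity in characteristic two. -/
structure Good (ω : F) : Prop where
  h2 : (1 : F) + 1 = 0
  hω : ω ^ 2 + ω + 1 = 0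

variable {ω}

theorem Good.ne_zero (hg : Good ω) : ω ≠ 0 := by
  rintro rfl
  have h := hg.hω
  simp at h

theorem Good.ne_one (hg : Good ω) : ω ≠ 1 := by
  rintro rfl
  have h := hg.hω
  have h2 := hg.h2
  have : (1 : F) = 0 := by linear_combination h - h2
  exact one_ne_zero this

theorem Good.sq_ne (hg : Good ω) : ω ^ 2 ≠ ω := by
  intro h
  have h3 : ω = 1 := by
    have h4 : ω * (ω - 1) = 0 := by linear_combination h
    rcases mul_eq_zero.1 h4 with h5 | h5
    · exact absurd h5 hg.ne_zero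
    · exact sub_eq_zero.1 h5
  exact hg.ne_one h3

theorem Good.sq_ne_one (hg : Good ω) : ω ^ 2 ≠ 1 := by
  intro h
  have h3 : ω = 0 := by
    have h4 := hg.hω
    have h5 := hg.h2
    linear_combination h4 - h - h5
  exact hg.ne_zero h3

theorem Good.sq_ne_zero (hg : Good ω) : ω ^ 2 ≠ 0 := pow_ne_zero 2 hg.ne_zero

theorem φ_xor (hg : Good ω) : ∀ a b : ℕ, a < 4 → b < 4 → φ ω (Nat.xor a b) = φ ω a + φ ω b
  | 0, 0, _, _ => by
    show (0 : F) = 0 + 0
    linear_combination (0) * hg.hω + (0) * hg.h2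
  | 0, 1, _, _ => by
    show (1 : F) = 0 + 1
    linear_combination (0) * hg.hω + (0) * hg.h2
  | 0, 2, _, _ => by
    show (ω : F) = 0 + ω
    linear_combination (0) * hg.hω + (0) * hg.h2
  | 0, 3, _, _ => by
    show (ω ^ 2 : F) = 0 + ω ^ 2
    linear_combination (0) * hg.hω + (0) * hg.h2
  | 1, 0, _, _ => by
    show (1 : F) = 1 + 0
    linear_combination (0) * hg.hω + (0) * hg.h2
  | 1, 1, _, _ => by
    show (0 : F) = 1 + 1
    linear_combination (0) * hg.hω + ((-1) * ω ^ 0) * hg.h2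
  | 1, 2, _, _ => by
    show (ω ^ 2 : F) = 1 + ω
    linear_combination ((1) * ω ^ 0) * hg.hω + ((-1) * ω ^ 0 + (-1) * ω ^ 1) * hg.h2
  | 1, 3, _, _ => by
    show (ω : F) = 1 + ω ^ 2
    linear_combination ((-1) * ω ^ 0) * hg.hω + ((1) * ω ^ 1) * hg.h2
  | 2, 0, _, _ => by
    show (ω : F) = ω + 0
    linear_combination (0) * hg.hω + (0) * hg.h2
  | 2, 1, _, _ => by
    show (ω ^ 2 : F) = ω + 1
    linear_combination ((1) * ω ^ 0) * hg.hω + ((-1) * ω ^ 0 + (-1) * ω ^ 1) * hg.h2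
  | 2, 2, _, _ => by
    show (0 : F) = ω + ω
    linear_combination (0) * hg.hω + ((-1) * ω ^ 1) * hg.h2
  | 2, 3, _, _ => by
    show (1 : F) = ω + ω ^ 2
    linear_combination ((-1) * ω ^ 0) * hg.hω + ((1) * ω ^ 0) * hg.h2
  | 3, 0, _, _ => by
    show (ω ^ 2 : F) = ω ^ 2 + 0
    linear_combination (0) * hg.hω + (0) * hg.h2
  | 3, 1, _, _ => by
    show (ω : F) = ω ^ 2 + 1
    linear_combination ((-1) * ω ^ 0) * hg.hω + ((1) * ω ^ 1) * hg.h2
  | 3, 2, _, _ => by
    show (1 : F) = ω ^ 2 + ω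
    linear_combination ((-1) * ω ^ 0) * hg.hω + ((1) * ω ^ 0) * hg.h2
  | 3, 3, _, _ => by
    show (0 : F) = ω ^ 2 + ω ^ 2
    linear_combination ((-2) * ω ^ 0) * hg.hω + ((1) * ω ^ 0 + (1) * ω ^ 1) * hg.h2
  | (a + 4), _, h, _ => absurd h (by omega)
  | _, (b + 4), _, h => absurd h (by omega)

theorem φ_mul (hg : Good ω) : ∀ a b : ℕ, a < 4 → b < 4 → φ ω (mulN a b) = φ ω a * φ ω b
  | 0, 0, _, _ => by
    show (0 : F) = (0) * (0)
    linear_combination (0) * hg.hω + (0) * hg.h2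
  | 0, 1, _, _ => by
    show (0 : F) = (0) * (1)
    linear_combination (0) * hg.hω + (0) * hg.h2
  | 0, 2, _, _ => by
    show (0 : F) = (0) * (ω)
    linear_combination (0) * hg.hω + (0) * hg.h2
  | 0, 3, _, _ => by
    show (0 : F) = (0) * (ω ^ 2)
    linear_combination (0) * hg.hω + (0) * hg.h2
  | 1, 0, _, _ => by
    show (0 : F) = (1) * (0)
    linear_combination (0) * hg.hω + (0) * hg.h2
  | 1, 1, _, _ => by
    show (1 : F) = (1) * (1)
    linear_combination (0) * hg.hω + (0) * hg.h2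
  | 1, 2, _, _ => by
    show (ω : F) = (1) * (ω)
    linear_combination (0) * hg.hω + (0) * hg.h2
  | 1, 3, _, _ => by
    show (ω ^ 2 : F) = (1) * (ω ^ 2)
    linear_combination (0) * hg.hω + (0) * hg.h2
  | 2, 0, _, _ => by
    show (0 : F) = (ω) * (0)
    linear_combination (0) * hg.hω + (0) * hg.h2
  | 2, 1, _, _ => by
    show (ω : F) = (ω) * (1)
    linear_combination (0) * hg.hω + (0) * hg.h2
  | 2, 2, _, _ => by
    show (ω ^ 2 : F) = (ω) * (ω)
    linear_combination (0) * hg.hω + (0) * hg.h2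
  | 2, 3, _, _ => by
    show (1 : F) = (ω) * (ω ^ 2)
    linear_combination ((1) * ω ^ 0 + (-1) * ω ^ 1) * hg.hω + (0) * hg.h2
  | 3, 0, _, _ => by
    show (0 : F) = (ω ^ 2) * (0)
    linear_combination (0) * hg.hω + (0) * hg.h2
  | 3, 1, _, _ => by
    show (ω ^ 2 : F) = (ω ^ 2) * (1)
    linear_combination (0) * hg.hω + (0) * hg.h2
  | 3, 2, _, _ => by
    show (1 : F) = (ω ^ 2) * (ω)
    linear_combination ((1) * ω ^ 0 + (-1) * ω ^ 1) * hg.hω + (0) * hg.h2
  | 3, 3, _, _ => by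
    show (ω : F) = (ω ^ 2) * (ω ^ 2)
    linear_combination ((1) * ω ^ 1 + (-1) * ω ^ 2) * hg.hω + (0) * hg.h2
  | (a + 4), _, h, _ => absurd h (by omega)
  | _, (b + 4), _, h => absurd h (by omega)

theorem φ_conj (hg : Good ω) : ∀ a : ℕ, a < 4 → φ ω (conjN a) = (φ ω a) ^ 2
  | 0, _ => by
    show (0 : F) = (0) ^ 2
    linear_combination (0) * hg.hω + (0) * hg.h2
  | 1, _ => by
    show (1 : F) = (1) ^ 2
    linear_combination (0) * hg.hω + (0) * hg.h2
  | 2, _ => by
    show (ω ^ 2 : F) = (ω) ^ 2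
    linear_combination (0) * hg.hω + (0) * hg.h2
  | 3, _ => by
    show (ω : F) = (ω ^ 2) ^ 2
    linear_combination ((1) * ω ^ 1 + (-1) * ω ^ 2) * hg.hω + (0) * hg.h2
  | (a + 4), h => absurd h (by omega)

theorem φ_ne_zero (hg : Good ω) : ∀ a : ℕ, 0 < a → a < 4 → φ ω a ≠ 0
  | 1, _, _ => one_ne_zero
  | 2, _, _ => hg.ne_zero
  | 3, _, _ => hg.sq_ne_zero
  | 0, h, _ => absurd h (by omega)
  | (a + 4), _, h => absurd h (by omega)

theorem φ_inj (hg : Good ω) : ∀ a b : ℕ, a < 4 → b < 4 → φ ω a = φ ω b → a = b := by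
  intro a b ha hb h
  have h1 : φ ω (Nat.xor a b) = 0 := by
    rw [φ_xor hg a b ha hb, h]
    have h2 := hg.h2
    linear_combination (φ ω b) * h2
  have h3 : Nat.xor a b < 4 := xor_lt ha hb
  have h4 : Nat.xor a b = 0 := by
    by_contra h5
    exact φ_ne_zero hg _ (Nat.pos_of_ne_zero h5) h3 h1
  exact Nat.eq_of_xor_eq_zero h4

/-! ### Vectors -/

/-- The number of an element of the field with nine elements. -/
def zi (z : F9) : ℕ := 3 * z.1.val + z.2.val

theorem zi_inj : ∀ a b : F9, zi a = zi b → a = b := by decide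
theorem zi_lt : ∀ a : F9, zi a < 9 := by decide
theorem zi_image : (Finset.univ : Finset F9).image zi = Finset.range 9 := by decide
theorem exists_zi : ∀ k, k < 9 → ∃ z : F9, zi z = k := by
  intro k hk
  have h : k ∈ (Finset.univ : Finset F9).image zi := by
    rw [zi_image]
    exact Finset.mem_range.2 hk
  obtain ⟨z, _, hz⟩ := Finset.mem_image.1 h
  exact ⟨z, hz⟩

theorem sum_zi {β : Type*} [AddCommMonoid β] (f : ℕ → β) : ∑ z : F9, f (zi z) = ∑ j ∈ Finset.range 9, f j := by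
  rw [← zi_image, Finset.sum_image (fun a _ b _ h => zi_inj a b h)]

variable (ω)

/-- The vector with a given code. -/
noncomputable def vecOf (c : ℕ) : F9 → F := fun z => φ ω (dg c (zi z))

variable {ω}

theorem φ_xorS (hg : Good ω) (g : ℕ → ℕ) (n k : ℕ) :
    φ ω (dg (xorS g n) k) = ∑ j ∈ Finset.range n, φ ω (dg (g j) k) := by
  induction n with
  | zero =>
    show φ ω (dg 0 k) = 0
    have : dg 0 k = 0 := by
      show (0 >>> (2 * k)) &&& 3 = 0
      simp
    rw [this]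
    rfl
  | succ n ih =>
    rw [Finset.sum_range_succ, ← ih]
    show φ ω (dg (Nat.xor (xorS g n) (g n)) k) = _
    rw [dg_xor, φ_xor hg _ _ (dg_lt _ _) (dg_lt _ _)]

theorem xorS_lt {g : ℕ → ℕ} (hg : ∀ j, g j < 4) (n : ℕ) : xorS g n < 4 := by
  induction n with
  | zero => exact Nat.zero_lt_succ _
  | succ n ih => exact xor_lt ih (hg n)

theorem φ_xorS' (hg : Good ω) (g : ℕ → ℕ) (hg4 : ∀ j, g j < 4) (n : ℕ) :
    φ ω (xorS g n) = ∑ j ∈ Finset.range n, φ ω (g j) := by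
  induction n with
  | zero => rfl
  | succ n ih =>
    rw [Finset.sum_range_succ, ← ih]
    show φ ω (Nat.xor (xorS g n) (g n)) = _
    rw [φ_xor hg _ _ (xorS_lt hg4 n) (hg4 n)]

/-- The vector of a table of multiples of a column. -/
noncomputable def pick (s T : ℕ) : ℕ :=
  bcond (Nat.beq s 0) 0 (Nat.land (Nat.shiftRight T (Nat.mul 18 (Nat.pred s))) 262143)

/-- The image of a vector under a matrix given by multiples of its columns. -/
noncomputable def matEval (gk : ℕ → ℕ) (c : ℕ) : ℕ := xorS (fun j => pick (dg c j) (gk j)) 9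

/-- The check of the multiples of the columns. -/
noncomputable def colOK (gk : ℕ → ℕ) : Bool :=
  allBelow (fun j => allBelow (fun s => allBelow (fun k =>
    Nat.beq (dg (pick s (gk j)) k) (mulN s (dg (pick 1 (gk j)) k))) 9) 4) 9

theorem mulVec_vecOf (hg : Good ω) {M : Matrix F9 F9 F} {gk : ℕ → ℕ}
    (hM : ∀ w z, M w z = φ ω (dg (pick 1 (gk (zi z))) (zi w))) (hc : colOK gk = true) (c : ℕ) :
    M *ᵥ vecOf ω c = vecOf ω (matEval gk c) := by
  funext w
  have hc' : ∀ j, j < 9 → ∀ s, s < 4 → ∀ k, k < 9 →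
      dg (pick s (gk j)) k = mulN s (dg (pick 1 (gk j)) k) := by
    intro j hj s hs k hk
    have h1 := (allBelow_iff _ _).1 hc j hj
    have h2 := (allBelow_iff _ _).1 h1 s hs
    have h3 := (allBelow_iff _ _).1 h2 k hk
    exact Nat.eq_of_beq_eq_true h3
  show ∑ z, M w z * φ ω (dg c (zi z)) = φ ω (dg (matEval gk c) (zi w))
  rw [matEval, φ_xorS hg]
  have h1 : ∀ z : F9, M w z * φ ω (dg c (zi z)) =
      (fun j => φ ω (dg (pick (dg c j) (gk j)) (zi w))) (zi z) := by
    intro z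
    show _ = φ ω (dg (pick (dg c (zi z)) (gk (zi z))) (zi w))
    rw [hc' _ (zi_lt z) _ (dg_lt _ _) _ (zi_lt w), φ_mul hg _ _ (dg_lt _ _) (dg_lt _ _), hM, mul_comm]
  rw [Finset.sum_congr rfl (fun z _ => h1 z)]
  exact sum_zi (fun j => φ ω (dg (pick (dg c j) (gk j)) (zi w)))

/-- The first digit which is not zero. -/
noncomputable def lcN (y : ℕ) : ℕ :=
  Nat.rec 0 (fun j ih => bcond (Nat.beq (dg y (Nat.sub 8 j)) 0) ih (dg y (Nat.sub 8 j))) 9

theorem lcN_aux (y m : ℕ) (hm : m ≤ 9) :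
    (Nat.rec 0 (fun j ih => bcond (Nat.beq (dg y (Nat.sub 8 j)) 0) ih (dg y (Nat.sub 8 j))) m : ℕ) ≠ 0 →
    ∃ k, 9 - m ≤ k ∧ k < 9 ∧ (∀ k', 9 - m ≤ k' → k' < k → dg y k' = 0) ∧
      dg y k = (Nat.rec 0 (fun j ih => bcond (Nat.beq (dg y (Nat.sub 8 j)) 0) ih (dg y (Nat.sub 8 j))) m : ℕ) := by
  induction m with
  | zero => exact fun h => absurd rfl h
  | succ m ih =>
    intro h
    have e : (Nat.rec 0 (fun j ih => bcond (Nat.beq (dg y (Nat.sub 8 j)) 0) ih (dg y (Nat.sub 8 j))) (m + 1) : ℕ) =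
        bcond (Nat.beq (dg y (Nat.sub 8 m)) 0)
          (Nat.rec 0 (fun j ih => bcond (Nat.beq (dg y (Nat.sub 8 j)) 0) ih (dg y (Nat.sub 8 j))) m : ℕ)
          (dg y (Nat.sub 8 m)) := rfl
    rw [e] at h ⊢
    have h8 : Nat.sub 8 m = 8 - m := rfl
    cases h1 : Nat.beq (dg y (Nat.sub 8 m)) 0
    · rw [bcond_false]
      refine ⟨8 - m, by omega, by omega, fun k' h2 h3 => by omega, rfl⟩
    · rw [h1, bcond_true] at h
      rw [bcond_true]
      obtain ⟨k, h2, h3, h4, h5⟩ := ih (by omega) h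
      have h6 : dg y (8 - m) = 0 := Nat.eq_of_beq_eq_true h1
      refine ⟨k, by omega, h3, fun k' h7 h9 => ?_, h5⟩
      by_cases h10 : k' = 8 - m
      · rw [h10]
        exact h6
      · exact h4 k' (by omega) h9

theorem lcN_spec {y : ℕ} (h : lcN y ≠ 0) :
    ∃ k, k < 9 ∧ (∀ k', k' < k → dg y k' = 0) ∧ dg y k = lcN y := by
  obtain ⟨k, _, h2, h3, h4⟩ := lcN_aux y 9 le_rfl h
  exact ⟨k, h2, fun k' h5 => h3 k' (by omega) h5, h4⟩

theorem lcN_lt (y : ℕ) : lcN y < 4 := by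
  by_cases h : lcN y = 0
  · rw [h]
    norm_num
  · obtain ⟨k, _, _, h4⟩ := lcN_spec h
    rw [← h4]
    exact dg_lt _ _

/-- The repacking of the digits of a code. -/
noncomputable def repack (c : ℕ) : ℕ :=
  Nat.rec 0 (fun k ih => Nat.add ih (Nat.shiftLeft (dg c k) (Nat.mul 2 k))) 9

theorem repack_congr {a b : ℕ} (h : ∀ k, k < 9 → dg a k = dg b k) : repack a = repack b := by
  have h1 : ∀ n, n ≤ 9 → (Nat.rec 0 (fun k ih => Nat.add ih (Nat.shiftLeft (dg a k) (Nat.mul 2 k))) n : ℕ) =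
      Nat.rec 0 (fun k ih => Nat.add ih (Nat.shiftLeft (dg b k) (Nat.mul 2 k))) n := by
    intro n hn
    induction n with
    | zero => rfl
    | succ n ih =>
      show Nat.add _ (Nat.shiftLeft (dg a n) (Nat.mul 2 n)) = Nat.add _ (Nat.shiftLeft (dg b n) (Nat.mul 2 n))
      rw [ih (by omega), h n (by omega)]
  exact h1 9 le_rfl

/-- The Hermitian product of two codes. -/
noncomputable def hermC (a b : ℕ) : ℕ := xorS (fun m => mulN (dg a m) (conjN (dg b m))) 9

/-- The Hermitian form. -/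
def hermF (x y : F9 → F) : F := ∑ z, x z * (y z) ^ 2

theorem hermC_lt (a b : ℕ) : hermC a b < 4 := xorS_lt (fun _ => mulN_lt _ _) 9

theorem φ_hermC (hg : Good ω) (a b : ℕ) : φ ω (hermC a b) = hermF (vecOf ω a) (vecOf ω b) := by
  unfold hermC hermF
  rw [φ_xorS' hg _ (fun _ => mulN_lt _ _)]
  have h1 : ∀ z : F9, vecOf ω a z * (vecOf ω b z) ^ 2 =
      (fun j => φ ω (mulN (dg a j) (conjN (dg b j)))) (zi z) := by
    intro z
    show φ ω (dg a (zi z)) * (φ ω (dg b (zi z))) ^ 2 = φ ω (mulN (dg a (zi z)) (conjN (dg b (zi z))))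
    rw [φ_mul hg _ _ (dg_lt _ _) (conjN_lt _), φ_conj hg _ (dg_lt _ _)]
  rw [Finset.sum_congr rfl (fun z _ => h1 z)]
  exact sum_zi (fun j => φ ω (mulN (dg a j) (conjN (dg b j))))

end field

end Cfsg.Agent.Lib.KnownSimple.J3
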