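import Cfsg.Agent.Lib.KnownSimple.J3.Rep
import Cfsg.Agent.Lib.KnownSimple.J3.DataV
import Cfsg.Agent.Lib.KnownSimple.J3.DataG
import Cfsg.Agent.Lib.KnownSimple.J3.DataT

/-!
# The Janko group: the table of points
-/

set_option autoImplicit false

namespace Cfsg.Agent.Lib.KnownSimple.J3

open Cfsg Cfsg.Spor Cfsg.Agent.Lib.Compute Cfsg.Agent.Lib.KnownSimple.PE Cfsg.Agent.Lib.KnownSimple.Leech
open Cfsg.Agent.Lib.KnownSimple Cfsg.Agent.Lib.KnownSimple.AutRigid
open Cfsg.Agent.Lib.KnownSimple.J3Data

/-- The number of points. -/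
abbrev N : ℕ := 23256

/-- The table of vectors. -/
noncomputable def tab (i : ℕ) : ℕ := pgetB 18 262143 10 1023 vBlocks i
/-- Lookup in a permutation table. -/
noncomputable def pq (bl : List ℕ) (i : ℕ) : ℕ := pgetB 15 32767 10 1023 bl i
/-- The tables of the generators. -/
noncomputable def T (k i : ℕ) : ℕ := pq (lgetD [] TL k) i
/-- The multiples of the columns of the generators. -/
noncomputable def gC (k j : ℕ) : ℕ := lgetD 0 (lgetD [] gCL k) j

/-- The body of the packing check. -/
noncomputable def gPack (i : ℕ) : Bool := Nat.beq (repack (tab i)) (tab i)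
/-- The body of the check of the search in the table. -/
noncomputable def gFind (i : ℕ) : Bool := Nat.beq (find tab N (tab i)) i
/-- The body of the check of the leading digits. -/
noncomputable def gLead (i : ℕ) : Bool := Nat.beq (lcN (tab i)) 1

end Cfsg.Agent.Lib.KnownSimple.J3
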