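import Cfsg.Agent.Lib.KnownSimple.J3.Inst

/-!
# The Janko group: generators and a stabiliser chain
-/

set_option autoImplicit false

namespace Cfsg.Agent.Lib.KnownSimple.J3

open Cfsg Cfsg.Spor Cfsg.Agent.Lib.Compute Cfsg.Agent.Lib.KnownSimple.PE Cfsg.Agent.Lib.KnownSimple.Leech
open Cfsg.Agent.Lib.KnownSimple Cfsg.Agent.Lib.KnownSimple.AutRigid
open Cfsg.Agent.Lib.KnownSimple.J3Data

/-- The rank of a point in the small stable set. -/
noncomputable def rk (i : ℕ) : ℕ := pgetB 8 255 10 1023 rkB i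
/-- Lookup in a table on the small stable set. -/
noncomputable def ps (t i : ℕ) : ℕ := pget 15 32767 t (rk i)

theorem coe_code_mul {a b : G} {f g : ℕ → ℕ} (h1 : E.IsCode (a : Equiv.Perm (Fin N)) f)
    (h2 : E.IsCode (b : Equiv.Perm (Fin N)) g) :
    E.IsCode ((a * b : G) : Equiv.Perm (Fin N)) (fun i => f (g i)) := isCode_mul h1 h2

theorem hO : covOK N OM olist = true := by decide +kernel

/-- A generator. -/
noncomputable def D0 : G := ⟨P 19, P_H (by norm_num)⟩
/-- A generator. -/
noncomputable def D1 : G := ⟨P 35, P_H (by norm_num)⟩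
theorem code_D0 : E.IsCode ((D0 : G) : Equiv.Perm (Fin N)) (T 19) := P_code (by norm_num)
theorem code_D1 : E.IsCode ((D1 : G) : Equiv.Perm (Fin N)) (T 35) := P_code (by norm_num)

/-- The generators. -/
def Sx : Set (Equiv.Perm (Fin N)) := {(D0 : Equiv.Perm (Fin N)), (D1 : Equiv.Perm (Fin N))}
/-- The group generated by the generators. -/
def K : Subgroup (Equiv.Perm (Fin N)) := Subgroup.closure Sx

theorem memK_D0 : (D0 : Equiv.Perm (Fin N)) ∈ K := Subgroup.subset_closure (by simp [Sx])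
theorem memK_D1 : (D1 : Equiv.Perm (Fin N)) ∈ K := Subgroup.subset_closure (by simp [Sx])
theorem memK_pow (g : G) (e : ℕ) (h : (g : Equiv.Perm (Fin N)) ∈ K) : ((g ^ e : G) : Equiv.Perm (Fin N)) ∈ K := by
  rw [Subgroup.coe_pow]
  exact K.pow_mem h e

/-- A strong generator. -/
noncomputable def S0 : G := D0 ^ 8 * (D1 ^ 1 * (D0 ^ 8 * (D0 ^ 8 * (D0 ^ 8 * (D0 ^ 8 * (D1 ^ 1 * (D0 ^ 8 * (D1 ^ 1 * (D0 ^ 8 * (D1 ^ 1 * (D0 ^ 1 * (D0 ^ 1 * (D1 ^ 1 * (D0 ^ 1 * (D0 ^ 1 * (D0 ^ 1 * (D0 ^ 1 * (D0 ^ 1 * (D0 ^ 1 * (D0 ^ 1 * (D1 ^ 1 * (D0 ^ 1 * (D1 ^ 1 * (D0 ^ 1 * (D0 ^ 1 * (D1 ^ 1 * (D0 ^ 1 * (D1 ^ 1 * (D0 ^ 1 * (D0 ^ 1))))))))))))))))))))))))))))))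
/-- The code of a strong generator. -/
noncomputable def cS0 : ℕ → ℕ := hyb OM (ps TK0) (cdOf E (S0 : Equiv.Perm (Fin N)))
/-- The code of the inverse of a strong generator. -/
noncomputable def ciS0 : ℕ → ℕ := hyb OM (ps TIK0) (cdOf E (S0 : Equiv.Perm (Fin N))⁻¹)
set_option maxRecDepth 100000 in
theorem code_S0 : E.IsCode ((S0 : G) : Equiv.Perm (Fin N)) (cS0) := by
  have h := coe_code_mul (coe_pow_isCode code_D0 8) (coe_code_mul (coe_pow_isCode code_D1 1) (coe_code_mul (coe_pow_isCode code_D0 8) (coe_code_mul (coe_pow_isCode code_D0 8) (coe_code_mul (coe_pow_isCode code_D0 8) (coe_code_mul (coe_pow_isCode code_D0 8) (coe_code_mul (coe_pow_isCode code_D1 1) (coe_code_mul (coe_pow_isCode code_D0 8) (coe_code_mul (coe_pow_isCode code_D1 1) (coe_code_mul (coe_pow_isCode code_D0 8) (coe_code_mul (coe_pow_isCode code_D1 1) (coe_code_mul (coe_pow_isCode code_D0 1) (coe_code_mul (coe_pow_isCode code_D0 1) (coe_code_mul (coe_pow_isCode code_D1 1) (coe_code_mul (coe_pow_isCode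 code_D0 1) (coe_code_mul (coe_pow_isCode code_D0 1) (coe_code_mul (coe_pow_isCode code_D0 1) (coe_code_mul (coe_pow_isCode code_D0 1) (coe_code_mul (coe_pow_isCode code_D0 1) (coe_code_mul (coe_pow_isCode code_D0 1) (coe_code_mul (coe_pow_isCode code_D0 1) (coe_code_mul (coe_pow_isCode code_D1 1) (coe_code_mul (coe_pow_isCode code_D0 1) (coe_code_mul (coe_pow_isCode code_D1 1) (coe_code_mul (coe_pow_isCode code_D0 1) (coe_code_mul (coe_pow_isCode code_D0 1) (coe_code_mul (coe_pow_isCode code_D1 1) (coe_code_mul (coe_pow_isCode code_D0 1) (coe_code_mul (coe_pow_isCode code_D1 1) (coe_code_mul (coe_pow_isCode code_D0 1) (coe_pow_isCode code_D0 1))))))))))))))))))))))))))))))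
  exact hyb_code hO h (by decide +kernel)
set_option maxRecDepth 100000 in
theorem codei_S0 : E.IsCode ((S0⁻¹ : G) : Equiv.Perm (Fin N)) (ciS0) :=
  hyb_inv hO code_S0 (by decide +kernel)
/-- A strong generator. -/
noncomputable def S1 : G := D0 ^ 8 * (D1 ^ 1 * (D0 ^ 8 * (D1 ^ 1 * (D0 ^ 8 * (D1 ^ 1 * (D0 ^ 8 * (D1 ^ 1 * (D0 ^ 8 * (D0 ^ 8 * (D1 ^ 1 * (D0 ^ 8 * (D1 ^ 1 * (D0 ^ 1 * (D1 ^ 1 * (D0 ^ 1 * (D0 ^ 1 * (D1 ^ 1 * (D0 ^ 1 * (D0 ^ 1 * (D0 ^ 1 * (D0 ^ 1 * (D1 ^ 1 * (D0 ^ 1 * (D1 ^ 1 * (D0 ^ 1 * (D0 ^ 1 * (D0 ^ 1 * (D0 ^ 1 * (D0 ^ 1 * (D0 ^ 1 * (D0 ^ 1 * (D1 ^ 1 * (D0 ^ 1)))))))))))))))))))))))))))))))))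
/-- The code of a strong generator. -/
noncomputable def cS1 : ℕ → ℕ := hyb OM (ps TK1) (cdOf E (S1 : Equiv.Perm (Fin N)))
/-- The code of the inverse of a strong generator. -/
noncomputable def ciS1 : ℕ → ℕ := hyb OM (ps TIK1) (cdOf E (S1 : Equiv.Perm (Fin N))⁻¹)
set_option maxRecDepth 100000 in
theorem code_S1 : E.IsCode ((S1 : G) : Equiv.Perm (Fin N)) (cS1) := by
  have h := coe_code_mul (coe_pow_isCode code_D0 8) (coe_code_mul (coe_pow_isCode code_D1 1) (coe_code_mul (coe_pow_isCode code_D0 8) (coe_code_mul (coe_pow_isCode code_D1 1) (coe_code_mul (coe_pow_isCode code_D0 8) (coe_code_mul (coe_pow_isCode code_D1 1) (coe_code_mul (coe_pow_isCode code_D0 8) (coe_code_mul (coe_pow_isCode code_D1 1) (coe_code_mul (coe_pow_isCode code_D0 8) (coe_code_mul (coe_pow_isCode code_D0 8) (coe_code_mul (coe_pow_isCode code_D1 1) (coe_code_mul (coe_pow_isCode code_D0 8) (coe_code_mul (coe_pow_isCode code_D1 1) (coe_code_mul (coe_pow_isCode code_D0 1) (coe_code_mul (coe_pow_isCode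 code_D1 1) (coe_code_mul (coe_pow_isCode code_D0 1) (coe_code_mul (coe_pow_isCode code_D0 1) (coe_code_mul (coe_pow_isCode code_D1 1) (coe_code_mul (coe_pow_isCode code_D0 1) (coe_code_mul (coe_pow_isCode code_D0 1) (coe_code_mul (coe_pow_isCode code_D0 1) (coe_code_mul (coe_pow_isCode code_D0 1) (coe_code_mul (coe_pow_isCode code_D1 1) (coe_code_mul (coe_pow_isCode code_D0 1) (coe_code_mul (coe_pow_isCode code_D1 1) (coe_code_mul (coe_pow_isCode code_D0 1) (coe_code_mul (coe_pow_isCode code_D0 1) (coe_code_mul (coe_pow_isCode code_D0 1) (coe_code_mul (coe_pow_isCode code_D0 1) (coe_code_mul (coe_pow_isCode code_D0 1) (coe_code_mul (coe_pow_isCode code_D0 1) (coe_code_mul (coe_pow_isCode code_D0 1) (coe_code_mul (coe_pow_isCode code_D1 1) (coe_pow_isCode code_D0 1)))))))))))))))))))))))))))))))))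
  exact hyb_code hO h (by decide +kernel)
set_option maxRecDepth 100000 in
theorem codei_S1 : E.IsCode ((S1⁻¹ : G) : Equiv.Perm (Fin N)) (ciS1) :=
  hyb_inv hO code_S1 (by decide +kernel)
/-- A strong generator. -/
noncomputable def S2 : G := S0⁻¹ * (S1 * (S0))
/-- The code of a strong generator. -/
noncomputable def cS2 : ℕ → ℕ := hyb OM (ps TK2) (cdOf E (S2 : Equiv.Perm (Fin N)))
/-- The code of the inverse of a strong generator. -/
noncomputable def ciS2 : ℕ → ℕ := hyb OM (ps TIK2) (cdOf E (S2 : Equiv.Perm (Fin N))⁻¹)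
set_option maxRecDepth 100000 in
theorem code_S2 : E.IsCode ((S2 : G) : Equiv.Perm (Fin N)) (cS2) := by
  have h := coe_code_mul codei_S0 (coe_code_mul code_S1 (code_S0))
  exact hyb_code hO h (by decide +kernel)
set_option maxRecDepth 100000 in
theorem codei_S2 : E.IsCode ((S2⁻¹ : G) : Equiv.Perm (Fin N)) (ciS2) :=
  hyb_inv hO code_S2 (by decide +kernel)
/-- A strong generator. -/
noncomputable def S3 : G := S1⁻¹ * (S0⁻¹ * (S1⁻¹ * (S0 * (S0 * (S0 * (S1))))))
/-- The code of a strong generator. -/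
noncomputable def cS3 : ℕ → ℕ := hyb OM (ps TK3) (cdOf E (S3 : Equiv.Perm (Fin N)))
/-- The code of the inverse of a strong generator. -/
noncomputable def ciS3 : ℕ → ℕ := hyb OM (ps TIK3) (cdOf E (S3 : Equiv.Perm (Fin N))⁻¹)
set_option maxRecDepth 100000 in
theorem code_S3 : E.IsCode ((S3 : G) : Equiv.Perm (Fin N)) (cS3) := by
  have h := coe_code_mul codei_S1 (coe_code_mul codei_S0 (coe_code_mul codei_S1 (coe_code_mul code_S0 (coe_code_mul code_S0 (coe_code_mul code_S0 (code_S1))))))
  exact hyb_code hO h (by decide +kernel)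
set_option maxRecDepth 100000 in
theorem codei_S3 : E.IsCode ((S3⁻¹ : G) : Equiv.Perm (Fin N)) (ciS3) :=
  hyb_inv hO code_S3 (by decide +kernel)
/-- A strong generator. -/
noncomputable def S4 : G := S1⁻¹ * (S1⁻¹ * (S0⁻¹ * (S0⁻¹ * (S1⁻¹ * (S0 * (S1 * (S0 * (S1 * (S0 * (S0))))))))))
/-- The code of a strong generator. -/
noncomputable def cS4 : ℕ → ℕ := hyb OM (ps TK4) (cdOf E (S4 : Equiv.Perm (Fin N)))
/-- The code of the inverse of a strong generator. -/
noncomputable def ciS4 : ℕ → ℕ := hyb OM (ps TIK4) (cdOf E (S4 : Equiv.Perm (Fin N))⁻¹)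
set_option maxRecDepth 100000 in
theorem code_S4 : E.IsCode ((S4 : G) : Equiv.Perm (Fin N)) (cS4) := by
  have h := coe_code_mul codei_S1 (coe_code_mul codei_S1 (coe_code_mul codei_S0 (coe_code_mul codei_S0 (coe_code_mul codei_S1 (coe_code_mul code_S0 (coe_code_mul code_S1 (coe_code_mul code_S0 (coe_code_mul code_S1 (coe_code_mul code_S0 (code_S0))))))))))
  exact hyb_code hO h (by decide +kernel)
set_option maxRecDepth 100000 in
theorem codei_S4 : E.IsCode ((S4⁻¹ : G) : Equiv.Perm (Fin N)) (ciS4) :=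
  hyb_inv hO code_S4 (by decide +kernel)
/-- Generators of a stabiliser. -/
def SS1 : Set (Equiv.Perm (Fin N)) := {(S0 : Equiv.Perm (Fin N)), (S1 : Equiv.Perm (Fin N))}
/-- A stabiliser. -/
def KK1 : Subgroup (Equiv.Perm (Fin N)) := Subgroup.closure SS1
theorem memKK1_0 : (S0 : Equiv.Perm (Fin N)) ∈ KK1 := Subgroup.subset_closure (by simp [SS1])
theorem memKK1_1 : (S1 : Equiv.Perm (Fin N)) ∈ KK1 := Subgroup.subset_closure (by simp [SS1])
/-- A level. -/
noncomputable def L1 : Lev :=
  { b := 1, D := D_L1, arr := A_L1, w := 21, m := 2097151, mp := 32767, bn := 15, mg := 3, bd := 17,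
    fs := lgetD (fun a => a) [cS0, cS1], gs := lgetD (fun a => a) [ciS0, ciS1] }
theorem gens1 : GensIn E (KK1) L1 := by
  intro k
  match k with
  | 0 => exact ⟨_, memKK1_0, code_S0, codei_S0⟩
  | 1 => exact ⟨_, memKK1_1, code_S1, codei_S1⟩
  | (k + 2) =>
    refine ⟨1, (KK1).one_mem, isCode_one E, ?_⟩
    rw [inv_one]
    exact isCode_one E
theorem hS1 : ∀ s ∈ SS1, ∃ k, k < 2 ∧ E.IsCode s (L1.fs k) := by
  rintro s (rfl | rfl)
  · exact ⟨0, by norm_num, code_S0⟩
  · exact ⟨1, by norm_num, code_S1⟩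
theorem KKH1 : KK1 ≤ A := by
  rw [KK1, Subgroup.closure_le]
  rintro s (rfl | rfl)
  · exact H_le_A (S0 : G).2
  · exact H_le_A (S1 : G).2

/-- Generators of a stabiliser. -/
def SS2 : Set (Equiv.Perm (Fin N)) := {(S2 : Equiv.Perm (Fin N)), (S3 : Equiv.Perm (Fin N)), (S4 : Equiv.Perm (Fin N))}
/-- A stabiliser. -/
def KK2 : Subgroup (Equiv.Perm (Fin N)) := Subgroup.closure SS2
theorem memKK2_2 : (S2 : Equiv.Perm (Fin N)) ∈ KK2 := Subgroup.subset_closure (by simp [SS2])
theorem memKK2_3 : (S3 : Equiv.Perm (Fin N)) ∈ KK2 := Subgroup.subset_closure (by simp [SS2])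
theorem memKK2_4 : (S4 : Equiv.Perm (Fin N)) ∈ KK2 := Subgroup.subset_closure (by simp [SS2])
/-- A level. -/
noncomputable def L2 : Lev :=
  { b := 7764, D := D_L2, arr := A_L2, w := 20, m := 1048575, mp := 32767, bn := 15, mg := 3, bd := 17,
    fs := lgetD (fun a => a) [cS2, cS3, cS4], gs := lgetD (fun a => a) [ciS2, ciS3, ciS4] }
theorem gens2 : GensIn E (KK2) L2 := by
  intro k
  match k with
  | 0 => exact ⟨_, memKK2_2, code_S2, codei_S2⟩
  | 1 => exact ⟨_, memKK2_3, code_S3, codei_S3⟩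
  | 2 => exact ⟨_, memKK2_4, code_S4, codei_S4⟩
  | (k + 3) =>
    refine ⟨1, (KK2).one_mem, isCode_one E, ?_⟩
    rw [inv_one]
    exact isCode_one E
theorem hS2 : ∀ s ∈ SS2, ∃ k, k < 3 ∧ E.IsCode s (L2.fs k) := by
  rintro s (rfl | rfl | rfl)
  · exact ⟨0, by norm_num, code_S2⟩
  · exact ⟨1, by norm_num, code_S3⟩
  · exact ⟨2, by norm_num, code_S4⟩
theorem KKH2 : KK2 ≤ A := by
  rw [KK2, Subgroup.closure_le]
  rintro s (rfl | rfl | rfl)
  · exact H_le_A (S2 : G).2
  · exact H_le_A (S3 : G).2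
  · exact H_le_A (S4 : G).2

set_option maxRecDepth 100000 in
theorem trc2_0 : chunk (L2.treeAt N) 2584 0 = true := by decide +kernel
set_option maxRecDepth 100000 in
theorem trc2_1 : chunk (L2.treeAt N) 2584 1 = true := by decide +kernel
set_option maxRecDepth 100000 in
theorem trc2_2 : chunk (L2.treeAt N) 2584 2 = true := by decide +kernel
set_option maxRecDepth 100000 in
theorem trc2_3 : chunk (L2.treeAt N) 2584 3 = true := by decide +kernel
set_option maxRecDepth 100000 in
theorem trc2_4 : chunk (L2.treeAt N) 2584 4 = true := by decide +kernel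
set_option maxRecDepth 100000 in
theorem trc2_5 : chunk (L2.treeAt N) 2584 5 = true := by decide +kernel
set_option maxRecDepth 100000 in
theorem trc2_6 : chunk (L2.treeAt N) 2584 6 = true := by decide +kernel
set_option maxRecDepth 100000 in
theorem trc2_7 : chunk (L2.treeAt N) 2584 7 = true := by decide +kernel
set_option maxRecDepth 100000 in
theorem trc2_8 : chunk (L2.treeAt N) 2584 8 = true := by decide +kernel
theorem tree2 : L2.treeOK N = true := by
  have h : allBelow (L2.treeAt N) (9 * 2584) = true := allBelow_of_chunks (fun c hc => by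
    interval_cases c
    · exact trc2_0
    · exact trc2_1
    · exact trc2_2
    · exact trc2_3
    · exact trc2_4
    · exact trc2_5
    · exact trc2_6
    · exact trc2_7
    · exact trc2_8
  )
  exact h
/-- The tail of the chain. -/
noncomputable def chTail2 : List Lev := trailL.map triv
set_option maxRecDepth 100000 in
theorem sch2_0 : chunk (schG N L2 chTail2 3) 2584 0 = true := by decide +kernel
set_option maxRecDepth 100000 in
theorem sch2_1 : chunk (schG N L2 chTail2 3) 2584 1 = true := by decide +kernel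
set_option maxRecDepth 100000 in
theorem sch2_2 : chunk (schG N L2 chTail2 3) 2584 2 = true := by decide +kernel
set_option maxRecDepth 100000 in
theorem sch2_3 : chunk (schG N L2 chTail2 3) 2584 3 = true := by decide +kernel
set_option maxRecDepth 100000 in
theorem sch2_4 : chunk (schG N L2 chTail2 3) 2584 4 = true := by decide +kernel
set_option maxRecDepth 100000 in
theorem sch2_5 : chunk (schG N L2 chTail2 3) 2584 5 = true := by decide +kernel
set_option maxRecDepth 100000 in
theorem sch2_6 : chunk (schG N L2 chTail2 3) 2584 6 = true := by decide +kernel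
set_option maxRecDepth 100000 in
theorem sch2_7 : chunk (schG N L2 chTail2 3) 2584 7 = true := by decide +kernel
set_option maxRecDepth 100000 in
theorem sch2_8 : chunk (schG N L2 chTail2 3) 2584 8 = true := by decide +kernel
theorem sch2 : schOK N L2 chTail2 3 = true :=
  schOK_of_chunks (m := 9) (s := 2584) (by norm_num) (fun c hc => by
    interval_cases c
    · exact sch2_0
    · exact sch2_1
    · exact sch2_2
    · exact sch2_3
    · exact sch2_4
    · exact sch2_5
    · exact sch2_6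
    · exact sch2_7
    · exact sch2_8
  )
theorem le2 : (⊥ : Subgroup (Equiv.Perm (Fin N))) ≤ KK2 := bot_le
theorem fix2 : ∀ σ ∈ (⊥ : Subgroup (Equiv.Perm (Fin N))), σ (E.pt 7764) = E.pt 7764 := by
  intro σ hσ
  rw [Subgroup.mem_bot.1 hσ]
  rfl
theorem kpre2 : ∀ τ ∈ KK2, ∀ x ∈ [0, 1], τ (E.pt x) = E.pt x := by
  apply closure_fix_list
  rintro s (rfl | rfl | rfl)
  · exact fix_list_of_code code_S2 (by decide +kernel) (by decide +kernel)
  · exact fix_list_of_code code_S3 (by decide +kernel) (by decide +kernel)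
  · exact fix_list_of_code code_S4 (by decide +kernel) (by decide +kernel)
theorem lev2 : LevelSem E (KK2) (⊥) L2 :=
  levelS (A := A) (S := SS2) (ng := 3) (by decide +kernel) rfl hS2 gens2 tree2 (by decide +kernel) (by decide +kernel)
    (chainTriv (E := E) trailL (by decide +kernel)) le2 fix2 [0, 1] ((by decide +kernel : [0, 1] ++ L2.b :: basesOf chTail2 = baseAll) ▸ based_all) KKH2 kpre2 sch2
theorem ch2 : ChainSem E (KK2) (L2 :: chTail2) := ⟨_, lev2, (chainTriv (E := E) trailL (by decide +kernel))⟩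

set_option maxRecDepth 100000 in
theorem trc1_0 : chunk (L1.treeAt N) 2584 0 = true := by decide +kernel
set_option maxRecDepth 100000 in
theorem trc1_1 : chunk (L1.treeAt N) 2584 1 = true := by decide +kernel
set_option maxRecDepth 100000 in
theorem trc1_2 : chunk (L1.treeAt N) 2584 2 = true := by decide +kernel
set_option maxRecDepth 100000 in
theorem trc1_3 : chunk (L1.treeAt N) 2584 3 = true := by decide +kernel
set_option maxRecDepth 100000 in
theorem trc1_4 : chunk (L1.treeAt N) 2584 4 = true := by decide +kernel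
set_option maxRecDepth 100000 in
theorem trc1_5 : chunk (L1.treeAt N) 2584 5 = true := by decide +kernel
set_option maxRecDepth 100000 in
theorem trc1_6 : chunk (L1.treeAt N) 2584 6 = true := by decide +kernel
set_option maxRecDepth 100000 in
theorem trc1_7 : chunk (L1.treeAt N) 2584 7 = true := by decide +kernel
set_option maxRecDepth 100000 in
theorem trc1_8 : chunk (L1.treeAt N) 2584 8 = true := by decide +kernel
theorem tree1 : L1.treeOK N = true := by
  have h : allBelow (L1.treeAt N) (9 * 2584) = true := allBelow_of_chunks (fun c hc => by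
    interval_cases c
    · exact trc1_0
    · exact trc1_1
    · exact trc1_2
    · exact trc1_3
    · exact trc1_4
    · exact trc1_5
    · exact trc1_6
    · exact trc1_7
    · exact trc1_8
  )
  exact h
/-- The tail of the chain. -/
noncomputable def chTail1 : List Lev := L2 :: chTail2
set_option maxRecDepth 100000 in
theorem sch1_0 : chunk (schG N L1 chTail1 2) 2584 0 = true := by decide +kernel
set_option maxRecDepth 100000 in
theorem sch1_1 : chunk (schG N L1 chTail1 2) 2584 1 = true := by decide +kernel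
set_option maxRecDepth 100000 in
theorem sch1_2 : chunk (schG N L1 chTail1 2) 2584 2 = true := by decide +kernel
set_option maxRecDepth 100000 in
theorem sch1_3 : chunk (schG N L1 chTail1 2) 2584 3 = true := by decide +kernel
set_option maxRecDepth 100000 in
theorem sch1_4 : chunk (schG N L1 chTail1 2) 2584 4 = true := by decide +kernel
set_option maxRecDepth 100000 in
theorem sch1_5 : chunk (schG N L1 chTail1 2) 2584 5 = true := by decide +kernel
set_option maxRecDepth 100000 in
theorem sch1_6 : chunk (schG N L1 chTail1 2) 2584 6 = true := by decide +kernel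
set_option maxRecDepth 100000 in
theorem sch1_7 : chunk (schG N L1 chTail1 2) 2584 7 = true := by decide +kernel
set_option maxRecDepth 100000 in
theorem sch1_8 : chunk (schG N L1 chTail1 2) 2584 8 = true := by decide +kernel
theorem sch1 : schOK N L1 chTail1 2 = true :=
  schOK_of_chunks (m := 9) (s := 2584) (by norm_num) (fun c hc => by
    interval_cases c
    · exact sch1_0
    · exact sch1_1
    · exact sch1_2
    · exact sch1_3
    · exact sch1_4
    · exact sch1_5
    · exact sch1_6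
    · exact sch1_7
    · exact sch1_8
  )
theorem le1 : KK2 ≤ KK1 := by
  rw [KK2, Subgroup.closure_le]
  rintro s (rfl | rfl | rfl)
  · exact (KK1).mul_mem ((KK1).inv_mem memKK1_0) ((KK1).mul_mem (memKK1_1) (memKK1_0))
  · exact (KK1).mul_mem ((KK1).inv_mem memKK1_1) ((KK1).mul_mem ((KK1).inv_mem memKK1_0) ((KK1).mul_mem ((KK1).inv_mem memKK1_1) ((KK1).mul_mem (memKK1_0) ((KK1).mul_mem (memKK1_0) ((KK1).mul_mem (memKK1_0) (memKK1_1))))))
  · exact (KK1).mul_mem ((KK1).inv_mem memKK1_1) ((KK1).mul_mem ((KK1).inv_mem memKK1_1) ((KK1).mul_mem ((KK1).inv_mem memKK1_0) ((KK1).mul_mem ((KK1).inv_mem memKK1_0) ((KK1).mul_mem ((KK1).inv_mem memKK1_1) ((KK1).mul_mem (memKK1_0) ((KK1).mul_mem (memKK1_1) ((KK1).mul_mem (memKK1_0) ((KK1).mul_mem (memKK1_1) ((KK1).mul_mem (memKK1_0) (memKK1_0))))))))))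
theorem fix1 : ∀ σ ∈ KK2, σ (E.pt 1) = E.pt 1 := by
  apply closure_fix
  rintro s (rfl | rfl | rfl)
  · exact fix_of_code code_S2 (by norm_num) (by decide +kernel)
  · exact fix_of_code code_S3 (by norm_num) (by decide +kernel)
  · exact fix_of_code code_S4 (by norm_num) (by decide +kernel)
theorem kpre1 : ∀ τ ∈ KK1, ∀ x ∈ [0], τ (E.pt x) = E.pt x := by
  apply closure_fix_list
  rintro s (rfl | rfl)
  · exact fix_list_of_code code_S0 (by decide +kernel) (by decide +kernel)
  · exact fix_list_of_code code_S1 (by decide +kernel) (by decide +kernel)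
theorem lev1 : LevelSem E (KK1) (KK2) L1 :=
  levelS (A := A) (S := SS1) (ng := 2) (by decide +kernel) rfl hS1 gens1 tree1 (by decide +kernel) (by decide +kernel)
    ch2 le1 fix1 [0] ((by decide +kernel : [0] ++ L1.b :: basesOf chTail1 = baseAll) ▸ based_all) KKH1 kpre1 sch1
theorem ch1 : ChainSem E (KK1) (L1 :: chTail1) := ⟨_, lev1, ch2⟩

theorem chF : ChainSem E (KK1) [L1, L2] :=
  ⟨_, lev1, _, lev2, rfl⟩

/-- The codes of the top level. -/
noncomputable def fsTop : ℕ → ℕ → ℕ := lgetD (fun a => a) [T 19, T 35]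
/-- The inverse codes of the top level. -/
noncomputable def gsTop : ℕ → ℕ → ℕ := lgetD (fun a => a) [pq tiD0, T 35]

/-- The top level. -/
noncomputable def L0 : Lev :=
  { b := 0, D := Nat.sub (Nat.shiftLeft 1 23256) 1, arr := A_L0, w := 22, m := 4194303, mp := 32767, bn := 15, mg := 3, bd := 17,
    fs := fsTop, gs := gsTop }
/-- The tail of the chain. -/
noncomputable def chTail0 : List Lev := L1 :: chTail1
/-- The body of the check of an inverse. -/
noncomputable def gInv0 (i : ℕ) : Bool := Nat.beq (pq tiD0 (T 19 i)) i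
/-- The body of the check of an involution. -/
noncomputable def gInv1 (i : ℕ) : Bool := Nat.beq (T 35 (T 35 i)) i

end Cfsg.Agent.Lib.KnownSimple.J3
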