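import Cfsg.Agent.Lib.KnownSimple.J3.ChkA
import Cfsg.Agent.Lib.KnownSimple.J3.ChkG0
import Cfsg.Agent.Lib.KnownSimple.J3.ChkG1
import Cfsg.Agent.Lib.KnownSimple.J3.ChkG2
import Cfsg.Agent.Lib.KnownSimple.J3.ChkG3

/-!
# The Janko group: the data of the representation
-/

set_option autoImplicit false

namespace Cfsg.Agent.Lib.KnownSimple.J3

open Cfsg Cfsg.Spor Cfsg.Agent.Lib.Compute Cfsg.Agent.Lib.KnownSimple.PE Cfsg.Agent.Lib.KnownSimple.Leech
open Cfsg.Agent.Lib.KnownSimple Cfsg.Agent.Lib.KnownSimple.AutRigid
open Cfsg.Agent.Lib.KnownSimple.J3Data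

/-- The data of the representation. -/
noncomputable def J : JTab N 47 where
  tab := tab
  gC := gC
  T := T
  hpack := hpackT
  hfind := hfindT
  hlead := hleadT
  h43 := by norm_num
  hcol := hcolT
  hgen := fun k hk => by
    interval_cases k
    · exact gG0
    · exact gG1
    · exact gG2
    · exact gG3
    · exact gG4
    · exact gG5
    · exact gG6
    · exact gG7
    · exact gG8
    · exact gG9
    · exact gG10
    · exact gG11
    · exact gG12
    · exact gG13
    · exact gG14
    · exact gG15
    · exact gG16
    · exact gG17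
    · exact gG18
    · exact gG19
    · exact gG20
    · exact gG21
    · exact gG22
    · exact gG23
    · exact gG24
    · exact gG25
    · exact gG26
    · exact gG27
    · exact gG28
    · exact gG29
    · exact gG30
    · exact gG31
    · exact gG32
    · exact gG33
    · exact gG34
    · exact gG35
    · exact gG36
    · exact gG37
    · exact gG38
    · exact gG39
    · exact gG40
    · exact gG41
    · exact gG42
    · exact gG43
    · exact gG44
    · exact gG45
    · exact gG46
  hA := hAT
  hE := hET
  hD := hDT
  hB := hBT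
  hC := hCT
  hU := hUT

/-- The base. -/
def baseAll : List ℕ := [0, 1, 7764, 2, 3, 31, 113, 330, 1492, 5840]
/-- The trailing part of the base. -/
def trailL : List ℕ := [2, 3, 31, 113, 330, 1492, 5840]
/-- The points of the vectors of the standard basis. -/
def ezL : List ℕ := [0, 1, 2, 3, 31, 113, 330, 1492, 5840]

/-- The base is a base. -/
noncomputable def bOK : BaseOK J baseAll where
  eb := lgetD 0 ezL
  v0 := 7764
  hlt := by decide +kernel
  hmem := by decide +kernel
  hv0 := by decide +kernel
  hE := by decide +kernel
  hV := by decide +kernel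

/-- The encoding. -/
abbrev E : Enc (Fin N) N := encFin N
/-- The group acting on the points. -/
noncomputable abbrev H : Subgroup (Equiv.Perm (Fin N)) := H₀ J
/-- The group. -/
abbrev G : Type := ↥H

theorem exists_A : ∃ A : Subgroup (Equiv.Perm (Fin N)), Based E A baseAll ∧ H ≤ A ∧
    (∀ k, k < 47 → ∃ σ ∈ A, E.IsCode σ (J.T k)) ∧ GramInv E H (grJ J) := by
  obtain ⟨F, _, _, ω, hg⟩ := exists_model
  refine ⟨(repS J hg).range, based_repS J hg bOK, H₀_le_range J hg, fun k hk => exists_code J hg hk, ?_⟩
  have h := grInv_rep J hg
  rw [range_rep J hg] at h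
  exact h

/-- A group containing all the generators, with the base. -/
noncomputable def A : Subgroup (Equiv.Perm (Fin N)) := Classical.choose exists_A
theorem based_all : Based E A baseAll := (Classical.choose_spec exists_A).1
theorem H_le_A : H ≤ A := (Classical.choose_spec exists_A).2.1
theorem exists_P {k : ℕ} (hk : k < 47) : ∃ σ ∈ A, E.IsCode σ (T k) :=
  (Classical.choose_spec exists_A).2.2.1 k hk
theorem grInv : GramInv E H (grJ J) := (Classical.choose_spec exists_A).2.2.2

/-- The permutations given by the generators. -/
noncomputable def P (k : ℕ) : Equiv.Perm (Fin N) := if h : k < 47 then Classical.choose (exists_P h) else 1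
theorem P_mem {k : ℕ} (hk : k < 47) : P k ∈ A := by
  rw [P, dif_pos hk]
  exact (Classical.choose_spec (exists_P hk)).1
theorem P_code {k : ℕ} (hk : k < 47) : E.IsCode (P k) (T k) := by
  rw [P, dif_pos hk]
  exact (Classical.choose_spec (exists_P hk)).2
theorem P_H {k : ℕ} (hk : k < 43) : P k ∈ H := Subgroup.subset_closure ⟨k, hk, P_code (by omega)⟩

end Cfsg.Agent.Lib.KnownSimple.J3
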