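import Cfsg.Agent.Lib.LargeES.Rank
import Cfsg.Agent.Lib.LargeES.Simple

/-!
# A criterion for the structure of an involution centraliser of shape `2^{1+4}_- : A₅`

Given injective homomorphisms of the extraspecial group of order `32` of minus type and of the alternating group
of degree five into a group `J` of order `50232960`, with images centralising the central involution `t`, with the
second normalising the first, and with few conjugates of `t` missing, the centraliser of `t` is the product of the
two images and all involutions are conjugate.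
-/

set_option autoImplicit false

namespace Cfsg.Agent.Lib.KnownSimple.J3Inv

open Subgroup Cfsg
open Cfsg.Agent.Lib.LargeES
open scoped Pointwise

/-- The form of minus type. -/
abbrev δ₀ : Fin 2 → ZMod 2 := fun i => if i = 0 then 1 else 0
/-- The extraspecial group of order `32` of minus type. -/
abbrev Q₀ : Type := Rank.CG 2 δ₀
/-- The alternating group of degree five. -/
abbrev A₅ : Type := ↥(alternatingGroup (Fin 5))

/-- A map of tables which respects left multiplication by generators is a homomorphism. -/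
theorem exists_hom_of_table {K G : Type*} [Group K] [Finite K] [Group G] {m : ℕ} (e : Fin m → K) (n : Fin m → G)
    (hm : Nat.card K = m) (hinj : Function.Injective e) (S : Set K) (hS : closure S = ⊤) (i₀ : Fin m)
    (h1 : e i₀ = 1) (hn1 : n i₀ = 1)
    (hreg : ∀ s ∈ S, ∃ a : G, ∀ i, ∃ j, s * e i = e j ∧ a * n i = n j) :
    ∃ f : K →* G, ∀ i, f (e i) = n i := by
  have hb : Function.Bijective e := by
    refine (Function.Injective.bijective_of_nat_card_le hinj ?_)
    rw [hm, Nat.card_fin]
  let eq : Fin m ≃ K := Equiv.ofBijective e hb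
  let n' : K → G := fun g => n (eq.symm g)
  have hn' : ∀ i, n' (e i) = n i := by
    intro i
    show n (eq.symm (e i)) = n i
    congr 1
    exact eq.symm_apply_apply i
  have hn1' : n' 1 = 1 := by
    rw [← h1, hn', hn1]
  let P : K → Prop := fun g => ∀ y, n' (g * y) = n' g * n' y
  have hP : ∀ g, P g := by
    intro g
    have hg : g ∈ closure S := by
      rw [hS]
      exact mem_top g
    induction hg using Subgroup.closure_induction with
    | mem s hs =>
      intro y
      obtain ⟨a, ha⟩ := hreg s hs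
      have h2 : ∀ y, n' (s * y) = a * n' y := by
        intro y
        obtain ⟨i, rfl⟩ := hb.2 y
        obtain ⟨j, h3, h4⟩ := ha i
        rw [hn', h3, hn', h4]
      have h3 : n' s = a := by
        have := h2 1
        rwa [mul_one, hn1', mul_one] at this
      rw [h2, h3]
    | one =>
      intro y
      rw [one_mul, hn1', one_mul]
    | mul a b _ _ ha hb =>
      intro y
      rw [mul_assoc, ha, hb, ha b, mul_assoc]
    | inv a _ ha =>
      have h2 : ∀ y, n' (a⁻¹ * y) = (n' a)⁻¹ * n' y := by
        intro y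
        have h3 := ha (a⁻¹ * y)
        rw [mul_inv_cancel_left] at h3
        rw [h3, inv_mul_cancel_left]
      intro y
      have h3 := h2 1
      rw [mul_one, hn1', mul_one] at h3
      rw [h2, h3]
  refine ⟨MonoidHom.mk' n' hP, fun i => hn' i⟩

/-- Many conjugates: a bound for the centraliser. -/
theorem card_centralizer_le {J : Type*} [Group J] [Finite J] {m c : ℕ} (t : J) (u : Fin m → J)
    (hu : ∀ i j, u i * t * (u i)⁻¹ = u j * t * (u j)⁻¹ → i = j) (hc : Nat.card J = m * c) (hm : 0 < m) :
    Nat.card (centralizer ({t} : Set J)) ≤ c := by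
  classical
  let C := centralizer ({t} : Set J)
  let f : Fin m → J ⧸ C := fun i => QuotientGroup.mk (u i)
  have hf : Function.Injective f := by
    intro i j h
    have h1 : (u i)⁻¹ * u j ∈ C := QuotientGroup.eq.1 h
    have h2 := Subgroup.mem_centralizer_iff.1 h1 t rfl
    apply hu
    have h3 : u i * ((u i)⁻¹ * u j) * t * ((u i)⁻¹ * u j)⁻¹ * (u i)⁻¹ = u i * t * (u i)⁻¹ := by
      rw [mul_assoc (u i), ← h2]
      group
    rw [← h3]
    group
  have h1 : m ≤ Nat.card (J ⧸ C) := by
    have := Nat.card_le_card_of_injective f hf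
    rwa [Nat.card_fin] at this
  have h2 : Nat.card C * C.index = Nat.card J := Subgroup.card_mul_index C
  have h3 : C.index = Nat.card (J ⧸ C) := rfl
  rw [← h3] at h1
  rw [hc] at h2
  by_contra h4
  push Not at h4
  have h5 : m * c < C.index * Nat.card C := by
    calc m * c ≤ C.index * c := Nat.mul_le_mul_right _ h1
      _ < C.index * Nat.card C := Nat.mul_lt_mul_of_pos_left h4 (by omega)
  rw [mul_comm C.index] at h5
  omega

theorem fac2 (a b : ℕ) (hb : b % 2 = 1) : (2 ^ a * b).factorization 2 = a := by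
  have hb0 : b ≠ 0 := by omega
  rw [Nat.factorization_mul (by positivity) hb0, Nat.Prime.factorization_pow Nat.prime_two]
  have h : ¬ 2 ∣ b := by omega
  simp [Nat.factorization_eq_zero_of_not_dvd h]

theorem card_Q₀ : Nat.card Q₀ = 32 := by
  rw [Rank.CG.card_eq]
  norm_num

theorem card_A₅ : Nat.card A₅ = 60 := by
  rw [Nat.card_eq_fintype_card]
  decide +kernel

variable {J : Type*} [Group J] [Finite J]

/-- Elementary abelian subgroups of the extraspecial group of order `32` of minus type have order at most four. -/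
theorem card_le_four_of_elem {X : Type*} [Group X] [Finite X] (e : Q₀ ≃* X) (E : Subgroup X)
    (hE : IsElementaryAbelian 2 E) : Nat.card E ≤ 2 ^ 2 := by
  let E' : Subgroup Q₀ := E.map e.symm.toMonoidHom
  have hE' : IsElementaryAbelian 2 E' := by
    refine ⟨⟨⟨?_⟩⟩, ?_⟩
    · rintro ⟨a, x, hx, rfl⟩ ⟨b, y, hy, rfl⟩
      apply Subtype.ext
      show e.symm x * e.symm y = e.symm y * e.symm x
      rw [← map_mul, ← map_mul]
      have := hE.1.1.comm ⟨x, hx⟩ ⟨y, hy⟩
      have h2 : x * y = y * x := congrArg Subtype.val this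
      rw [h2]
    · rintro _ ⟨x, hx, rfl⟩
      show (e.symm x) ^ 2 = 1
      rw [← map_pow, hE.2 x hx, map_one]
  have hc : Nat.card E' = Nat.card E := Nat.card_congr (Subgroup.equivMapOfInjective E e.symm.toMonoidHom
    e.symm.injective).toEquiv.symm
  have h1 : Nat.card E' ∣ 2 ^ 5 := by
    have := Subgroup.card_subgroup_dvd_card E'
    rwa [card_Q₀] at this
  obtain ⟨k, hk, hk2⟩ := (Nat.dvd_prime_pow Nat.prime_two).1 h1
  have h2 : k ≤ 2 + 1 := Rank.rank_le (n := 2) (Rank.CG.isExtraspecial (by norm_num)) Rank.CG.card_eq hE' hk2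
  have h3 : k ≠ 3 := by
    rintro rfl
    exact Rank.no_large (n := 2) (by norm_num) 0 hE' hk2
  rw [← hc, hk2]
  exact Nat.pow_le_pow_right (by norm_num) (by omega)

/-- The structure of the centraliser and of the involutions. -/
theorem abstract_main (hJ : Nat.card J = 50232960) (fQ : Q₀ →* J) (fA : A₅ →* J)
    (hfQ : Function.Injective fQ) (hfA : Function.Injective fA)
    (hQc : ∀ x, fQ x * fQ Rank.CG.z = fQ Rank.CG.z * fQ x) (hAc : ∀ g, fA g * fQ Rank.CG.z = fQ Rank.CG.z * fA g)
    (hnorm : ∀ g x, ∃ x', fA g * fQ x = fQ x' * fA g)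
    (hC : Nat.card (centralizer ({fQ Rank.CG.z} : Set J)) ≤ 1920)
    (hconj : ∀ x g, g * g = 1 → (fQ x * fA g) * (fQ x * fA g) = 1 → fQ x * fA g ≠ 1 →
      IsConj (fQ x * fA g) (fQ Rank.CG.z)) :
    (∀ x y : J, orderOf x = 2 → orderOf y = 2 → IsConj x y) ∧
    ∃ t : J, orderOf t = 2 ∧ ∃ (Q : Subgroup ↥(centralizer ({t} : Set J))) (_ : Q.Normal),
      IsExtraspecial 2 Q ∧ Nat.card Q = 32 ∧ (∀ E : Subgroup Q, IsElementaryAbelian 2 E → Nat.card E ≤ 2 ^ 2) ∧
      (∃ H : Subgroup ↥(centralizer ({t} : Set J)), Q.IsComplement' H) ∧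
      Nonempty (↥(centralizer ({t} : Set J)) ⧸ Q ≃* ↥(alternatingGroup (Fin 5))) := by
  classical
  set t : J := fQ Rank.CG.z with ht
  let C := centralizer ({t} : Set J)
  have hmemC : ∀ a : J, a * t = t * a → a ∈ C := by
    intro a ha
    refine Subgroup.mem_centralizer_iff.2 ?_
    rintro _ rfl
    exact ha.symm
  let gQ : Q₀ →* ↥C := fQ.codRestrict C (fun x => hmemC _ (hQc x))
  let gA : A₅ →* ↥C := fA.codRestrict C (fun x => hmemC _ (hAc x))
  have hgQ : Function.Injective gQ := by
    intro a b h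
    exact hfQ (congrArg Subtype.val h)
  have hgA : Function.Injective gA := by
    intro a b h
    exact hfA (congrArg Subtype.val h)
  let Q : Subgroup ↥C := gQ.range
  let H : Subgroup ↥C := gA.range
  let eQ : Q₀ ≃* ↥Q := MonoidHom.ofInjective hgQ
  let eA : A₅ ≃* ↥H := MonoidHom.ofInjective hgA
  have hcQ : Nat.card Q = 32 := by
    rw [← card_Q₀]
    exact (Nat.card_congr eQ.toEquiv).symm
  have hcA : Nat.card H = 60 := by
    rw [← card_A₅]
    exact (Nat.card_congr eA.toEquiv).symm
  -- `H` normalises `Q`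
  have hnormC : ∀ g x, ∃ x', gA g * gQ x = gQ x' * gA g := by
    intro g x
    obtain ⟨x', hx'⟩ := hnorm g x
    exact ⟨x', Subtype.ext hx'⟩
  -- disjointness
  have hdisj : Disjoint Q H := by
    let K : Subgroup A₅ := Q.comap gA
    have hKn : K.Normal := ⟨by
      rintro k ⟨x, hx⟩ a
      obtain ⟨x', hx'⟩ := hnormC a x
      refine ⟨x', ?_⟩
      show gQ x' = gA (a * k * a⁻¹)
      rw [map_mul, map_mul, map_inv, ← hx, hx', mul_inv_cancel_right]⟩
    have hs : IsSimpleGroup A₅ := alternatingGroup.isSimpleGroup_five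
    rcases hKn.eq_bot_or_eq_top with h | h
    · rw [Subgroup.disjoint_def]
      rintro c hc ⟨a, rfl⟩
      have h2 : a ∈ K := hc
      rw [h] at h2
      rw [(Subgroup.mem_bot.1 h2), map_one]
    · exfalso
      have hle : H ≤ Q := by
        rintro _ ⟨a, rfl⟩
        have h2 : a ∈ K := by
          rw [h]
          exact mem_top a
        exact h2
      have h3 : Nat.card H ∣ Nat.card Q := by
        have := Subgroup.card_dvd_of_le hle
        exact this
      rw [hcQ, hcA] at h3
      norm_num at h3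
  -- the order of the centraliser
  have hcC : Nat.card C = 1920 := by
    apply le_antisymm hC
    let φ : ↥Q × ↥H → ↥C := fun p => p.1.1 * p.2.1
    have hφ : Function.Injective φ := by
      rintro ⟨⟨a, ha⟩, ⟨b, hb⟩⟩ ⟨⟨a', ha'⟩, ⟨b', hb'⟩⟩ h
      have h1 : a * b = a' * b' := h
      have h2 : a'⁻¹ * a = b' * b⁻¹ := by
        calc a'⁻¹ * a = a'⁻¹ * (a * b) * b⁻¹ := by group
          _ = a'⁻¹ * (a' * b') * b⁻¹ := by rw [h1]
          _ = b' * b⁻¹ := by group
      have h3 : a'⁻¹ * a = 1 := Subgroup.disjoint_def.1 hdisj (Q.mul_mem (Q.inv_mem ha') ha)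
        (by rw [h2]; exact H.mul_mem hb' (H.inv_mem hb))
      have h4 : a = a' := by
        rw [inv_mul_eq_iff_eq_mul, mul_one] at h3
        exact h3
      have h5 : b = b' := by
        rw [h3] at h2
        have := mul_inv_eq_one.1 h2.symm
        exact this.symm
      subst h4
      subst h5
      rfl
    have := Nat.card_le_card_of_injective φ hφ
    rw [Nat.card_prod, hcQ, hcA] at this
    exact this
  have hcompl : Q.IsComplement' H :=
    isComplement'_of_card_mul_and_disjoint (by rw [hcQ, hcA, hcC]) hdisj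
  have hQn : Q.Normal := ⟨by
    rintro x ⟨y, rfl⟩ c
    obtain ⟨⟨⟨q, hq⟩, ⟨_, ⟨g, rfl⟩⟩⟩, hc⟩ := hcompl.2 c
    have hc' : q * gA g = c := hc
    obtain ⟨y', hy'⟩ := hnormC g y
    have h1 : c * gQ y * c⁻¹ = q * gQ y' * q⁻¹ := by
      rw [← hc', mul_assoc q, hy']
      group
    rw [h1]
    exact Q.mul_mem (Q.mul_mem hq ⟨y', rfl⟩) (Q.inv_mem hq)⟩
  have htord : orderOf t = 2 := by
    rw [ht, orderOf_injective fQ hfQ]
    exact Rank.CG.z_order
  have hall : ∀ x : J, orderOf x = 2 → IsConj x t := by
    intro x hx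
    haveI : Fact (Nat.Prime 2) := ⟨Nat.prime_two⟩
    obtain ⟨R⟩ : Nonempty (Sylow 2 ↥C) := inferInstance
    have hR : Nat.card R = 2 ^ 7 := by
      rw [Sylow.card_eq_multiplicity, hcC]
      congr 1
      have e : 1920 = 2 ^ 7 * 15 := by norm_num
      rw [e]
      exact fac2 7 15 rfl
    let R' : Subgroup J := (R : Subgroup ↥C).map C.subtype
    have hR' : Nat.card R' = 2 ^ (Nat.card J).factorization 2 := by
      have h1 : Nat.card R' = Nat.card R := Nat.card_congr
        (Subgroup.equivMapOfInjective (R : Subgroup ↥C) C.subtype C.subtype_injective).toEquiv.symm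
      rw [h1, hR, hJ]
      congr 1
      have e : 50232960 = 2 ^ 7 * 392445 := by norm_num
      rw [e]
      exact (fac2 7 392445 rfl).symm
    let S : Sylow 2 J := Sylow.ofCard R' hR'
    have hzp : IsPGroup 2 (zpowers x) := IsPGroup.of_card (n := 1) (by rw [Nat.card_zpowers, hx]; norm_num)
    obtain ⟨P, hP⟩ := hzp.exists_le_sylow
    obtain ⟨g, hg⟩ := MulAction.exists_smul_eq J P S
    have hxP : x ∈ (P : Subgroup J) := hP (mem_zpowers x)
    have hy : g * x * g⁻¹ ∈ R' := by
      have h1 : MulAut.conj g • x ∈ MulAut.conj g • (P : Subgroup J) :=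
        Subgroup.smul_mem_pointwise_smul x (MulAut.conj g) _ hxP
      have h2 : MulAut.conj g • (P : Subgroup J) = R' := by
        rw [← Sylow.coe_subgroup_smul, hg]
        rfl
      rw [h2] at h1
      exact h1
    obtain ⟨c, _, hc⟩ := hy
    obtain ⟨⟨⟨_, ⟨a, rfl⟩⟩, ⟨_, ⟨b, rfl⟩⟩⟩, hcab⟩ := hcompl.2 c
    have hcab' : gQ a * gA b = c := hcab
    have hyv : g * x * g⁻¹ = fQ a * fA b := by
      rw [← hc, ← hcab']
      rfl
    have hxx : x * x = 1 := by
      have := pow_orderOf_eq_one x
      rwa [hx, pow_two] at this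
    have hx1 : x ≠ 1 := by
      rintro rfl
      rw [orderOf_one] at hx
      norm_num at hx
    have hyy : (fQ a * fA b) * (fQ a * fA b) = 1 := by
      rw [← hyv]
      calc g * x * g⁻¹ * (g * x * g⁻¹) = g * (x * x) * g⁻¹ := by group
        _ = 1 := by rw [hxx]; group
    have hy1 : fQ a * fA b ≠ 1 := by
      rw [← hyv]
      intro h
      apply hx1
      have : x = g⁻¹ * (g * x * g⁻¹) * g := by group
      rw [this, h]
      group
    have hbb : b * b = 1 := by
      obtain ⟨a', ha'⟩ := hnorm b a
      have h0 : fQ a * fQ a' * (fA b * fA b) = 1 := by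
        calc fQ a * fQ a' * (fA b * fA b) = fQ a * (fQ a' * fA b) * fA b := by group
          _ = fQ a * (fA b * fQ a) * fA b := by rw [ha']
          _ = (fQ a * fA b) * (fQ a * fA b) := by group
          _ = 1 := hyy
      have h1 : gA (b * b) = gQ (a * a')⁻¹ := Subtype.ext (by
        show fA (b * b) = fQ (a * a')⁻¹
        rw [map_mul, map_inv, map_mul]
        exact eq_inv_of_mul_eq_one_right h0)
      have h2 : gA (b * b) = 1 := Subgroup.disjoint_def.1 hdisj (by rw [h1]; exact ⟨_, rfl⟩) ⟨_, rfl⟩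
      exact hgA (by rw [h2, map_one])
    exact (isConj_iff.2 ⟨g, rfl⟩).trans (by rw [hyv]; exact hconj a b hbb hyy hy1)
  refine ⟨fun x y hx hy => (hall x hx).trans (hall y hy).symm, t, htord, Q, hQn,
    Cfsg.Agent.Lib.LargeES.isExtraspecial_congr eQ (Rank.CG.isExtraspecial (by norm_num)), hcQ,
    fun E hE => card_le_four_of_elem eQ E hE, ⟨H, hcompl⟩, ⟨?_⟩⟩
  haveI := hQn
  exact hcompl.symm.QuotientMulEquiv.trans eA.symm

end Cfsg.Agent.Lib.KnownSimple.J3Inv
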