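import Cfsg.Agent.Lib.KnownSimple.J3.Defs
import Cfsg.Agent.Lib.KnownSimple.J3.InvData

/-!
# The Janko group: words for an involution centraliser, and the conjugates of the involution
-/

set_option autoImplicit false

namespace Cfsg.Agent.Lib.KnownSimple.J3

open Cfsg Cfsg.Spor Cfsg.Agent.Lib.Compute Cfsg.Agent.Lib.KnownSimple.PE Cfsg.Agent.Lib.KnownSimple.Leech
open Cfsg.Agent.Lib.KnownSimple Cfsg.Agent.Lib.KnownSimple.AutRigid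
open Cfsg.Agent.Lib.KnownSimple.J3Data

/-- A table of a generator, the identity for numbers which are not those of generators. -/
noncomputable def Tc (k i : ℕ) : ℕ := bcond (Nat.blt k 43) (T k i) i

/-- The code of a word. -/
noncomputable def wE (l : List ℕ) (i : ℕ) : ℕ := List.rec i (fun k _ ih => force ih (Tc k)) l

/-- The inverses of the generators. -/
def invKL : List ℕ := [0, 2, 1, 6, 8, 7, 3, 5, 4, 0, 0, 0, 0, 0, 0, 0, 0, 0, 0, 20, 19, 24, 26, 25, 21, 23, 22, 28, 27, 0, 33, 34, 32, 30, 31, 35, 36, 37, 38, 39, 40, 41, 42]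
/-- The inverse of a generator. -/
noncomputable def invK (k : ℕ) : ℕ := lgetD 0 invKL k
/-- The mask of the generators with inverses. -/
def okMask : ℕ := 8761866977790
/-- Is this a generator with an inverse? -/
noncomputable def okK (k : ℕ) : Bool := Nat.beq (Nat.land (Nat.shiftRight okMask k) 1) 1

/-- The code of the inverse of a word. -/
noncomputable def wI (l : List ℕ) : ℕ → ℕ := List.rec (fun i => i) (fun k _ ih i => force (Tc (invK k) i) ih) l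

/-- The code of a conjugate of the involution. -/
noncomputable def evC (l : List ℕ) (p : ℕ) : ℕ := wE l (force (wI l p) (Tc 32))

/-- The key of a conjugate of the involution. -/
noncomputable def keyC (l : List ℕ) : ℕ :=
  Nat.add (Nat.mul (Nat.add (Nat.mul (evC l 7764) 23256) (evC l 12345)) 23256) (evC l 20011)

/-- The entries of the table of conjugates of the involution. -/
noncomputable def clE (i : ℕ) : ℕ := pgetB 93 9903520314283042199192993791 10 1023 clB i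
/-- The key of an entry. -/
noncomputable def clK (i : ℕ) : ℕ := Nat.land (clE i) 35184372088831
/-- Decoding a word. -/
noncomputable def decW (W : ℕ) : List ℕ :=
  Nat.rec (fun _ => []) (fun _ ih W => bcond (Nat.beq (Nat.land W 63) 0) [] (Nat.land W 63 :: ih (Nat.shiftRight W 6))) 8 W
/-- The word of an entry. -/
noncomputable def clW (i : ℕ) : List ℕ := decW (Nat.shiftRight (clE i) 45)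

/-- A test on all the letters of a word. -/
noncomputable def allOk (l : List ℕ) : Bool := allL okK l

/-- The check of an entry. -/
noncomputable def clsChk (i : ℕ) : Bool :=
  bcond (allOk (clW i))
    (bcond (Nat.beq (keyC (clW i)) (clK i))
      (bcond (Nat.beq i 26162) true (Nat.blt (clK i) (clK (Nat.succ i)))) false) false

/-- Equality of words on the base. -/
noncomputable def wEqT (l₁ l₂ : List ℕ) : Bool := allL (fun b => Nat.beq (wE l₁ b) (wE l₂ b)) [0, 1, 7764, 2, 3, 31, 113, 330, 1492, 5840]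

/-- Substitution in a word. -/
noncomputable def flatW (aw : ℕ → List ℕ) (l : List ℕ) : List ℕ := List.rec [] (fun k _ ih => aw k ++ ih) l

/-- The words of the generators of the extraspecial group. -/
def aWL : List (List ℕ) := [[27], [2, 24, 36, 20, 35, 21, 1, 27, 2, 24, 36, 20, 35, 21, 1], [9, 9, 2, 24, 36, 20, 35, 21, 1, 37, 2, 24, 36, 20, 35, 21, 1, 9], [9, 2, 24, 36, 20, 35, 21, 1, 37, 2, 24, 36, 20, 35, 21, 1, 9, 9], [32]]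
/-- The words of the generators of the alternating group. -/
def hWL : List (List ℕ) := [[2, 24, 36, 20, 35, 21, 1, 31, 9], [38, 2, 24, 36, 20, 35, 21, 1, 27]]
/-- The words in the generators of the elements of the extraspecial group. -/
def qLetL : List (List ℕ) := [[], [0], [1], [0, 1], [2], [0, 2], [1, 2], [0, 1, 2], [3], [0, 3], [1, 3], [0, 1, 3], [2, 3], [0, 2, 3], [1, 2, 3], [0, 1, 2, 3], [4], [0, 4], [1, 4], [0, 1, 4], [2, 4], [0, 2, 4], [1, 2, 4], [0, 1, 2, 4], [3, 4], [0, 3, 4], [1, 3, 4], [0, 1, 3, 4], [2, 3, 4], [0, 2, 3, 4], [1, 2, 3, 4], [0, 1, 2, 3, 4]]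
/-- The words in the generators of the elements of the alternating group. -/
def hLetL : List (List ℕ) := [[], [0], [1], [0, 0], [1, 0], [0, 1], [1, 1], [0, 0, 0], [1, 0, 0], [0, 1, 0], [1, 1, 0], [0, 0, 1], [1, 0, 1], [0, 1, 1], [0, 0, 0, 0], [1, 0, 0, 0], [0, 1, 0, 0], [1, 1, 0, 0], [0, 0, 1, 0], [1, 0, 1, 0], [0, 1, 1, 0], [1, 0, 0, 1], [0, 1, 0, 1], [1, 1, 0, 1], [1, 0, 1, 1], [1, 0, 0, 0, 0], [0, 1, 0, 0, 0], [1, 1, 0, 0, 0], [1, 0, 1, 0, 0], [0, 1, 1, 0, 0], [1, 0, 0, 1, 0], [1, 1, 0, 1, 0], [1, 0, 1, 1, 0], [0, 1, 0, 0, 1], [0, 0, 1, 0, 1], [0, 1, 1, 0, 1], [0, 1, 0, 1, 1], [1, 1, 0, 1, 1], [0, 1, 0, 0, 0, 0], [0, 1, 1, 0, 0, 0], [1, 1, 0, 1, 0, 0], [1, 0, 1, 1, 0, 0], [0, 1, 0, 0, 1, 0], [0, 1, 1, 0, 1, 0], [0, 1, 0, 1, 1, 0], [1, 1, 0, 1, 1, 0], [1, 0,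 1, 0, 0, 1], [1, 0, 0, 1, 0, 1], [1, 0, 1, 1, 0, 1], [0, 0, 1, 0, 1, 1], [0, 1, 1, 0, 1, 1], [1, 0, 1, 1, 0, 0, 0], [0, 1, 1, 0, 1, 0, 0], [0, 1, 0, 1, 1, 0, 0], [0, 0, 1, 0, 1, 1, 0], [1, 1, 0, 1, 0, 0, 1], [1, 1, 0, 1, 1, 0, 1], [1, 0, 0, 1, 0, 1, 1], [1, 0, 1, 1, 0, 1, 1], [1, 0, 0, 1, 0, 1, 1, 0]]
/-- Left multiplication on the extraspecial group. -/
def qrL : List (List ℕ) := [[1, 16, 3, 18, 5, 20, 7, 22, 9, 24, 11, 26, 13, 28, 15, 30, 17, 0, 19, 2, 21, 4, 23, 6, 25, 8, 27, 10, 29, 12, 31, 14], [2, 19, 16, 1, 6, 23, 20, 5, 10, 27, 24, 9, 14, 31, 28, 13, 18, 3, 0, 17, 22, 7, 4, 21, 26, 11, 8, 25, 30, 15, 12, 29], [4, 5, 6, 7, 0, 1, 2, 3, 12, 13, 14, 15, 8, 9, 10, 11, 20, 21, 22, 23, 16, 17, 18, 19, 28, 29, 30, 31, 24, 25, 26, 27], [8, 9, 10, 11, 28, 29, 30,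 31, 0, 1, 2, 3, 20, 21, 22, 23, 24, 25, 26, 27, 12, 13, 14, 15, 16, 17, 18, 19, 4, 5, 6, 7], [16, 17, 18, 19, 20, 21, 22, 23, 24, 25, 26, 27, 28, 29, 30, 31, 0, 1, 2, 3, 4, 5, 6, 7, 8, 9, 10, 11, 12, 13, 14, 15]]
/-- Left multiplication on the alternating group. -/
def hrL : List (List ℕ) := [[1, 3, 5, 7, 9, 11, 13, 14, 16, 18, 20, 17, 22, 15, 0, 26, 12, 29, 27, 6, 25, 33, 34, 35, 36, 38, 19, 39, 10, 2, 42, 43, 44, 24, 8, 41, 49, 50, 28, 4, 52, 53, 32, 51, 54, 48, 23, 45, 40, 21, 31, 37, 47, 46, 30, 59, 58, 56, 55, 57], [2, 4, 6, 8, 10, 12, 0, 15, 17, 19, 1, 21, 23, 24, 25, 27, 28, 3, 30, 31, 32, 26, 14, 5, 37, 22, 11, 7, 40, 41, 38, 9, 45, 46, 47, 48, 29, 13, 18, 51, 16, 36, 50, 49, 39, 20, 55, 53, 56, 57, 58, 44, 54, 34, 59, 33, 35, 43, 42, 52]]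
/-- Conjugation of the generators. -/
def nrmL : List (List ℕ) := [[2, 21, 30, 20, 16], [3, 1, 4, 8, 16]]
/-- The elements of the alternating group with square one. -/
def invJL : List ℕ := [0, 15, 16, 17, 18, 20, 21, 51, 52, 53, 54, 55, 56, 57, 58, 59]
/-- The certificates for the involutions. -/
def cjL : List (List ℕ) := [[0, 0, 0, 0, 0, 0, 0, 0, 0, 0, 0, 0, 0, 0, 0, 24401, 11193, 24902, 22221, 0, 5999, 14286, 0, 0, 0, 0, 0, 0, 0, 0, 0, 0, 0, 0, 0, 0, 0, 0, 0, 0, 0, 0, 0, 0, 0, 0, 0, 0, 0, 0, 0, 15207, 6, 8596, 827, 17721, 19049, 22219, 17709, 23119], [1, 0, 0, 0, 0, 0, 0, 0, 0, 0, 0, 0, 0, 0, 0, 1, 1, 1, 1, 0, 1, 1, 0, 0, 0, 0, 0, 0, 0, 0, 0, 0, 0, 0, 0, 0, 0, 0, 0, 0, 0, 0, 0, 0, 0, 0, 0, 0, 0, 0, 0, 1, 7, 8551, 1, 17718, 1, 1, 1, 1], [1, 0, 0, 0, 0, 0, 0,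 0, 0, 0, 0, 0, 0, 0, 0, 1, 1, 1, 1, 0, 1, 1, 0, 0, 0, 0, 0, 0, 0, 0, 0, 0, 0, 0, 0, 0, 0, 0, 0, 0, 0, 0, 0, 0, 0, 0, 0, 0, 0, 0, 0, 16007, 1, 1, 1254, 1, 1, 21773, 1, 1], [1, 0, 0, 0, 0, 0, 0, 0, 0, 0, 0, 0, 0, 0, 0, 1, 16006, 1, 12515, 0, 1, 1, 0, 0, 0, 0, 0, 0, 0, 0, 0, 0, 0, 0, 0, 0, 0, 0, 0, 0, 0, 0, 0, 0, 0, 0, 0, 0, 0, 0, 0, 1, 1, 1, 1, 1, 1, 1, 1, 18206], [25722, 0, 0, 0, 0, 0, 0, 0, 0, 0, 0, 0, 0, 0, 0, 1, 1, 1, 12103, 0, 1, 1, 0, 0, 0, 0, 0, 0, 0, 0, 0, 0, 0, 0, 0, 0, 0, 0, 0, 0, 0, 0, 0, 0, 0, 0, 0, 0, 0, 0, 0, 1, 1, 25726, 1, 1, 1, 12104, 1, 1], [1, 0, 0, 0, 0, 0, 0, 0, 0, 0, 0, 0, 0, 0, 0, 1, 1, 1, 1, 0, 1, 4635, 0, 0, 0, 0, 0, 0, 0, 0, 0, 0, 0, 0, 0, 0, 0, 0, 0, 0, 0, 0, 0, 0, 0, 0, 0, 0, 0, 0, 0, 1, 1, 25727, 1, 1, 1, 1, 16510, 1], [1, 0, 0, 0, 0,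 0, 0, 0, 0, 0, 0, 0, 0, 0, 0, 19494, 1, 1, 1, 0, 20445, 1, 0, 0, 0, 0, 0, 0, 0, 0, 0, 0, 0, 0, 0, 0, 0, 0, 0, 0, 0, 0, 0, 0, 0, 0, 0, 0, 0, 0, 0, 1, 1, 1, 1, 1, 1, 12517, 1, 1], [1, 0, 0, 0, 0, 0, 0, 0, 0, 0, 0, 0, 0, 0, 0, 1, 1, 25718, 21774, 0, 1, 1, 0, 0, 0, 0, 0, 0, 0, 0, 0, 0, 0, 0, 0, 0, 0, 0, 0, 0, 0, 0, 0, 0, 0, 0, 0, 0, 0, 0, 0, 1, 1, 1, 1, 1, 19491, 1, 1, 1], [17719, 0, 0, 0, 0, 0, 0, 0, 0, 0, 0, 0, 0, 0, 0, 1, 15208, 1, 1, 0, 1, 1, 0, 0, 0, 0, 0, 0, 0, 0, 0, 0, 0, 0, 0, 0, 0, 0, 0, 0, 0, 0, 0, 0, 0, 0, 0, 0, 0, 0, 0, 11192, 1, 1, 1, 8566, 1, 1, 1, 1], [1, 0, 0, 0, 0, 0, 0, 0, 0, 0, 0, 0, 0, 0, 0, 1, 1, 25719, 1, 0, 20443, 1, 0, 0, 0, 0, 0, 0, 0, 0, 0, 0, 0, 0, 0, 0, 0, 0, 0, 0, 0, 0, 0, 0, 0, 0, 0, 0, 0, 0, 0, 1, 1, 1, 1, 8545, 1, 1, 1, 1], [1, 0, 0,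 0, 0, 0, 0, 0, 0, 0, 0, 0, 0, 0, 0, 1, 1, 1, 1, 0, 1, 4633, 0, 0, 0, 0, 0, 0, 0, 0, 0, 0, 0, 0, 0, 0, 0, 0, 0, 0, 0, 0, 0, 0, 0, 0, 0, 0, 0, 0, 0, 10273, 1, 1, 1, 1, 23947, 1, 1, 1], [1, 0, 0, 0, 0, 0, 0, 0, 0, 0, 0, 0, 0, 0, 0, 23946, 10270, 1, 1, 0, 1, 1, 0, 0, 0, 0, 0, 0, 0, 0, 0, 0, 0, 0, 0, 0, 0, 0, 0, 0, 0, 0, 0, 0, 0, 0, 0, 0, 0, 0, 0, 1, 1, 1, 1, 1, 1, 1, 16511, 1], [1, 0, 0, 0, 0, 0, 0, 0, 0, 0, 0, 0, 0, 0, 0, 1, 1, 1, 1, 0, 1, 1, 0, 0, 0, 0, 0, 0, 0, 0, 0, 0, 0, 0, 0, 0, 0, 0, 0, 0, 0, 0, 0, 0, 0, 0, 0, 0, 0, 0, 0, 1, 8655, 1, 1253, 1, 1, 1, 1, 18207], [2, 0, 0, 0, 0, 0, 0, 0, 0, 0, 0, 0, 0, 0, 0, 19048, 1, 1, 1, 0, 1, 1, 0, 0, 0, 0, 0, 0, 0, 0, 0, 0, 0, 0, 0, 0, 0, 0, 0, 0, 0, 0, 0, 0, 0, 0, 0, 0, 0, 0, 0, 1, 8608, 1, 1, 1, 24400, 1, 1, 1], [8579, 0,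 0, 0, 0, 0, 0, 0, 0, 0, 0, 0, 0, 0, 0, 1, 1, 24901, 1, 0, 1, 1, 0, 0, 0, 0, 0, 0, 0, 0, 0, 0, 0, 0, 0, 0, 0, 0, 0, 0, 0, 0, 0, 0, 0, 0, 0, 0, 0, 0, 0, 1, 1, 1, 830, 1, 1, 1, 17710, 1], [8569, 0, 0, 0, 0, 0, 0, 0, 0, 0, 0, 0, 0, 0, 0, 1, 1, 1, 1, 0, 6000, 14287, 0, 0, 0, 0, 0, 0, 0, 0, 0, 0, 0, 0, 0, 0, 0, 0, 0, 0, 0, 0, 0, 0, 0, 0, 0, 0, 0, 0, 0, 1, 1, 1, 1, 1, 1, 1, 1, 23116], [8588, 0, 0, 0, 0, 0, 0, 0, 0, 0, 0, 0, 0, 0, 0, 24402, 11190, 24900, 22222, 0, 6001, 14288, 0, 0, 0, 0, 0, 0, 0, 0, 0, 0, 0, 0, 0, 0, 0, 0, 0, 0, 0, 0, 0, 0, 0, 0, 0, 0, 0, 0, 0, 15209, 5, 8615, 828, 17717, 19046, 22220, 17708, 23118], [1, 0, 0, 0, 0, 0, 0, 0, 0, 0, 0, 0, 0, 0, 0, 1, 1, 1, 1, 0, 1, 1, 0, 0, 0, 0, 0, 0, 0, 0, 0, 0, 0, 0, 0, 0, 0, 0, 0, 0, 0, 0, 0, 0, 0, 0, 0, 0, 0, 0, 0,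 1, 4, 8625, 1, 17722, 1, 1, 1, 1], [1, 0, 0, 0, 0, 0, 0, 0, 0, 0, 0, 0, 0, 0, 0, 1, 1, 1, 1, 0, 1, 1, 0, 0, 0, 0, 0, 0, 0, 0, 0, 0, 0, 0, 0, 0, 0, 0, 0, 0, 0, 0, 0, 0, 0, 0, 0, 0, 0, 0, 0, 16009, 1, 1, 1256, 1, 1, 21775, 1, 1], [1, 0, 0, 0, 0, 0, 0, 0, 0, 0, 0, 0, 0, 0, 0, 1, 16008, 1, 12516, 0, 1, 1, 0, 0, 0, 0, 0, 0, 0, 0, 0, 0, 0, 0, 0, 0, 0, 0, 0, 0, 0, 0, 0, 0, 0, 0, 0, 0, 0, 0, 0, 1, 1, 1, 1, 1, 1, 1, 1, 18208], [25725, 0, 0, 0, 0, 0, 0, 0, 0, 0, 0, 0, 0, 0, 0, 1, 1, 1, 12105, 0, 1, 1, 0, 0, 0, 0, 0, 0, 0, 0, 0, 0, 0, 0, 0, 0, 0, 0, 0, 0, 0, 0, 0, 0, 0, 0, 0, 0, 0, 0, 0, 1, 1, 25724, 1, 1, 1, 12102, 1, 1], [1, 0, 0, 0, 0, 0, 0, 0, 0, 0, 0, 0, 0, 0, 0, 1, 1, 1, 1, 0, 1, 4634, 0, 0, 0, 0, 0, 0, 0, 0, 0, 0, 0, 0, 0, 0, 0, 0, 0, 0, 0, 0, 0, 0, 0, 0, 0, 0, 0, 0,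 0, 1, 1, 25723, 1, 1, 1, 1, 16512, 1], [1, 0, 0, 0, 0, 0, 0, 0, 0, 0, 0, 0, 0, 0, 0, 19493, 1, 1, 1, 0, 20446, 1, 0, 0, 0, 0, 0, 0, 0, 0, 0, 0, 0, 0, 0, 0, 0, 0, 0, 0, 0, 0, 0, 0, 0, 0, 0, 0, 0, 0, 0, 1, 1, 1, 1, 1, 1, 12514, 1, 1], [1, 0, 0, 0, 0, 0, 0, 0, 0, 0, 0, 0, 0, 0, 0, 1, 1, 25720, 21776, 0, 1, 1, 0, 0, 0, 0, 0, 0, 0, 0, 0, 0, 0, 0, 0, 0, 0, 0, 0, 0, 0, 0, 0, 0, 0, 0, 0, 0, 0, 0, 0, 1, 1, 1, 1, 1, 19492, 1, 1, 1], [17720, 0, 0, 0, 0, 0, 0, 0, 0, 0, 0, 0, 0, 0, 0, 1, 15206, 1, 1, 0, 1, 1, 0, 0, 0, 0, 0, 0, 0, 0, 0, 0, 0, 0, 0, 0, 0, 0, 0, 0, 0, 0, 0, 0, 0, 0, 0, 0, 0, 0, 0, 11191, 1, 1, 1, 8598, 1, 1, 1, 1], [1, 0, 0, 0, 0, 0, 0, 0, 0, 0, 0, 0, 0, 0, 0, 1, 1, 25721, 1, 0, 20444, 1, 0, 0, 0, 0, 0, 0, 0, 0, 0, 0, 0, 0, 0, 0, 0, 0, 0, 0, 0, 0, 0, 0, 0, 0, 0,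 0, 0, 0, 0, 1, 1, 1, 1, 8537, 1, 1, 1, 1], [1, 0, 0, 0, 0, 0, 0, 0, 0, 0, 0, 0, 0, 0, 0, 1, 1, 1, 1, 0, 1, 4632, 0, 0, 0, 0, 0, 0, 0, 0, 0, 0, 0, 0, 0, 0, 0, 0, 0, 0, 0, 0, 0, 0, 0, 0, 0, 0, 0, 0, 0, 10272, 1, 1, 1, 1, 23945, 1, 1, 1], [1, 0, 0, 0, 0, 0, 0, 0, 0, 0, 0, 0, 0, 0, 0, 23944, 10271, 1, 1, 0, 1, 1, 0, 0, 0, 0, 0, 0, 0, 0, 0, 0, 0, 0, 0, 0, 0, 0, 0, 0, 0, 0, 0, 0, 0, 0, 0, 0, 0, 0, 0, 1, 1, 1, 1, 1, 1, 1, 16509, 1], [1, 0, 0, 0, 0, 0, 0, 0, 0, 0, 0, 0, 0, 0, 0, 1, 1, 1, 1, 0, 1, 1, 0, 0, 0, 0, 0, 0, 0, 0, 0, 0, 0, 0, 0, 0, 0, 0, 0, 0, 0, 0, 0, 0, 0, 0, 0, 0, 0, 0, 0, 1, 8618, 1, 1255, 1, 1, 1, 1, 18205], [3, 0, 0, 0, 0, 0, 0, 0, 0, 0, 0, 0, 0, 0, 0, 19047, 1, 1, 1, 0, 1, 1, 0, 0, 0, 0, 0, 0, 0, 0, 0, 0, 0, 0, 0, 0, 0, 0, 0, 0, 0, 0, 0, 0, 0, 0, 0, 0, 0,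 0, 0, 1, 8576, 1, 1, 1, 24403, 1, 1, 1], [8558, 0, 0, 0, 0, 0, 0, 0, 0, 0, 0, 0, 0, 0, 0, 1, 1, 24903, 1, 0, 1, 1, 0, 0, 0, 0, 0, 0, 0, 0, 0, 0, 0, 0, 0, 0, 0, 0, 0, 0, 0, 0, 0, 0, 0, 0, 0, 0, 0, 0, 0, 1, 1, 1, 829, 1, 1, 1, 17707, 1], [8648, 0, 0, 0, 0, 0, 0, 0, 0, 0, 0, 0, 0, 0, 0, 1, 1, 1, 1, 0, 6002, 14289, 0, 0, 0, 0, 0, 0, 0, 0, 0, 0, 0, 0, 0, 0, 0, 0, 0, 0, 0, 0, 0, 0, 0, 0, 0, 0, 0, 0, 0, 1, 1, 1, 1, 1, 1, 1, 1, 23117]]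

/-- The word of a generator of the extraspecial group. -/
noncomputable def aw (k : ℕ) : List ℕ := lgetD [] aWL k
/-- The word of a generator of the alternating group. -/
noncomputable def hw (k : ℕ) : List ℕ := lgetD [] hWL k
/-- The word of an element of the extraspecial group. -/
noncomputable def qW (i : ℕ) : List ℕ := flatW aw (lgetD [] qLetL i)
/-- The word of an element of the alternating group. -/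
noncomputable def hW (i : ℕ) : List ℕ := flatW hw (lgetD [] hLetL i)

/-- The check of the certificate of an involution. -/
noncomputable def cjChk (i j c : ℕ) : Bool :=
  bcond (Nat.beq c 0) (wEqT (qW i ++ hW j) [])
    (bcond (Nat.beq c 1) (bcond (wEqT ((qW i ++ hW j) ++ (qW i ++ hW j)) []) false true)
      (wEqT ((qW i ++ hW j) ++ clW (Nat.sub c 2)) (clW (Nat.sub c 2) ++ [32])))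

end Cfsg.Agent.Lib.KnownSimple.J3
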