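import Cfsg.Agent.Lib.KnownSimple.J3.Inst
import Cfsg.Agent.Lib.KnownSimple.J3.InvChk0
import Cfsg.Agent.Lib.KnownSimple.J3.InvChk1
import Cfsg.Agent.Lib.KnownSimple.J3.InvChk2
import Cfsg.Agent.Lib.KnownSimple.J3.InvAbs

/-!
# The Janko group: an involution, its conjugates and a subgroup of its centraliser
-/

set_option autoImplicit false

namespace Cfsg.Agent.Lib.KnownSimple.J3

open Cfsg Cfsg.Spor Cfsg.Agent.Lib.Compute Cfsg.Agent.Lib.KnownSimple.PE Cfsg.Agent.Lib.KnownSimple.Leech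
open Cfsg.Agent.Lib.KnownSimple Cfsg.Agent.Lib.KnownSimple.AutRigid
open Cfsg.Agent.Lib.KnownSimple.J3Data
open Cfsg.Agent.Lib.KnownSimple.J3Inv (Q₀ A₅ δ₀)
open Cfsg.Agent.Lib.LargeES
open Subgroup

theorem code_mulG {a b : G} {f g : ℕ → ℕ} (h1 : E.IsCode (a : Equiv.Perm (Fin N)) f)
    (h2 : E.IsCode (b : Equiv.Perm (Fin N)) g) :
    E.IsCode ((a * b : G) : Equiv.Perm (Fin N)) (fun i => f (g i)) := isCode_mul h1 h2

/-- The generators of the group. -/
noncomputable def gG (k : ℕ) : G := if h : k < 43 then ⟨P k, P_H h⟩ else 1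

theorem gG_code (k : ℕ) : E.IsCode ((gG k : G) : Equiv.Perm (Fin N)) (Tc k) := by
  intro a
  unfold gG Tc
  by_cases h : k < 43
  · have e : Nat.blt k 43 = true := by simpa [Nat.blt_eq] using h
    rw [dif_pos h, e, bcond_true]
    exact P_code (by omega) a
  · have e : Nat.blt k 43 = false := by
      rw [Bool.eq_false_iff]
      intro h2
      exact h (by simpa [Nat.blt_eq] using h2)
    rw [dif_neg h, e, bcond_false]
    rfl

/-- The value of a word. -/
noncomputable def wG (l : List ℕ) : G := (l.map gG).prod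

@[simp] theorem wG_nil : wG [] = 1 := rfl

theorem wG_cons (k : ℕ) (l : List ℕ) : wG (k :: l) = gG k * wG l := by
  simp [wG]

theorem wG_append (l₁ l₂ : List ℕ) : wG (l₁ ++ l₂) = wG l₁ * wG l₂ := by
  simp [wG]

theorem wE_cons (k : ℕ) (l : List ℕ) (i : ℕ) : wE (k :: l) i = Tc k (wE l i) :=
  force_eq _ _

theorem wG_code (l : List ℕ) : E.IsCode ((wG l : G) : Equiv.Perm (Fin N)) (wE l) := by
  induction l with
  | nil => intro a; rfl
  | cons k l ih =>
    rw [wG_cons]
    have h := code_mulG (gG_code k) ih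
    intro a
    rw [wE_cons]
    exact h a

theorem base_lt : ∀ b ∈ baseAll, b < N := bOK.hlt

theorem wG_eq {l₁ l₂ : List ℕ} (h : wEqT l₁ l₂ = true) : wG l₁ = wG l₂ := by
  apply Subtype.ext
  refine eq_of_base based_all base_lt (H_le_A (wG l₁).2) (H_le_A (wG l₂).2) (wG_code l₁) (wG_code l₂) ?_
  intro b hb
  exact Nat.eq_of_beq_eq_true (allL_iff.1 h b hb)

theorem code_apply {σ : Equiv.Perm (Fin N)} {f : ℕ → ℕ} (h : E.IsCode σ f) {b : ℕ} (hb : b < N) :
    f b = (σ ⟨b, hb⟩).val := h ⟨b, hb⟩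

theorem wEqT_of_eq {l₁ l₂ : List ℕ} (h : wG l₁ = wG l₂) : wEqT l₁ l₂ = true := by
  refine allL_iff.2 fun b hb => ?_
  have hb' : b < N := base_lt b hb
  rw [code_apply (wG_code l₁) hb', code_apply (wG_code l₂) hb', h]
  exact Nat.beq_refl _

theorem wG_flat_nil (aw : ℕ → List ℕ) : flatW aw [] = [] := rfl

/-- A table respecting left multiplication gives a homomorphism. -/
theorem table_hom {K : Type} [Group K] [Finite K] {m g : ℕ} (γ : ℕ → K) (lets : ℕ → List ℕ) (rr : ℕ → ℕ → ℕ)
    (aw : ℕ → List ℕ) (hm : Nat.card K = m) (i₀ : ℕ) (hi₀ : i₀ < m) (hl₀ : lets i₀ = [])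
    (hinj : ∀ i, i < m → ∀ j, j < m → ((lets i).map γ).prod = ((lets j).map γ).prod → i = j)
    (hlet : ∀ i, i < m → ∀ k ∈ lets i, k < g)
    (hlt : ∀ k, k < g → ∀ i, i < m → rr k i < m)
    (hM : ∀ k, k < g → ∀ i, i < m → γ k * ((lets i).map γ).prod = ((lets (rr k i)).map γ).prod)
    (hG : ∀ k, k < g → ∀ i, i < m → wEqT (aw k ++ flatW aw (lets i)) (flatW aw (lets (rr k i))) = true)
    (hNa : ∀ i, i < m → i ≠ i₀ → wEqT (flatW aw (lets i)) [] = false) :
    ∃ f : K →* G, Function.Injective f ∧ (∀ i, i < m → f ((lets i).map γ).prod = wG (flatW aw (lets i))) ∧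
      closure (γ '' {k | k < g}) = ⊤ ∧ (∀ k, k < g → f (γ k) = wG (aw k)) ∧
      (∀ x : K, ∃ i, i < m ∧ x = ((lets i).map γ).prod) := by
  let e : Fin m → K := fun i => ((lets i).map γ).prod
  have he : Function.Injective e := fun i j h => Fin.ext (hinj i i.isLt j j.isLt h)
  have hb : Function.Bijective e := Function.Injective.bijective_of_nat_card_le he (by rw [hm, Nat.card_fin])
  have hS : closure (γ '' {k | k < g}) = ⊤ := by
    rw [eq_top_iff]
    intro x _
    obtain ⟨i, rfl⟩ := hb.2 x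
    refine Subgroup.list_prod_mem _ ?_
    intro y hy
    obtain ⟨k, hk, rfl⟩ := List.mem_map.1 hy
    exact subset_closure ⟨k, hlet i i.isLt k hk, rfl⟩
  have hone : e ⟨i₀, hi₀⟩ = 1 := by
    show ((lets i₀).map γ).prod = 1
    rw [hl₀]
    rfl
  have hn1 : wG (flatW aw (lets i₀)) = 1 := by
    rw [hl₀]
    rfl
  obtain ⟨f, hf⟩ := J3Inv.exists_hom_of_table e (fun i : Fin m => wG (flatW aw (lets i))) hm he _ hS ⟨i₀, hi₀⟩
    hone hn1 (by
      rintro _ ⟨k, hk, rfl⟩
      refine ⟨wG (aw k), fun i => ⟨⟨rr k i, hlt k hk i i.isLt⟩, hM k hk i i.isLt, ?_⟩⟩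
      rw [← wG_append]
      exact wG_eq (hG k hk i i.isLt))
  have hf' : ∀ i, i < m → f ((lets i).map γ).prod = wG (flatW aw (lets i)) := fun i hi => hf ⟨i, hi⟩
  have hsurj : ∀ x : K, ∃ i, i < m ∧ x = ((lets i).map γ).prod := by
    intro x
    obtain ⟨i, rfl⟩ := hb.2 x
    exact ⟨i, i.isLt, rfl⟩
  refine ⟨f, ?_, hf', hS, ?_, hsurj⟩
  · rw [injective_iff_map_eq_one]
    intro x hx
    obtain ⟨i, hi, rfl⟩ := hsurj x
    by_cases h0 : i = i₀
    · subst h0
      rw [hl₀]
      rfl
    · exfalso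
      rw [hf' i hi] at hx
      have h3 := wEqT_of_eq (l₁ := flatW aw (lets i)) (l₂ := []) hx
      rw [hNa i hi h0] at h3
      exact Bool.noConfusion h3
  · intro k hk
    have h1 : γ k = ((lets (rr k i₀)).map γ).prod := by
      rw [← hM k hk i₀ hi₀, hl₀]
      simp
    rw [h1, hf' _ (hlt k hk i₀ hi₀), ← wG_eq (hG k hk i₀ hi₀), hl₀, wG_append]
    simp [wG_flat_nil]

/-! ### The models -/

instance : DecidableEq Q₀ := fun x y => decidable_of_iff (x.v = y.v ∧ x.c = y.c) (by
  constructor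
  · rintro ⟨h1, h2⟩
    exact Rank.CG.ext h1 h2
  · rintro rfl
    exact ⟨rfl, rfl⟩)

/-- An element of the extraspecial group. -/
def mkQ (a b c d e : ZMod 2) : Q₀ := ⟨![(a, b), (c, d)], e⟩

/-- The generators of the extraspecial group. -/
noncomputable def γQ (k : ℕ) : Q₀ :=
  lgetD 1 [mkQ 1 0 0 0 0, mkQ 0 1 0 0 0, mkQ 0 0 1 0 0, mkQ 0 0 0 1 0, mkQ 0 0 0 0 1] k

/-- A permutation. -/
def pA0 : Equiv.Perm (Fin 5) := ⟨![1, 3, 4, 2, 0], ![4, 0, 3, 1, 2], by decide, by decide⟩
/-- A permutation. -/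
def pA1 : Equiv.Perm (Fin 5) := ⟨![4, 1, 0, 3, 2], ![2, 1, 4, 3, 0], by decide, by decide⟩

/-- The generators of the alternating group. -/
noncomputable def γA (k : ℕ) : A₅ :=
  lgetD 1 [⟨pA0, Equiv.Perm.mem_alternatingGroup.2 (by decide)⟩, ⟨pA1, Equiv.Perm.mem_alternatingGroup.2 (by decide)⟩] k

/-- The letters of an element of the extraspecial group. -/
noncomputable def qLet (i : ℕ) : List ℕ := lgetD [] qLetL i
/-- The letters of an element of the alternating group. -/
noncomputable def hLet (i : ℕ) : List ℕ := lgetD [] hLetL i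
/-- The left multiplication on the extraspecial group. -/
noncomputable def qr (k i : ℕ) : ℕ := lgetD 0 (lgetD [] qrL k) i
/-- The left multiplication on the alternating group. -/
noncomputable def hr (k i : ℕ) : ℕ := lgetD 0 (lgetD [] hrL k) i

set_option maxRecDepth 100000 in
theorem qInj : ∀ i, i < 32 → ∀ j, j < 32 → ((qLet i).map γQ).prod = ((qLet j).map γQ).prod → i = j := by
  decide +kernel
set_option maxRecDepth 100000 in
theorem hInj : ∀ i, i < 60 → ∀ j, j < 60 → ((hLet i).map γA).prod = ((hLet j).map γA).prod → i = j := by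
  decide +kernel
set_option maxRecDepth 100000 in
theorem qLt : ∀ i, i < 32 → ∀ k ∈ qLet i, k < 5 := by decide +kernel
set_option maxRecDepth 100000 in
theorem hLt : ∀ i, i < 60 → ∀ k ∈ hLet i, k < 2 := by decide +kernel
set_option maxRecDepth 100000 in
theorem qrLt : ∀ k, k < 5 → ∀ i, i < 32 → qr k i < 32 := by decide +kernel
set_option maxRecDepth 100000 in
theorem hrLt : ∀ k, k < 2 → ∀ i, i < 60 → hr k i < 60 := by decide +kernel
set_option maxRecDepth 100000 in
theorem qM : ∀ k, k < 5 → ∀ i, i < 32 → γQ k * ((qLet i).map γQ).prod = ((qLet (qr k i)).map γQ).prod := by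
  decide +kernel
set_option maxRecDepth 100000 in
theorem hM : ∀ k, k < 2 → ∀ i, i < 60 → γA k * ((hLet i).map γA).prod = ((hLet (hr k i)).map γA).prod := by
  decide +kernel
set_option maxRecDepth 100000 in
theorem hInvJ : ∀ j, j < 60 → ((hLet j).map γA).prod * ((hLet j).map γA).prod = 1 → j ∈ invJL := by
  decide +kernel

set_option maxRecDepth 100000 in
theorem qG : ∀ k, k < 5 → ∀ i, i < 32 → wEqT (aw k ++ flatW aw (qLet i)) (flatW aw (qLet (qr k i))) = true := by
  decide +kernel
set_option maxRecDepth 100000 in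
theorem hG : ∀ k, k < 2 → ∀ i, i < 60 → wEqT (hw k ++ flatW hw (hLet i)) (flatW hw (hLet (hr k i))) = true := by
  decide +kernel
set_option maxRecDepth 100000 in
theorem qN : ∀ i, i < 32 → i ≠ 0 → wEqT (flatW aw (qLet i)) [] = false := by decide +kernel
set_option maxRecDepth 100000 in
theorem hNa : ∀ i, i < 60 → i ≠ 0 → wEqT (flatW hw (hLet i)) [] = false := by decide +kernel
set_option maxRecDepth 100000 in
theorem aComm : ∀ k, k < 5 → wEqT (aw k ++ [32]) ([32] ++ aw k) = true := by decide +kernel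
set_option maxRecDepth 100000 in
theorem hComm : ∀ k, k < 2 → wEqT (hw k ++ [32]) ([32] ++ hw k) = true := by decide +kernel
set_option maxRecDepth 100000 in
theorem hNrm : ∀ j, j < 2 → ∀ k, k < 5 →
    wEqT (hw j ++ aw k) (flatW aw (qLet (lgetD 0 (lgetD [] nrmL j) k)) ++ hw j) = true := by decide +kernel
set_option maxRecDepth 100000 in
theorem hCj : ∀ i, i < 32 → ∀ j ∈ invJL, cjChk i j (lgetD 0 (lgetD [] cjL i) j) = true := by decide +kernel
set_option maxRecDepth 100000 in
theorem hInvK : ∀ k, k < 43 → okK k = true → wEqT [invK k, k] [] = true := by decide +kernel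

set_option maxRecDepth 100000 in
theorem nrmLt : ∀ j, j < 2 → ∀ k, k < 5 → lgetD 0 (lgetD [] nrmL j) k < 32 := by decide +kernel

theorem okK_lt {k : ℕ} (h : okK k = true) : k < 43 := by
  by_contra h2
  have h3 : Nat.shiftRight okMask k = 0 := by
    show okMask >>> k = 0
    rw [Nat.shiftRight_eq_div_pow]
    refine Nat.div_eq_of_lt (lt_of_lt_of_le (show okMask < 2 ^ 43 by decide) ?_)
    exact Nat.pow_le_pow_right (by norm_num) (by omega)
  have h4 : Nat.beq (Nat.land (Nat.shiftRight okMask k) 1) 1 = true := h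
  rw [h3] at h4
  exact Bool.noConfusion h4

theorem invK_spec {k : ℕ} (h : okK k = true) : gG (invK k) = (gG k)⁻¹ := by
  have h1 := wG_eq (hInvK k (okK_lt h) h)
  rw [wG_cons, wG_cons, wG_nil, mul_one] at h1
  exact eq_inv_of_mul_eq_one_left h1

theorem wI_cons (k : ℕ) (l : List ℕ) (i : ℕ) : wI (k :: l) i = wI l (Tc (invK k) i) :=
  force_eq _ _

theorem wI_code (l : List ℕ) (h : allOk l = true) :
    E.IsCode (((wG l)⁻¹ : G) : Equiv.Perm (Fin N)) (wI l) := by
  induction l with
  | nil =>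
    intro a
    rw [wG_nil, inv_one]
    rfl
  | cons k l ih =>
    have h1 : okK k = true := allL_iff.1 h k List.mem_cons_self
    have h2 : allOk l = true := allL_iff.2 fun a ha => allL_iff.1 h a (List.mem_cons_of_mem _ ha)
    rw [wG_cons, mul_inv_rev, ← invK_spec h1]
    have h3 := code_mulG (ih h2) (gG_code (invK k))
    intro a
    rw [wI_cons]
    exact h3 a

theorem evC_code (l : List ℕ) (h : allOk l = true) :
    E.IsCode ((wG l * gG 32 * (wG l)⁻¹ : G) : Equiv.Perm (Fin N)) (evC l) := by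
  have h1 := code_mulG (code_mulG (wG_code l) (gG_code 32)) (wI_code l h)
  intro a
  have h2 := h1 a
  have e : evC l a.val = wE l (Tc 32 (wI l a.val)) := by
    unfold evC
    rw [force_eq]
  show evC l (E.idx a) = _
  exact e.trans h2

theorem clsAll : allBelow clsChk (9 * 2907) = true := allBelow_of_chunks (fun c hc => by
    interval_cases c
    · exact cCls0
    · exact cCls1
    · exact cCls2
    · exact cCls3
    · exact cCls4
    · exact cCls5
    · exact cCls6
    · exact cCls7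
    · exact cCls8
  )

theorem cls_spec {i : ℕ} (hi : i < 26163) : allOk (clW i) = true ∧ keyC (clW i) = clK i ∧
    (i ≠ 26162 → clK i < clK (i + 1)) := by
  have h := (allBelow_iff _ _).1 clsAll i (by omega)
  unfold clsChk at h
  cases h1 : allOk (clW i)
  · rw [h1, bcond_false] at h
    exact absurd h (by simp)
  · rw [h1, bcond_true] at h
    cases h2 : Nat.beq (keyC (clW i)) (clK i)
    · rw [h2, bcond_false] at h
      exact absurd h (by simp)
    · rw [h2, bcond_true] at h
      refine ⟨rfl, Nat.eq_of_beq_eq_true h2, fun h3 => ?_⟩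
      have h4 : Nat.beq i 26162 = false := by
        rw [Bool.eq_false_iff]
        exact fun h5 => h3 (Nat.eq_of_beq_eq_true h5)
      rw [h4, bcond_false] at h
      simpa [Nat.blt_eq] using h

theorem clK_lt {i j : ℕ} (hij : i < j) (hj : j < 26163) : clK i < clK j := by
  induction j with
  | zero => omega
  | succ j ih =>
    have h1 := (cls_spec (i := j) (by omega)).2.2 (by omega)
    rcases Nat.lt_succ_iff_lt_or_eq.1 hij with h | h
    · exact lt_trans (ih h (by omega)) h1
    · subst h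
      exact h1

theorem cls_inj (i j : Fin 26163)
    (h : wG (clW i) * gG 32 * (wG (clW i))⁻¹ = wG (clW j) * gG 32 * (wG (clW j))⁻¹) : i = j := by
  obtain ⟨h1, h2, _⟩ := cls_spec i.isLt
  obtain ⟨h3, h4, _⟩ := cls_spec j.isLt
  have hp : ∀ p, p < N → evC (clW i) p = evC (clW j) p := by
    intro p hp
    rw [code_apply (evC_code _ h1) hp, code_apply (evC_code _ h3) hp, h]
  have hk : clK i = clK j := by
    rw [← h2, ← h4]
    unfold keyC
    rw [hp 7764 (by norm_num), hp 12345 (by norm_num), hp 20011 (by norm_num)]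
  apply Fin.ext
  rcases lt_trichotomy i.val j.val with h5 | h5 | h5
  · exact absurd hk (ne_of_lt (clK_lt h5 j.isLt))
  · exact h5
  · exact absurd hk.symm (ne_of_lt (clK_lt h5 i.isLt))

/-! ### The data -/

theorem exists_data : ∃ (fQ : Q₀ →* G) (fA : A₅ →* G) (u : Fin 26163 → G),
    Function.Injective fQ ∧ Function.Injective fA ∧
    (∀ x, fQ x * fQ Rank.CG.z = fQ Rank.CG.z * fQ x) ∧ (∀ g, fA g * fQ Rank.CG.z = fQ Rank.CG.z * fA g) ∧
    (∀ g x, ∃ x', fA g * fQ x = fQ x' * fA g) ∧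
    (∀ i j, u i * fQ Rank.CG.z * (u i)⁻¹ = u j * fQ Rank.CG.z * (u j)⁻¹ → i = j) ∧
    (∀ x g, g * g = 1 → (fQ x * fA g) * (fQ x * fA g) = 1 → fQ x * fA g ≠ 1 →
      IsConj (fQ x * fA g) (fQ Rank.CG.z)) := by
  obtain ⟨fQ, hfQ, hQe, hQS, hQγ, hQs⟩ := table_hom (g := 5) γQ qLet qr aw J3Inv.card_Q₀ 0 (by norm_num) rfl qInj qLt qrLt qM qG qN
  obtain ⟨fA, hfA, hAe, hAS, hAγ, hAs⟩ := table_hom (g := 2) γA hLet hr hw J3Inv.card_A₅ 0 (by norm_num) rfl hInj hLt hrLt hM hG hNa
  have hz : γQ 4 = (Rank.CG.z : Q₀) := by decide +kernel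
  have hz' : fQ Rank.CG.z = gG 32 := by
    rw [← hz, hQγ 4 (by norm_num)]
    show wG [32] = _
    rw [wG_cons, wG_nil, mul_one]
  have hcQ : ∀ x, fQ x * gG 32 = gG 32 * fQ x := by
    intro x
    have hx : x ∈ closure (γQ '' {k | k < 5}) := by
      rw [hQS]
      exact mem_top x
    induction hx using Subgroup.closure_induction with
    | mem s hs =>
      obtain ⟨k, hk, rfl⟩ := hs
      rw [hQγ k hk]
      have h1 := wG_eq (aComm k hk)
      rw [wG_append, wG_append] at h1
      have h2 : wG [32] = gG 32 := by rw [wG_cons, wG_nil, mul_one]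
      rwa [h2] at h1
    | one => simp
    | mul a b _ _ ha hb => rw [map_mul, mul_assoc, hb, ← mul_assoc, ha, mul_assoc]
    | inv a _ ha =>
      rw [map_inv]
      calc (fQ a)⁻¹ * gG 32 = (fQ a)⁻¹ * (gG 32 * fQ a) * (fQ a)⁻¹ := by group
        _ = (fQ a)⁻¹ * (fQ a * gG 32) * (fQ a)⁻¹ := by rw [ha]
        _ = gG 32 * (fQ a)⁻¹ := by group
  have hcA : ∀ x, fA x * gG 32 = gG 32 * fA x := by
    intro x
    have hx : x ∈ closure (γA '' {k | k < 2}) := by
      rw [hAS]
      exact mem_top x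
    induction hx using Subgroup.closure_induction with
    | mem s hs =>
      obtain ⟨k, hk, rfl⟩ := hs
      rw [hAγ k hk]
      have h1 := wG_eq (hComm k hk)
      rw [wG_append, wG_append] at h1
      have h2 : wG [32] = gG 32 := by rw [wG_cons, wG_nil, mul_one]
      rwa [h2] at h1
    | one => simp
    | mul a b _ _ ha hb => rw [map_mul, mul_assoc, hb, ← mul_assoc, ha, mul_assoc]
    | inv a _ ha =>
      rw [map_inv]
      calc (fA a)⁻¹ * gG 32 = (fA a)⁻¹ * (gG 32 * fA a) * (fA a)⁻¹ := by group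
        _ = (fA a)⁻¹ * (fA a * gG 32) * (fA a)⁻¹ := by rw [ha]
        _ = gG 32 * (fA a)⁻¹ := by group
  have hnorm1 : ∀ j, j < 2 → ∀ x, ∃ x', fA (γA j) * fQ x = fQ x' * fA (γA j) := by
    intro j hj x
    have hx : x ∈ closure (γQ '' {k | k < 5}) := by
      rw [hQS]
      exact mem_top x
    induction hx using Subgroup.closure_induction with
    | mem s hs =>
      obtain ⟨k, hk, rfl⟩ := hs
      refine ⟨((qLet (lgetD 0 (lgetD [] nrmL j) k)).map γQ).prod, ?_⟩
      have h1 := wG_eq (hNrm j hj k hk)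
      have hlt : lgetD 0 (lgetD [] nrmL j) k < 32 := nrmLt j hj k hk
      rw [hAγ j hj, hQγ k hk, hQe _ hlt]
      rw [wG_append, wG_append] at h1
      exact h1
    | one => exact ⟨1, by simp⟩
    | mul a b _ _ ha hb =>
      obtain ⟨a', ha'⟩ := ha
      obtain ⟨b', hb'⟩ := hb
      refine ⟨a' * b', ?_⟩
      rw [map_mul, ← mul_assoc, ha', mul_assoc, hb', map_mul, mul_assoc]
    | inv a _ ha =>
      obtain ⟨a', ha'⟩ := ha
      refine ⟨a'⁻¹, ?_⟩
      rw [map_inv, map_inv]
      have h2 : fA (γA j) * (fQ a)⁻¹ = (fQ a')⁻¹ * (fQ a' * fA (γA j)) * (fQ a)⁻¹ := by group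
      rw [h2, ← ha']
      group
  have hnorm : ∀ g x, ∃ x', fA g * fQ x = fQ x' * fA g := by
    intro g
    have hg : g ∈ closure (γA '' {k | k < 2}) := by
      rw [hAS]
      exact mem_top g
    induction hg using Subgroup.closure_induction with
    | mem s hs =>
      obtain ⟨j, hj, rfl⟩ := hs
      exact hnorm1 j hj
    | one => exact fun x => ⟨x, by simp⟩
    | mul a b _ _ ha hb =>
      intro x
      obtain ⟨x₁, hx₁⟩ := hb x
      obtain ⟨x₂, hx₂⟩ := ha x₁
      refine ⟨x₂, ?_⟩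
      rw [map_mul, mul_assoc, hx₁, ← mul_assoc, hx₂, mul_assoc]
    | inv a _ ha =>
      choose φ hφ using ha
      have hφi : Function.Injective φ := by
        intro x y h
        have h1 := hφ x
        have h2 := hφ y
        rw [h] at h1
        have h3 : fA a * fQ x = fA a * fQ y := by rw [h1, h2]
        exact hfQ (mul_left_cancel h3)
      have hφs : Function.Surjective φ := Finite.injective_iff_surjective.1 hφi
      intro x
      obtain ⟨y, hy⟩ := hφs x
      refine ⟨y, ?_⟩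
      have h1 := hφ y
      rw [hy] at h1
      rw [map_inv]
      calc (fA a)⁻¹ * fQ x = (fA a)⁻¹ * (fQ x * fA a) * (fA a)⁻¹ := by group
        _ = (fA a)⁻¹ * (fA a * fQ y) * (fA a)⁻¹ := by rw [h1]
        _ = fQ y * (fA a)⁻¹ := by group
  refine ⟨fQ, fA, fun i => wG (clW i), hfQ, hfA, ?_, ?_, hnorm, ?_, ?_⟩
  · rw [hz']
    exact hcQ
  · rw [hz']
    exact hcA
  · rw [hz']
    exact cls_inj
  · rw [hz']
    intro x g hg hyy hy1
    obtain ⟨i, hi, rfl⟩ := hQs x
    obtain ⟨j, hj, rfl⟩ := hAs g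
    have hmem := hInvJ j hj hg
    have hc := hCj i hi j hmem
    rw [hQe i hi, hAe j hj] at hyy hy1 ⊢
    have ey : wG (qW i ++ hW j) = wG (flatW aw (qLet i)) * wG (flatW hw (hLet j)) := wG_append _ _
    generalize lgetD 0 (lgetD [] cjL i) j = c at hc
    unfold cjChk at hc
    cases h0 : Nat.beq c 0
    · rw [h0, bcond_false] at hc
      cases h1 : Nat.beq c 1
      · rw [h1, bcond_false] at hc
        have h2 := wG_eq hc
        rw [wG_append, ey, wG_append] at h2
        have h3 : wG [32] = gG 32 := by rw [wG_cons, wG_nil, mul_one]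
        rw [h3] at h2
        rw [isConj_iff]
        refine ⟨(wG (clW (Nat.sub c 2)))⁻¹, ?_⟩
        rw [inv_inv, mul_assoc, h2]
        group
      · rw [h1, bcond_true] at hc
        cases h4 : wEqT ((qW i ++ hW j) ++ (qW i ++ hW j)) []
        · exfalso
          have h5 : wEqT ((qW i ++ hW j) ++ (qW i ++ hW j)) [] = true := wEqT_of_eq (by
            rw [wG_append, ey, wG_nil]
            exact hyy)
          rw [h5] at h4
          exact Bool.noConfusion h4
        · rw [h4, bcond_true] at hc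
          exact Bool.noConfusion hc
    · rw [h0, bcond_true] at hc
      exfalso
      apply hy1
      have h5 := wG_eq hc
      rw [ey, wG_nil] at h5
      exact h5

end Cfsg.Agent.Lib.KnownSimple.J3
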