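import Cfsg.Agent.Lib.KnownSimple.J3.InvG
import Cfsg.Agent.Lib.KnownSimple.J3.Center

/-!
# The Janko group: all involutions are conjugate and the centraliser of an involution has shape `2^{1+4}_- : A₅`
-/

set_option autoImplicit false

namespace Cfsg.Agent.Lib.KnownSimple.J3

open Cfsg Cfsg.Spor
open Cfsg.Agent.Lib.KnownSimple.J3Inv (Q₀ A₅)
open Cfsg.Agent.Lib.LargeES
open Subgroup

theorem involution_structure {F : Type*} [Field F] [Fintype F] {ω : F} (hg : Good ω) :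
    (∀ x y : Cfsg.Spor.J3 F ω, orderOf x = 2 → orderOf y = 2 → IsConj x y) ∧
    ∃ t : Cfsg.Spor.J3 F ω, orderOf t = 2 ∧
      ∃ (Q : Subgroup ↥(Subgroup.centralizer ({t} : Set (Cfsg.Spor.J3 F ω)))) (_ : Q.Normal),
        Cfsg.IsExtraspecial 2 Q ∧ Nat.card Q = 32 ∧ (∀ E : Subgroup Q, Cfsg.IsElementaryAbelian 2 E → Nat.card E ≤ 2 ^ 2) ∧
        (∃ H : Subgroup ↥(Subgroup.centralizer ({t} : Set (Cfsg.Spor.J3 F ω))), Q.IsComplement' H) ∧
        Nonempty (↥(Subgroup.centralizer ({t} : Set (Cfsg.Spor.J3 F ω))) ⧸ Q ≃* ↥(alternatingGroup (Fin 5))) := by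
  obtain ⟨fQ, fA, u, hfQ, hfA, hQc, hAc, hnorm, hu, hconj⟩ := exists_data
  let e : Cfsg.Spor.J3 F ω ≃* G := equivJ hg
  haveI : Finite (Cfsg.Spor.J3 F ω) := Finite.of_equiv _ e.symm.toEquiv
  have hJ : Nat.card (Cfsg.Spor.J3 F ω) = 50232960 := card_J3 hg
  let fQ' : Q₀ →* Cfsg.Spor.J3 F ω := e.symm.toMonoidHom.comp fQ
  let fA' : A₅ →* Cfsg.Spor.J3 F ω := e.symm.toMonoidHom.comp fA
  have hfQ' : Function.Injective fQ' := e.symm.injective.comp hfQ
  have hfA' : Function.Injective fA' := e.symm.injective.comp hfA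
  have emul : ∀ a b : G, e.symm (a * b) = e.symm a * e.symm b := map_mul e.symm
  refine J3Inv.abstract_main hJ fQ' fA' hfQ' hfA' ?_ ?_ ?_ ?_ ?_
  · intro x
    show e.symm (fQ x) * e.symm (fQ _) = e.symm (fQ _) * e.symm (fQ x)
    rw [← emul, ← emul, hQc]
  · intro x
    show e.symm (fA x) * e.symm (fQ _) = e.symm (fQ _) * e.symm (fA x)
    rw [← emul, ← emul, hAc]
  · intro g x
    obtain ⟨x', hx'⟩ := hnorm g x
    refine ⟨x', ?_⟩
    show e.symm (fA g) * e.symm (fQ x) = e.symm (fQ x') * e.symm (fA g)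
    rw [← emul, ← emul, hx']
  · refine J3Inv.card_centralizer_le (m := 26163) (c := 1920) _ (fun i => e.symm (u i)) ?_ (by rw [hJ]) (by norm_num)
    intro i j h
    apply hu
    apply e.symm.injective
    have h2 : ∀ a : G, e.symm (a * fQ Rank.CG.z * a⁻¹) = e.symm a * e.symm (fQ Rank.CG.z) * (e.symm a)⁻¹ := by
      intro a
      rw [map_mul, map_mul, map_inv]
    rw [h2, h2]
    exact h
  · intro x g hgg h1 h2
    have h3 : (fQ x * fA g) * (fQ x * fA g) = 1 := by
      apply e.symm.injective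
      rw [map_one]
      have h4 : e.symm ((fQ x * fA g) * (fQ x * fA g)) = (fQ' x * fA' g) * (fQ' x * fA' g) := by
        show _ = (e.symm (fQ x) * e.symm (fA g)) * (e.symm (fQ x) * e.symm (fA g))
        rw [map_mul, map_mul]
      rw [h4, h1]
    have h5 : fQ x * fA g ≠ 1 := by
      intro h6
      apply h2
      show e.symm (fQ x) * e.symm (fA g) = 1
      rw [← emul, h6, map_one]
    have h7 := hconj x g hgg h3 h5
    rw [isConj_iff] at h7 ⊢
    obtain ⟨c, hc⟩ := h7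
    refine ⟨e.symm c, ?_⟩
    show e.symm c * (e.symm (fQ x) * e.symm (fA g)) * (e.symm c)⁻¹ = e.symm (fQ _)
    rw [← hc]
    simp only [map_mul, map_inv]

end Cfsg.Agent.Lib.KnownSimple.J3
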