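import Cfsg.Agent.Lib.KnownSimple.J3.Tau
import Cfsg.Agent.Lib.KnownSimple.J3.SrchN1
import Cfsg.Agent.Lib.KnownSimple.J3.SrchN18
import Cfsg.Agent.Lib.KnownSimple.J3.SrchC

/-!
# The outer automorphism group of the Janko group
-/

set_option autoImplicit false

namespace Cfsg.Agent.Lib.KnownSimple.J3

open Cfsg Cfsg.Spor Cfsg.Agent.Lib.Compute Cfsg.Agent.Lib.KnownSimple.PE Cfsg.Agent.Lib.KnownSimple.Leech
open Cfsg.Agent.Lib.KnownSimple Cfsg.Agent.Lib.KnownSimple.AutRigid
open Cfsg.Agent.Lib.KnownSimple.J3Data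

theorem sN1 : allBelow gN1 N = true := by
  have h : allBelow gN1 (9 * 2584) = true := allBelow_of_chunks (fun c hc => by
    interval_cases c
    · exact sN1_0
    · exact sN1_1
    · exact sN1_2
    · exact sN1_3
    · exact sN1_4
    · exact sN1_5
    · exact sN1_6
    · exact sN1_7
    · exact sN1_8
  )
  exact h
theorem sN18 : allBelow gN18 N = true := by
  have h : allBelow gN18 (9 * 2584) = true := allBelow_of_chunks (fun c hc => by
    interval_cases c
    · exact sN18_0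
    · exact sN18_1
    · exact sN18_2
    · exact sN18_3
    · exact sN18_4
    · exact sN18_5
    · exact sN18_6
    · exact sN18_7
    · exact sN18_8
  )
  exact h
theorem sC : allBelow gC' N = true := by
  have h : allBelow gC' (9 * 2584) = true := allBelow_of_chunks (fun c hc => by
    interval_cases c
    · exact sC_0
    · exact sC_1
    · exact sC_2
    · exact sC_3
    · exact sC_4
    · exact sC_5
    · exact sC_6
    · exact sC_7
    · exact sC_8
  )
  exact h

theorem hcl (k : ℕ) (hk : ¬ 19 ∣ k) : ∃ j, k * 4 ^ j ≡ 1 [MOD 19] ∨ k * 4 ^ j ≡ 19 - 1 [MOD 19] := by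
  have h1 : ∀ a : Fin 19, a.val ≠ 0 → ∃ j : Fin 9, (a.val * 4 ^ j.val) % 19 = 1 ∨ (a.val * 4 ^ j.val) % 19 = 19 - 1 := by
    decide
  have h2 : k % 19 ≠ 0 := fun h0 => hk (Nat.dvd_of_mod_eq_zero h0)
  obtain ⟨j, h3⟩ := h1 ⟨k % 19, Nat.mod_lt _ (by norm_num)⟩ h2
  refine ⟨j.val, ?_⟩
  rcases h3 with h3 | h3
  · left
    show k * 4 ^ j.val % 19 = 1 % 19
    rw [← Nat.mod_mul_mod]
    exact h3
  · right
    show k * 4 ^ j.val % 19 = (19 - 1) % 19
    rw [← Nat.mod_mul_mod]
    exact h3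

theorem hcl' (k : ℕ) (hk : ¬ 19 ∣ k) : ∃ j, ∃ e ∈ [1, 18], k * 4 ^ j ≡ e [MOD 19] := by
  obtain ⟨j, h | h⟩ := hcl k hk
  · exact ⟨j, 1, by simp, h⟩
  · exact ⟨j, 18, by simp, h⟩

theorem hN1 (g : G) (h : g * w * g⁻¹ = w ^ 1) : ∃ a : ℕ, g = w ^ a := by
  have h3 : (g : Equiv.Perm (Fin N)) * w = ((w ^ 1 : G) : Equiv.Perm (Fin N)) * g := by
    rw [← h]
    have : g * w = g * w * g⁻¹ * g := by group
    exact congrArg Subtype.val this
  obtain ⟨i, _, hi⟩ := mem_list_of_searchO (cE := fun i => ((w ^ i : G) : Equiv.Perm (Fin N)))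
    (cs := csN) (K := 19) grInv g.2 code_w (coe_pow_isCode code_w _) h3 19 hLsO hbO hcovO
    (fun i _ => (w ^ i : G).2) (fun i _ => coe_pow_isCode code_w i) sN1
  exact ⟨i, Subtype.ext hi⟩

theorem hN18 (g : G) (h : g * w * g⁻¹ = w ^ 18) : False := by
  have h3 : (g : Equiv.Perm (Fin N)) * w = ((w ^ 18 : G) : Equiv.Perm (Fin N)) * g := by
    rw [← h]
    have : g * w = g * w * g⁻¹ * g := by group
    exact congrArg Subtype.val this
  obtain ⟨i, hi0, _⟩ := Cfsg.Agent.Lib.KnownSimple.Pres.mem_list_of_searchU (cE := fun _ => (1 : Equiv.Perm (Fin N)))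
    (cs := csN) (K := 0) grInv g.2 code_w (coe_pow_isCode code_w _) h3 19 (tests := testsU) (by decide) hLsO hbO hcovO
    (fun i hi => absurd hi (Nat.not_lt_zero i)) (fun i hi => absurd hi (Nat.not_lt_zero i)) sN18
  exact absurd hi0 (Nat.not_lt_zero i)

theorem hN0 (j : ℕ) (hj : j ∈ [1, 18]) (g : G) (h : g * w * g⁻¹ = w ^ j) : ∃ a b : ℕ, b < 9 ∧ g = w ^ a * u ^ b := by
  simp only [List.mem_cons, List.not_mem_nil, or_false] at hj
  rcases hj with rfl | rfl
  · obtain ⟨a, ha⟩ := hN1 g h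
    exact ⟨a, 0, by norm_num, by rw [pow_zero, mul_one]; exact ha⟩
  · exact (hN18 g h).elim

theorem hN (g : G) (j : ℕ) (h : g * w * g⁻¹ = w ^ j) : ∃ a b : ℕ, b < 9 ∧ g = w ^ a * u ^ b :=
  hN_of_eps orderOf_w (by norm_num) conj_uw u_pow (by norm_num) [1, 18] hcl' (fun e he g h => hN0 e he g h) g j h

/-- The centraliser of `u`. -/
noncomputable def cE' (i : ℕ) : G := u ^ (i / 3) * z ^ (i % 3)

theorem code_cE (i : ℕ) : E.IsCode ((cE' i : G) : Equiv.Perm (Fin N)) (csC i) := by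
  unfold csC
  exact coe_code_mul (coe_pow_isCode code_u (i / 3)) (coe_pow_isCode code_z (i % 3))

theorem cE_zero : cE' 0 = 1 := by simp [cE']

theorem hCent (c : G) (h : c * u = u * c) : ∃ i, i < 27 ∧ c = cE' i := by
  obtain ⟨i, hi, e⟩ := Cfsg.Agent.Lib.KnownSimple.Pres.mem_list_of_searchU (cE := fun i => ((cE' i : G) : Equiv.Perm (Fin N))) (cs := csC) (K := 27)
    grInv c.2 code_u code_u (congrArg Subtype.val h) 9 (tests := testsC) (by decide) hLsO hbO hcovO (fun i _ => (cE' i : G).2)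
    (fun i _ => code_cE i) sC
  exact ⟨i, hi, Subtype.ext e⟩

theorem rel_x₁u : x₁ * u = u ^ 8 * x₁ :=
  eq_of_chk based2 lt2 (coe_code_mul code_x₁ code_u) (coe_code_mul (coe_pow_isCode code_u 8) code_x₁) (by decide +kernel)
theorem conj_x₁u : x₁ * u * x₁⁻¹ = u ^ 8 := by rw [rel_x₁u]; group

/-! ### Generation -/

/-- A letter of a word. -/
noncomputable def ltr (a : ℕ) : G := lgetD 1 [w, u, x₁] a
/-- The code of a letter of a word. -/
noncomputable def cltr (a : ℕ) : ℕ → ℕ := lgetD (fun i => i) [cw, cu, cx₁] a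
/-- The product of a word. -/
noncomputable def evW (W : List ℕ) : G := W.foldr (fun a x => ltr a * x) 1
/-- The code of the product of a word. -/
noncomputable def cevW (W : List ℕ) (i : ℕ) : ℕ := W.foldr (fun a r => cltr a r) i

theorem code_ltr (a : ℕ) : E.IsCode ((ltr a : G) : Equiv.Perm (Fin N)) (cltr a) := by
  match a with
  | 0 => exact code_w
  | 1 => exact code_u
  | 2 => exact code_x₁
  | (a + 3) => exact isCode_one E

theorem mem_ltr (C : Subgroup G) (h0 : w ∈ C) (h1 : u ∈ C) (h2 : x₁ ∈ C) (a : ℕ) : ltr a ∈ C := by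
  match a with
  | 0 => exact h0
  | 1 => exact h1
  | 2 => exact h2
  | (a + 3) => exact C.one_mem

theorem code_evW (W : List ℕ) : E.IsCode ((evW W : G) : Equiv.Perm (Fin N)) (cevW W) := by
  induction W with
  | nil => exact isCode_one E
  | cons a W ih => exact coe_code_mul (f := cltr a) (g := cevW W) (code_ltr a) ih

theorem mem_evW (C : Subgroup G) (h0 : w ∈ C) (h1 : u ∈ C) (h2 : x₁ ∈ C) (W : List ℕ) : evW W ∈ C := by
  induction W with
  | nil => exact C.one_mem
  | cons a W ih => exact C.mul_mem (mem_ltr C h0 h1 h2 a) ih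

set_option maxRecDepth 100000 in
theorem D0_word : D0 = evW WD0 := eq_of_chk based2 lt2 code_D0 (code_evW WD0) (by decide +kernel)
set_option maxRecDepth 100000 in
theorem D1_word : D1 = evW WD1 := eq_of_chk based2 lt2 code_D1 (code_evW WD1) (by decide +kernel)

theorem closure_top : Subgroup.closure ({w, u, x₁} : Set G) = ⊤ := by
  set C := Subgroup.closure ({w, u, x₁} : Set G) with hC
  have h0 : w ∈ C := Subgroup.subset_closure (by simp)
  have h1 : u ∈ C := Subgroup.subset_closure (by simp)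
  have h2 : x₁ ∈ C := Subgroup.subset_closure (by simp)
  have hD0 : D0 ∈ C := by
    rw [D0_word]
    exact mem_evW C h0 h1 h2 _
  have hD1 : D1 ∈ C := by
    rw [D1_word]
    exact mem_evW C h0 h1 h2 _
  rw [eq_top_iff]
  intro g _
  have h3 : K ≤ C.map H.subtype := by
    rw [K, Subgroup.closure_le]
    rintro s (rfl | rfl)
    · exact ⟨D0, hD0, rfl⟩
    · exact ⟨D1, hD1, rfl⟩
  have h4 : (g : Equiv.Perm (Fin N)) ∈ K := by
    rw [← H_eq]
    exact g.2
  obtain ⟨g', hg', e⟩ := h3 h4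
  have : g' = g := Subtype.ext e
  rwa [← this]

/-- The generators at the first step. -/
noncomputable def gs₁ : ℕ → G := cns w (cns u (fun _ => 1))
/-- Their codes. -/
noncomputable def cs₁ : ℕ → ℕ → ℕ := cns cw (cns cu (fun _ a => a))

theorem cs₁_code (i : ℕ) : E.IsCode ((gs₁ i : G) : Equiv.Perm (Fin N)) (cs₁ i) := by
  match i with
  | 0 => exact code_w
  | 1 => exact code_u
  | (k + 2) => exact isCode_one E

theorem cs₁'_code (ψ : MulAut G) (h1 : ψ w = w) (h2 : ψ u = u) (i : ℕ) :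
    E.IsCode ((ψ (gs₁ i) : G) : Equiv.Perm (Fin N)) (cs₁ i) := by
  match i with
  | 0 =>
    show E.IsCode ((ψ w : G) : Equiv.Perm (Fin N)) _
    rw [h1]
    exact code_w
  | 1 =>
    show E.IsCode ((ψ u : G) : Equiv.Perm (Fin N)) _
    rw [h2]
    exact code_u
  | (k + 2) =>
    show E.IsCode ((ψ 1 : G) : Equiv.Perm (Fin N)) (fun a => a)
    rw [map_one]
    exact isCode_one E

theorem tb1 : tblY (basesOf Ls) cs₁ cs₁ cx₁ csC tbl1 27 (fun i => [0].contains i) = true := by decide +kernel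

theorem key1 (ψ : MulAut G) (h1 : ψ w = w ^ 1) (h2 : ψ u = u) : ψ = 1 := by
  rw [pow_one] at h1
  obtain ⟨i, hi, h3⟩ := step_tblY (x := x₁) (y := u) (cE := cE') based2 lt2 ψ hCent conj_x₁u h2 cs₁_code
    (cs₁'_code ψ h1 h2) code_x₁ code_cE tb1
  have h4 : i ∈ [0] := by simpa using hi
  simp only [List.mem_cons, List.not_mem_nil, or_false] at h4
  rcases h4 with rfl
  rw [cE_zero, mul_one] at h3
  apply eq_one_of_fix closure_top
  rintro g (rfl | rfl | rfl)
  · exact h1
  · exact h2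
  · exact h3

theorem card_not : ¬ 19 ^ 2 ∣ Nat.card G := by
  rw [show Nat.card G = 50232960 from card_H]
  norm_num

theorem hrb : ∀ b, b < 9 → 4 ^ b ≡ 4 [MOD 19] → b = 1 := by decide
theorem hk₀ : 13 + 1 ≡ 4 * 13 [MOD 19] := by decide
theorem hneg : ∀ b, b < 9 → ¬ 4 ^ b ≡ 19 - 1 [MOD 19] := by decide

theorem τ_w : τ w = w ^ (19 - 1) := by
  apply Subtype.ext
  show fP * P 43 * fP⁻¹ = ((w ^ 18 : G) : Equiv.Perm (Fin N))
  rw [fP_inv]
  refine eq_of_all (isCode_mul (isCode_mul code_fP (P_code (by norm_num))) code_fP) (coe_pow_isCode code_w 18) ?_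
  intro i hi
  exact Nat.eq_of_beq_eq_true ((allBelow_iff _ _).1 hFw i hi)

theorem card_out_G : Nat.card (Out G) = 2 :=
  card_out_eq_two (τ := τ) (not_mem_inn orderOf_w conj_uw hN hneg τ_w)
    (inner_or (p := 19) (r := 4) (m := 9) (k₀ := 13) (by norm_num) orderOf_w card_not conj_uw u_pow hN hrb hk₀ hcl
      (by decide) key1 τ_w)

/-- The centre of the group is trivial. -/
theorem center_triv (c : G) (hc : ∀ g : G, c * g = g * c) : c = 1 := by
  have h1 : c * w * c⁻¹ = w ^ 1 := by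
    rw [hc w]
    group
  obtain ⟨i, rfl⟩ := hN1 c h1
  have h2 : u * w ^ i * u⁻¹ = w ^ (4 * i) := by
    have h3 : u * w ^ i * u⁻¹ = (u * w * u⁻¹) ^ i := by
      rw [conj_pow]
    rw [h3, conj_uw, ← pow_mul]
  have h4 : u * w ^ i * u⁻¹ = w ^ i := by
    rw [← hc u]
    group
  rw [h4] at h2
  have h6 : w ^ (3 * i) = 1 := by
    have e : w ^ (4 * i) = w ^ (3 * i) * w ^ i := by rw [← pow_add]; congr 1; ring
    rw [e] at h2
    exact (mul_eq_right.1 h2.symm)
  have h7 : (w ^ i) ^ 3 = 1 := by rw [← pow_mul, mul_comm]; exact h6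
  have h8 : orderOf (w ^ i) ∣ 19 := orderOf_w ▸ orderOf_pow_dvd i
  have h9 : orderOf (w ^ i) ∣ 3 := orderOf_dvd_of_pow_eq_one h7
  have h10 : orderOf (w ^ i) ∣ 1 := by
    have h12 := Nat.dvd_gcd h8 h9
    simpa using h12
  have h11 : orderOf (w ^ i) = 1 := Nat.dvd_one.1 h10
  exact orderOf_eq_one_iff.1 h11

/-- The outer automorphism group of the Janko group. -/
theorem card_out_J3 {F : Type*} [Field F] [Fintype F] (hF : Fintype.card F = 4) (ω : F) (hω : ω ^ 2 + ω + 1 = 0) :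
    Nat.card (Out (Spor.J3 F ω)) = 2 := by
  rw [card_out_congr (equivJ3 J (good_of_card hF hω) bOK center_triv)]
  exact card_out_G

end Cfsg.Agent.Lib.KnownSimple.J3
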