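import Cfsg.Agent.Lib.KnownSimple.J3.Top
import Cfsg.Agent.Lib.KnownSimple.Pres.LeafU

/-!
# The Janko group: the rigidity argument
-/

set_option autoImplicit false

namespace Cfsg.Agent.Lib.KnownSimple.J3

open Cfsg Cfsg.Spor Cfsg.Agent.Lib.Compute Cfsg.Agent.Lib.KnownSimple.PE Cfsg.Agent.Lib.KnownSimple.Leech
open Cfsg.Agent.Lib.KnownSimple Cfsg.Agent.Lib.KnownSimple.AutRigid
open Cfsg.Agent.Lib.KnownSimple.J3Data

/-- The generators of the rigidity argument. -/
noncomputable def w : G := ⟨P 43, P_H' (by norm_num)⟩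
/-- The generators of the rigidity argument. -/
noncomputable def u : G := ⟨P 44, P_H' (by norm_num)⟩
/-- The generators of the rigidity argument. -/
noncomputable def x₁ : G := ⟨P 45, P_H' (by norm_num)⟩
/-- The generators of the rigidity argument. -/
noncomputable def z : G := ⟨P 46, P_H' (by norm_num)⟩

/-- The code of `w`. -/
noncomputable abbrev cw : ℕ → ℕ := T 43
/-- The code of `u`. -/
noncomputable abbrev cu : ℕ → ℕ := T 44
/-- The code of `x₁`. -/
noncomputable abbrev cx₁ : ℕ → ℕ := T 45
/-- The code of `z`. -/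
noncomputable abbrev cz : ℕ → ℕ := T 46

theorem code_w : E.IsCode ((w : G) : Equiv.Perm (Fin N)) cw := P_code (by norm_num)
theorem code_u : E.IsCode ((u : G) : Equiv.Perm (Fin N)) cu := P_code (by norm_num)
theorem code_x₁ : E.IsCode ((x₁ : G) : Equiv.Perm (Fin N)) cx₁ := P_code (by norm_num)
theorem code_z : E.IsCode ((z : G) : Equiv.Perm (Fin N)) cz := P_code (by norm_num)

theorem based2 : Based E H (basesOf Ls) := based_of_chain chainH
theorem lt2 : ∀ b ∈ basesOf Ls, b < N := bases_lt chainH

/-- The invariant. -/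
noncomputable def gr : ℕ → ℕ → ℕ := grJ J

theorem w_pow : w ^ 19 = 1 := eq_of_chk based2 lt2 (coe_pow_isCode code_w 19) (isCode_one E) (by decide +kernel)
theorem u_pow : u ^ 9 = 1 := eq_of_chk based2 lt2 (coe_pow_isCode code_u 9) (isCode_one E) (by decide +kernel)

theorem w_ne : w ≠ 1 := fun h => ne_one_of_code code_w (i := 0) (by norm_num) (by decide +kernel) (congrArg Subtype.val h)

theorem orderOf_w : orderOf w = 19 := by
  have : Fact (Nat.Prime 19) := ⟨by norm_num⟩
  exact orderOf_eq_prime w_pow w_ne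

theorem rel_uw : u * w = w ^ 4 * u :=
  eq_of_chk based2 lt2 (coe_code_mul code_u code_w) (coe_code_mul (coe_pow_isCode code_w 4) code_u) (by decide +kernel)

theorem conj_uw : u * w * u⁻¹ = w ^ 4 := by rw [rel_uw]; group

/-- The lists of points of the levels. -/
noncomputable def LsO : List (Lev × List ℕ) := [(L1, ol1), (L2, ol2)]

theorem hcovO : ∀ Lo ∈ LsO, covOK N Lo.1.D Lo.2 = true := by decide +kernel
theorem hLsO : ChainSem E H (L0 :: LsO.map Prod.fst) := chainH
theorem hbO : basesOf Ls = basesOf (L0 :: LsO.map Prod.fst) := by decide +kernel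

/-- The powers of `w`. -/
noncomputable def csN (i : ℕ) : ℕ → ℕ := iterN cw i
/-- The body of the search for the centraliser of `w`. -/
noncomputable def gN1 : ℕ → Bool := topBody gr cw (iterN cw 1) 19 (leafL (basesOf Ls) csN 19) L0 LsO
/-- A list of points. -/
def testsU : List ℕ := [113, 4133, 4237, 4315, 5958, 6055, 6152, 6256, 6621, 10138, 12090, 12432, 15877, 17925, 18271, 21602]
/-- The body of the search for elements inverting `w`. -/
noncomputable def gN18 : ℕ → Bool := topBody gr cw (iterN cw 18) 19 (Cfsg.Agent.Lib.KnownSimple.Pres.leafU testsU (basesOf Ls) cw (iterN cw 18) csN 0) L0 LsO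
/-- The powers of `u` and `z`. -/
noncomputable def csC (i : ℕ) : ℕ → ℕ := fun q => iterN cu (i / 3) (iterN cz (i % 3) q)
/-- A list of points. -/
def testsC : List ℕ := [330]
/-- The body of the search for the centraliser of `u`. -/
noncomputable def gC' : ℕ → Bool := topBody gr cu cu 9 (Cfsg.Agent.Lib.KnownSimple.Pres.leafU testsC (basesOf Ls) cu cu csC 27) L0 LsO

end Cfsg.Agent.Lib.KnownSimple.J3
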