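import Cfsg.Agent.Lib.KnownSimple.J3.Code

/-!
# The Janko group `J₃`: the permutation representation on a table of one-dimensional subspaces
-/

set_option autoImplicit false

namespace Cfsg.Agent.Lib.KnownSimple.J3

open Cfsg Cfsg.Spor Cfsg.Agent.Lib.Compute Cfsg.Agent.Lib.KnownSimple.PE Cfsg.Agent.Lib.KnownSimple.Leech
open scoped Matrix MatrixGroups

theorem force_eq {β : Type} (n : ℕ) (f : ℕ → β) : force n f = f n := by
  cases n <;> rfl

/-- The digit of an entry of the generators `A`. -/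
def cA (Z w z : F9) : ℕ := if w = z then 1 + (Z.1 * w.1 + Z.2 * w.2).val else 0
/-- The digit of an entry of the generators `E`. -/
def cE (Z w z : F9) : ℕ := if w = z then 1 + ((Z.1 - w.1) ^ 2 + (Z.2 - w.2) ^ 2).val else 0
/-- The digit of the coefficient of the generators `D`. -/
def cLam (Z z : F9) : ℕ :=
  if z = 0 then 1
  else if F9.div Z z = F9.I - F9.one then 2
  else if F9.div Z z = -F9.I - F9.one then 3
  else 1
/-- The digit of an entry of the generators `D`. -/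
def cD (Z w z : F9) : ℕ := if w = z + Z then cLam Z z else 0
/-- The digit of an entry of the generators `B`. -/
def cB (Z w z : F9) : ℕ := if w = F9.mul Z z then 1 else 0
/-- The digit of an entry of the generators `C`. -/
def cC (Z w z : F9) : ℕ :=
  if z = 0 then (if w = 0 then 1 else 0)
  else if w = -F9.div Z z ∨ w = F9.mul F9.I (F9.div Z z) ∨ w = -F9.mul F9.I (F9.div Z z) then 1 else 0

/-- The check of the image of a vector of the table under a generator. -/
noncomputable def chkG (tab : ℕ → ℕ) (n : ℕ) (gk t : ℕ → ℕ) (i : ℕ) : Bool :=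
  force (matEval gk (tab i)) fun y => force (t i) fun j =>
    bcond (Nat.blt j n) (force (lcN y) fun s =>
      bcond (Nat.blt 0 s) (allBelow (fun m => Nat.beq (dg y m) (mulN s (dg (tab j) m))) 9) false) false

theorem chkG_spec {tab : ℕ → ℕ} {n : ℕ} {gk t : ℕ → ℕ} {i : ℕ} (h : chkG tab n gk t i = true) :
    t i < n ∧ 0 < lcN (matEval gk (tab i)) ∧
      ∀ m, m < 9 → dg (matEval gk (tab i)) m = mulN (lcN (matEval gk (tab i))) (dg (tab (t i)) m) := by
  unfold chkG at h
  rw [force_eq, force_eq] at h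
  cases h1 : Nat.blt (t i) n
  · rw [h1, bcond_false] at h
    exact absurd h (by simp)
  · rw [h1, bcond_true, force_eq] at h
    cases h2 : Nat.blt 0 (lcN (matEval gk (tab i)))
    · rw [h2, bcond_false] at h
      exact absurd h (by simp)
    · rw [h2, bcond_true] at h
      refine ⟨by simpa [Nat.blt_eq] using h1, by simpa [Nat.blt_eq] using h2, fun m hm => ?_⟩
      exact Nat.eq_of_beq_eq_true ((allBelow_iff _ _).1 h m hm)

/-- The data of the representation. -/
structure JTab (n nG : ℕ) where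
  /-- The table of vectors. -/
  tab : ℕ → ℕ
  /-- The multiples of the columns of the generators. -/
  gC : ℕ → ℕ → ℕ
  /-- The tables of the generators. -/
  T : ℕ → ℕ → ℕ
  hpack : allBelow (fun i => Nat.beq (repack (tab i)) (tab i)) n = true
  hfind : allBelow (fun i => Nat.beq (find tab n (tab i)) i) n = true
  hlead : allBelow (fun i => Nat.beq (lcN (tab i)) 1) n = true
  h43 : 43 ≤ nG
  hcol : allBelow (fun k => colOK (gC k)) nG = true
  hgen : ∀ k, k < nG → allBelow (chkG tab n (gC k) (T k)) n = true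
  hA : ∀ Z w z : F9, cA Z w z = dg (pick 1 (gC (zi Z) (zi z))) (zi w)
  hE : ∀ Z w z : F9, cE Z w z = dg (pick 1 (gC (9 + zi Z) (zi z))) (zi w)
  hD : ∀ Z w z : F9, cD Z w z = dg (pick 1 (gC (18 + zi Z) (zi z))) (zi w)
  hB : ∀ Z w z : F9, Z ≠ 0 → cB Z w z = dg (pick 1 (gC (26 + zi Z) (zi z))) (zi w)
  hC : ∀ Z w z : F9, Z ≠ 0 → cC Z w z = dg (pick 1 (gC (34 + zi Z) (zi z))) (zi w)
  hU : allBelow (fun k => allBelow (fun a => allBelow (fun b =>
    Nat.beq (hermC (pick 1 (gC k a)) (pick 1 (gC k b))) (bcond (Nat.beq a b) 1 0)) 9) 9) nG = true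

section field

variable {n nG : ℕ} (J : JTab n nG) {F : Type*} [Field F] {ω : F}

/-- The matrix of a generator. -/
noncomputable def matK (ω : F) (k : ℕ) : Matrix F9 F9 F := Matrix.of fun w z => φ ω (dg (pick 1 (J.gC k (zi z))) (zi w))

theorem colOK_k {k : ℕ} (hk : k < nG) : colOK (J.gC k) = true := (allBelow_iff _ _).1 J.hcol k hk

theorem omegaPow_eq (n : ZMod 3) : omegaPow F ω n = φ ω (1 + n.val) := by
  have h : ∀ m, m < 3 → ω ^ m = φ ω (1 + m) := by
    intro m hm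
    interval_cases m
    · show _ = (1 : F)
      simp
    · show _ = ω
      simp
    · rfl
  exact h _ (ZMod.val_lt n)

theorem j3A_eq (Z w z : F9) : j3A F ω Z w z = φ ω (cA Z w z) := by
  unfold j3A cA
  rw [Matrix.diagonal_apply]
  by_cases h : w = z
  · rw [if_pos h, if_pos h, omegaPow_eq]
  · rw [if_neg h, if_neg h]
    rfl

theorem j3E_eq (Z w z : F9) : j3E F ω Z w z = φ ω (cE Z w z) := by
  unfold j3E cE
  rw [Matrix.diagonal_apply]
  by_cases h : w = z
  · rw [if_pos h, if_pos h, omegaPow_eq]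
  · rw [if_neg h, if_neg h]
    rfl

theorem j3Lam_eq (Z z : F9) : j3Lam F ω Z z = φ ω (cLam Z z) := by
  unfold j3Lam cLam
  split_ifs <;> rfl

theorem j3D_eq (Z w z : F9) : j3D F ω Z w z = φ ω (cD Z w z) := by
  show (if w = z + Z then j3Lam F ω Z z else 0) = φ ω (if w = z + Z then cLam Z z else 0)
  split_ifs
  · exact j3Lam_eq Z z
  · rfl

theorem j3B_eq (Z w z : F9) : j3B F Z w z = φ ω (cB Z w z) := by
  show (if w = F9.mul Z z then (1 : F) else 0) = φ ω (if w = F9.mul Z z then 1 else 0)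
  split_ifs <;> rfl

theorem j3C_eq (Z w z : F9) : j3C F Z w z = φ ω (cC Z w z) := by
  show (if z = 0 then (if w = 0 then (1 : F) else 0)
    else if w = -F9.div Z z ∨ w = F9.mul F9.I (F9.div Z z) ∨ w = -F9.mul F9.I (F9.div Z z) then 1 else 0) = φ ω (cC Z w z)
  unfold cC
  split_ifs <;> rfl

theorem matK_A (Z : F9) : j3A F ω Z = matK J ω (zi Z) := by
  ext w z
  rw [j3A_eq, J.hA]
  rfl

theorem matK_E (Z : F9) : j3E F ω Z = matK J ω (9 + zi Z) := by
  ext w z
  rw [j3E_eq, J.hE]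
  rfl

theorem matK_D (Z : F9) : j3D F ω Z = matK J ω (18 + zi Z) := by
  ext w z
  rw [j3D_eq, J.hD]
  rfl

theorem matK_B (Z : F9) (hZ : Z ≠ 0) : j3B F Z = matK J ω (26 + zi Z) := by
  ext w z
  rw [j3B_eq (ω := ω), J.hB _ _ _ hZ]
  rfl

theorem matK_C (Z : F9) (hZ : Z ≠ 0) : j3C F Z = matK J ω (34 + zi Z) := by
  ext w z
  rw [j3C_eq (ω := ω), J.hC _ _ _ hZ]
  rfl

theorem zi_pos : ∀ Z : F9, Z ≠ 0 → 1 ≤ zi Z := by decide

theorem zi_zero : ∀ Z : F9, zi Z = 0 → Z = 0 := by decide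

theorem exists_gen_k {M : Matrix F9 F9 F} (hM : M ∈ j3Gens F ω) : ∃ k, k < 43 ∧ M = matK J ω k := by
  rcases hM with (((⟨Z, rfl⟩ | ⟨Z, rfl⟩) | ⟨Z, rfl⟩) | ⟨Z, hZ, rfl⟩) | ⟨Z, hZ, rfl⟩
  · exact ⟨_, by have := zi_lt Z; omega, matK_A J Z⟩
  · exact ⟨_, by have := zi_lt Z; omega, matK_E J Z⟩
  · exact ⟨_, by have := zi_lt Z; omega, matK_D J Z⟩
  · exact ⟨_, by have := zi_lt Z; omega, matK_B J Z hZ⟩
  · exact ⟨_, by have := zi_lt Z; omega, matK_C J Z hZ⟩

theorem matK_mem {k : ℕ} (hk : k < 43) : matK J ω k ∈ j3Gens F ω := by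
  by_cases h1 : k < 9
  · obtain ⟨Z, rfl⟩ := exists_zi k h1
    rw [← matK_A]
    exact Or.inl (Or.inl (Or.inl (Or.inl ⟨Z, rfl⟩)))
  by_cases h2 : k < 18
  · obtain ⟨Z, hZ⟩ := exists_zi (k - 9) (by omega)
    have e : k = 9 + zi Z := by omega
    rw [e, ← matK_E]
    exact Or.inl (Or.inl (Or.inl (Or.inr ⟨Z, rfl⟩)))
  by_cases h3 : k < 27
  · obtain ⟨Z, hZ⟩ := exists_zi (k - 18) (by omega)
    have e : k = 18 + zi Z := by omega
    rw [e, ← matK_D]
    exact Or.inl (Or.inl (Or.inr ⟨Z, rfl⟩))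
  by_cases h4 : k < 35
  · obtain ⟨Z, hZ⟩ := exists_zi (k - 26) (by omega)
    have e : k = 26 + zi Z := by omega
    have hZ0 : Z ≠ 0 := by
      rintro rfl
      have : zi (0 : F9) = 0 := by decide
      omega
    rw [e, ← matK_B J Z hZ0]
    exact Or.inl (Or.inr ⟨Z, hZ0, rfl⟩)
  · obtain ⟨Z, hZ⟩ := exists_zi (k - 34) (by omega)
    have e : k = 34 + zi Z := by omega
    have hZ0 : Z ≠ 0 := by
      rintro rfl
      have : zi (0 : F9) = 0 := by decide
      omega
    rw [e, ← matK_C J Z hZ0]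
    exact Or.inr ⟨Z, hZ0, rfl⟩

/-! ### The Hermitian form -/

theorem sum_sq (hg : Good ω) {ι : Type*} (s : Finset ι) (f : ι → F) : (∑ i ∈ s, f i) ^ 2 = ∑ i ∈ s, (f i) ^ 2 := by
  classical
  induction s using Finset.induction_on with
  | empty => simp
  | insert a s ha ih =>
    rw [Finset.sum_insert ha, Finset.sum_insert ha, ← ih]
    have h2 := hg.h2
    linear_combination (f a * ∑ i ∈ s, f i) * h2

theorem hermF_mulVec (hg : Good ω) {M : Matrix F9 F9 F}
    (hU : ∀ a b, ∑ w, M w a * (M w b) ^ 2 = if a = b then 1 else 0) (x y : F9 → F) :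
    hermF (M *ᵥ x) (M *ᵥ y) = hermF x y := by
  unfold hermF
  have h1 : ∀ w, (M *ᵥ x) w * ((M *ᵥ y) w) ^ 2 =
      ∑ a, ∑ b, x a * (y b) ^ 2 * (M w a * (M w b) ^ 2) := by
    intro w
    show (∑ a, M w a * x a) * (∑ b, M w b * y b) ^ 2 = _
    rw [sum_sq hg, Finset.sum_mul_sum]
    refine Finset.sum_congr rfl fun a _ => Finset.sum_congr rfl fun b _ => ?_
    ring
  rw [Finset.sum_congr rfl fun w _ => h1 w, Finset.sum_comm]
  refine Finset.sum_congr rfl fun a _ => ?_
  rw [Finset.sum_comm]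
  have h2 : ∀ b, ∑ w, x a * (y b) ^ 2 * (M w a * (M w b) ^ 2) = x a * (y b) ^ 2 * (if a = b then 1 else 0) := by
    intro b
    rw [← Finset.mul_sum, hU]
  rw [Finset.sum_congr rfl fun b _ => h2 b]
  simp

theorem unitary_k (hg : Good ω) {k : ℕ} (hk : k < nG) (a b : F9) :
    ∑ w, matK J ω k w a * (matK J ω k w b) ^ 2 = if a = b then 1 else 0 := by
  have h1 := (allBelow_iff _ _).1 J.hU k hk
  have h2 := (allBelow_iff _ _).1 h1 (zi a) (zi_lt a)
  have h3 := (allBelow_iff _ _).1 h2 (zi b) (zi_lt b)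
  have h4 := Nat.eq_of_beq_eq_true h3
  have h5 := φ_hermC hg (pick 1 (J.gC k (zi a))) (pick 1 (J.gC k (zi b)))
  rw [h4] at h5
  have h6 : hermF (vecOf ω (pick 1 (J.gC k (zi a)))) (vecOf ω (pick 1 (J.gC k (zi b)))) =
      ∑ w, matK J ω k w a * (matK J ω k w b) ^ 2 := rfl
  rw [← h6, ← h5]
  by_cases hab : a = b
  · subst hab
    have : Nat.beq (zi a) (zi a) = true := Nat.beq_refl _
    rw [this, if_pos rfl]
    rfl
  · have : Nat.beq (zi a) (zi b) = false := by
      rw [Bool.eq_false_iff]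
      intro h7
      exact hab (zi_inj _ _ (Nat.eq_of_beq_eq_true h7))
    rw [this, if_neg hab]
    rfl

/-- The generators are invertible. -/
theorem exists_unit (hg : Good ω) {k : ℕ} (hk : k < nG) : ∃ g : GL F9 F, g.1 = matK J ω k := by
  classical
  set M := matK J ω k with hM
  let M' : Matrix F9 F9 F := Matrix.of fun a w => (M w a) ^ 2
  have h1 : M' * M = 1 := by
    ext a b
    rw [Matrix.mul_apply, Matrix.one_apply]
    have h2 := unitary_k J hg hk b a
    rw [← hM] at h2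
    have h3 : (if b = a then (1 : F) else 0) = if a = b then 1 else 0 := by
      simp only [eq_comm]
    rw [← h3, ← h2]
    refine Finset.sum_congr rfl fun w _ => ?_
    show (M w a) ^ 2 * M w b = _
    ring
  have h2 : M * M' = 1 := mul_eq_one_comm.1 h1
  exact ⟨⟨M, M', h2, h1⟩, rfl⟩

section vec

variable (ω)

/-- The vector with a given number. -/
noncomputable def vec (i : Fin n) : F9 → F := vecOf ω (J.tab i)

variable {ω}

theorem vec_smul_of_digits (hg : Good ω) {y t s : ℕ} (hs0 : 0 < s) (hs4 : s < 4)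
    (h : ∀ m, m < 9 → dg y m = mulN s (dg t m)) : vecOf ω y = φ ω s • vecOf ω t := by
  funext z
  show φ ω (dg y (zi z)) = φ ω s * φ ω (dg t (zi z))
  rw [h _ (zi_lt z), φ_mul hg _ _ hs4 (dg_lt _ _)]

/-- The image of a vector of the table under a generator. -/
theorem img_k (hg : Good ω) {k : ℕ} (hk : k < nG) (i : Fin n) :
    ∃ (hj : J.T k i < n) (c : F), c ≠ 0 ∧ matK J ω k *ᵥ vec J ω i = c • vec J ω ⟨J.T k i, hj⟩ := by
  have h1 := (allBelow_iff _ _).1 (J.hgen k hk) i i.isLt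
  obtain ⟨h2, h3, h4⟩ := chkG_spec h1
  refine ⟨h2, φ ω (lcN (matEval (J.gC k) (J.tab i))), φ_ne_zero hg _ h3 (lcN_lt _), ?_⟩
  have h5 := mulVec_vecOf hg (M := matK J ω k) (gk := J.gC k) (fun _ _ => rfl) (colOK_k J hk) (J.tab i)
  show _ *ᵥ vecOf ω (J.tab i) = _ • vecOf ω (J.tab (J.T k i))
  rw [h5]
  exact vec_smul_of_digits hg h3 (lcN_lt _) h4

/-- Proportional vectors of the table are equal. -/
theorem vec_inj (hg : Good ω) {i j : Fin n} {c : F} (h : vec J ω i = c • vec J ω j) (hc : c ≠ 0) : i = j := by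
  have hd : ∀ k, k < 9 → φ ω (dg (J.tab i) k) = c * φ ω (dg (J.tab j) k) := by
    intro k hk
    obtain ⟨z, rfl⟩ := exists_zi k hk
    exact congrFun h z
  have hli : lcN (J.tab i) = 1 := Nat.eq_of_beq_eq_true ((allBelow_iff _ _).1 J.hlead i i.isLt)
  have hlj : lcN (J.tab j) = 1 := Nat.eq_of_beq_eq_true ((allBelow_iff _ _).1 J.hlead j j.isLt)
  obtain ⟨ki, hki, h0i, h1i⟩ := lcN_spec (y := J.tab i) (by rw [hli]; norm_num)
  obtain ⟨kj, hkj, h0j, h1j⟩ := lcN_spec (y := J.tab j) (by rw [hlj]; norm_num)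
  rw [hli] at h1i
  rw [hlj] at h1j
  have hne : ∀ a b : ℕ, a < 4 → φ ω a = 0 → a = 0 := by
    intro a _ ha h
    by_contra h2
    exact φ_ne_zero hg a (Nat.pos_of_ne_zero h2) ha h
  have h1 : ¬ kj < ki := by
    intro hlt
    have h2 := hd kj hkj
    rw [h0i kj hlt, h1j] at h2
    have h3 : c * φ ω 1 = 0 := by
      rw [← h2]
      rfl
    have h4 : c = 0 := by
      have h5 : φ ω 1 = 1 := rfl
      rwa [h5, mul_one] at h3
    exact hc h4
  have h2 : ¬ ki < kj := by
    intro hlt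
    have h3 := hd ki hki
    rw [h0j ki hlt, h1i] at h3
    have h4 : φ ω 1 = c * φ ω 0 := h3
    have h5 : φ ω 0 = 0 := rfl
    have h6 : φ ω 1 = 1 := rfl
    rw [h5, h6, mul_zero] at h4
    exact one_ne_zero h4
  have hk : ki = kj := by omega
  subst hk
  have hc1 : c = 1 := by
    have h3 := hd ki hki
    rw [h1i, h1j] at h3
    have h6 : φ ω 1 = 1 := rfl
    rw [h6, mul_one] at h3
    exact h3.symm
  subst hc1
  have h5 : ∀ k, k < 9 → dg (J.tab i) k = dg (J.tab j) k := by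
    intro k hk
    have h3 := hd k hk
    rw [one_mul] at h3
    exact φ_inj hg _ _ (dg_lt _ _) (dg_lt _ _) h3
  have h6 := repack_congr h5
  have h7 : J.tab i = J.tab j := by
    rw [← Nat.eq_of_beq_eq_true ((allBelow_iff _ _).1 J.hpack i i.isLt), h6,
      Nat.eq_of_beq_eq_true ((allBelow_iff _ _).1 J.hpack j j.isLt)]
  apply Fin.ext
  have h8 := Nat.eq_of_beq_eq_true ((allBelow_iff _ _).1 J.hfind i i.isLt)
  have h9 := Nat.eq_of_beq_eq_true ((allBelow_iff _ _).1 J.hfind j j.isLt)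
  rw [h7] at h8
  omega

end vec

section rep

variable [Fintype F]

/-- The property of preserving the table of vectors up to scalars. -/
def Stab (ω : F) (g : GL F9 F) : Prop :=
  ∀ i : Fin n, ∃ (j : Fin n) (c : F), c ≠ 0 ∧ (g.1 *ᵥ vec J ω i) = c • vec J ω j

theorem stab_mul {g h : GL F9 F} (h1 : Stab J ω g) (h2 : Stab J ω h) : Stab J ω (g * h) := by
  intro i
  obtain ⟨j, c, hc, e⟩ := h2 i
  obtain ⟨k, c', hc', e'⟩ := h1 j
  refine ⟨k, c' * c, mul_ne_zero hc' hc, ?_⟩
  show ((g.1 * h.1) *ᵥ _) = _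
  rw [← Matrix.mulVec_mulVec, e, Matrix.mulVec_smul, e', smul_smul, mul_comm]

theorem stab_one : Stab J ω 1 := fun i => ⟨i, 1, one_ne_zero, by
  show ((1 : Matrix F9 F9 F) *ᵥ _) = _
  rw [Matrix.one_mulVec, one_smul]⟩

theorem stab_of_closure (hg : Good ω) : ∀ g ∈ threeJ3 F ω, Stab J ω g := by
  intro g hg'
  induction hg' using Subgroup.closure_induction with
  | mem x hx =>
    obtain ⟨k, hk, e⟩ := exists_gen_k J hx
    intro i
    obtain ⟨hj, c, hc, e2⟩ := img_k J hg (lt_of_lt_of_le hk J.h43) i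
    refine ⟨⟨_, hj⟩, c, hc, ?_⟩
    rw [e]
    exact e2
  | one => exact stab_one J
  | mul a b _ _ ha hb => exact stab_mul J ha hb
  | inv a _ ha =>
    have h1 : ∀ x ∈ {x : GL F9 F | Stab J ω x}, a * x ∈ {x : GL F9 F | Stab J ω x} := fun x hx => stab_mul J ha hx
    have h2 := stable_inv h1 1 (stab_one J)
    rw [mul_one] at h2
    exact h2

/-- The linear maps preserving the table of subspaces. -/
def GS (J : JTab n nG) (ω : F) : Subgroup (GL F9 F) where
  carrier := {g | Stab J ω g}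
  mul_mem' := fun ha hb => stab_mul J ha hb
  one_mem' := stab_one J
  inv_mem' := fun {a} ha => by
    have h1 : ∀ x ∈ {x : GL F9 F | Stab J ω x}, a * x ∈ {x : GL F9 F | Stab J ω x} := fun x hx => stab_mul J ha hx
    have h2 := stable_inv h1 1 (stab_one J)
    rw [mul_one] at h2
    exact h2

theorem three_le_GS (hg : Good ω) : threeJ3 F ω ≤ GS J ω := fun g hm => stab_of_closure J hg g hm

theorem exists_repS (hg : Good ω) : ∃ ρ : ↥(GS J ω) →* Equiv.Perm (Fin n),
    ∀ g i, ∃ c : F, c ≠ 0 ∧ (g.1.1 *ᵥ vec J ω i) = c • vec J ω (ρ g i) := by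
  have hs : ∀ (g : ↥(GS J ω)) (i : Fin n), ∃ (j : Fin n) (c : F), c ≠ 0 ∧ (g.1.1 *ᵥ vec J ω i) = c • vec J ω j :=
    fun g i => g.2 i
  choose f c hc hf using hs
  have huniq : ∀ (x : F9 → F) (i j : Fin n) (a b : F), a ≠ 0 → b ≠ 0 → x = a • vec J ω i → x = b • vec J ω j → i = j := by
    intro x i j a b ha hb h1 h2
    apply vec_inj J hg (c := a⁻¹ * b) _ (mul_ne_zero (inv_ne_zero ha) hb)
    have h3 : a • vec J ω i = b • vec J ω j := h1.symm.trans h2
    rw [mul_smul, ← h3, smul_smul, inv_mul_cancel₀ ha, one_smul]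
  have h1 : ∀ i, f 1 i = i := fun i => by
    refine huniq (vec J ω i) _ _ (c 1 i) 1 (hc _ _) one_ne_zero ?_ (one_smul _ _).symm
    rw [← hf]
    show vec J ω i = (1 : Matrix F9 F9 F) *ᵥ _
    rw [Matrix.one_mulVec]
  have h2 : ∀ g g' i, f (g * g') i = f g (f g' i) := fun g g' i => by
    refine huniq ((g * g').1.1 *ᵥ vec J ω i) _ _ (c (g * g') i) (c g (f g' i) * c g' i)
      (hc _ _) (mul_ne_zero (hc _ _) (hc _ _)) (hf _ _) ?_
    show (g.1.1 * g'.1.1) *ᵥ _ = _
    rw [← Matrix.mulVec_mulVec, hf g' i, Matrix.mulVec_smul, hf g (f g' i), smul_smul, mul_comm]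
  let f' : ↥(GS J ω) →* Function.End (Fin n) :=
    { toFun := fun g => f g
      map_one' := by
        funext i
        exact h1 i
      map_mul' := fun g g' => by
        funext i
        exact h2 g g' i }
  exact ⟨f'.toHomPerm, fun g i => ⟨c g i, hc g i, hf g i⟩⟩

/-- The representation on the table of subspaces. -/
noncomputable def repS (hg : Good ω) : ↥(GS J ω) →* Equiv.Perm (Fin n) := Classical.choose (exists_repS J hg)

theorem repS_spec (hg : Good ω) (g : ↥(GS J ω)) (i : Fin n) :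
    ∃ c : F, c ≠ 0 ∧ (g.1.1 *ᵥ vec J ω i) = c • vec J ω (repS J hg g i) :=
  Classical.choose_spec (exists_repS J hg) g i

theorem repS_eq (hg : Good ω) {g : ↥(GS J ω)} {i j : Fin n} {c : F} (hc : c ≠ 0)
    (h : g.1.1 *ᵥ vec J ω i = c • vec J ω j) : repS J hg g i = j := by
  obtain ⟨c', hc', e⟩ := repS_spec J hg g i
  rw [h] at e
  apply vec_inj J hg (c := c'⁻¹ * c) _ (mul_ne_zero (inv_ne_zero hc') hc)
  rw [mul_smul, e, smul_smul, inv_mul_cancel₀ hc', one_smul]

/-- The representation of the triple cover of the group. -/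
noncomputable def rep (hg : Good ω) : ↥(threeJ3 F ω) →* Equiv.Perm (Fin n) :=
  (repS J hg).comp (Subgroup.inclusion (three_le_GS J hg))

theorem rep_spec (hg : Good ω) (g : ↥(threeJ3 F ω)) (i : Fin n) :
    ∃ c : F, c ≠ 0 ∧ (g.1.1 *ᵥ vec J ω i) = c • vec J ω (rep J hg g i) :=
  repS_spec J hg (Subgroup.inclusion (three_le_GS J hg) g) i

theorem rep_eq (hg : Good ω) {g : ↥(threeJ3 F ω)} {i j : Fin n} {c : F} (hc : c ≠ 0)
    (h : g.1.1 *ᵥ vec J ω i = c • vec J ω j) : rep J hg g i = j :=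
  repS_eq J hg (g := Subgroup.inclusion (three_le_GS J hg) g) hc h

variable [NeZero n]

/-- The group acting on the table of subspaces. -/
def B₀ (J : JTab n nG) : Set (Equiv.Perm (Fin n)) := {σ | ∃ k, k < 43 ∧ (encFin n).IsCode σ (J.T k)}

/-- The group acting on the table of subspaces. -/
def H₀ (J : JTab n nG) : Subgroup (Equiv.Perm (Fin n)) := Subgroup.closure (B₀ J)

theorem perm_ext_of_code {σ τ : Equiv.Perm (Fin n)} {f : ℕ → ℕ} (h1 : (encFin n).IsCode σ f) (h2 : (encFin n).IsCode τ f) :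
    σ = τ := by
  ext a
  have h3 : f a = (σ a).val := h1 a
  have h4 : f a = (τ a).val := h2 a
  rw [← h3, ← h4]

theorem repS_code (hg : Good ω) {g : ↥(GS J ω)} {k : ℕ} (hk : k < nG) (h : g.1.1 = matK J ω k) :
    (encFin n).IsCode (repS J hg g) (J.T k) := by
  intro a
  obtain ⟨hj, c, hc, e⟩ := img_k J hg hk a
  have h2 := repS_eq J hg (g := g) (i := a) (j := ⟨_, hj⟩) hc (by rw [h]; exact e)
  show J.T k a = (repS J hg g a).val
  rw [h2]

theorem rep_code (hg : Good ω) {g : ↥(threeJ3 F ω)} {k : ℕ} (hk : k < nG) (h : g.1.1 = matK J ω k) :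
    (encFin n).IsCode (rep J hg g) (J.T k) :=
  repS_code J hg (g := Subgroup.inclusion (three_le_GS J hg) g) hk h

/-- A generator of the group or a further matrix, as a permutation. -/
theorem exists_code (hg : Good ω) {k : ℕ} (hk : k < nG) :
    ∃ σ ∈ (repS J hg).range, (encFin n).IsCode σ (J.T k) := by
  obtain ⟨g, e⟩ := exists_unit J hg hk
  have hs : g ∈ GS J ω := by
    intro i
    obtain ⟨hj, c, hc, e2⟩ := img_k J hg hk i
    refine ⟨⟨_, hj⟩, c, hc, ?_⟩
    rw [e]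
    exact e2
  exact ⟨_, ⟨⟨g, hs⟩, rfl⟩, repS_code J hg (g := ⟨g, hs⟩) hk e⟩

theorem range_rep (hg : Good ω) : (rep J hg).range = H₀ J := by
  have h1 : (⊤ : Subgroup ↥(threeJ3 F ω)) = Subgroup.closure
      (((↑) : ↥(threeJ3 F ω) → GL F9 F) ⁻¹' {g | (g : Matrix F9 F9 F) ∈ j3Gens F ω}) :=
    (Subgroup.closure_closure_coe_preimage).symm
  rw [MonoidHom.range_eq_map, h1, MonoidHom.map_closure]
  congr 1
  ext σ
  constructor
  · rintro ⟨g, hg', rfl⟩
    obtain ⟨k, hk, e⟩ := exists_gen_k J hg'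
    exact ⟨k, hk, rep_code J hg (lt_of_lt_of_le hk J.h43) e⟩
  · rintro ⟨k, hk, hσ⟩
    obtain ⟨g, e⟩ := exists_unit J hg (lt_of_lt_of_le hk J.h43)
    have hm : g ∈ threeJ3 F ω := Subgroup.subset_closure (by
      show g.1 ∈ j3Gens F ω
      rw [e]
      exact matK_mem J hk)
    refine ⟨⟨g, hm⟩, ?_, perm_ext_of_code (rep_code J hg (lt_of_lt_of_le hk J.h43) e) hσ⟩
    show g.1 ∈ j3Gens F ω
    rw [e]
    exact matK_mem J hk

/-! ### Invariants -/

/-- The invariant of two points: orthogonality. -/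
noncomputable def grJ (J : JTab n nG) (i j : ℕ) : ℕ := bcond (Nat.beq (hermC (J.tab i) (J.tab j)) 0) 0 1

include J in
theorem herm_of_closure (hg : Good ω) (g : GL F9 F) (hm : g ∈ threeJ3 F ω) (x y : F9 → F) :
    hermF (g.1 *ᵥ x) (g.1 *ᵥ y) = hermF x y := by
  induction hm using Subgroup.closure_induction generalizing x y with
  | mem a ha =>
    obtain ⟨k, hk, e⟩ := exists_gen_k J ha
    rw [e]
    exact hermF_mulVec hg (fun a b => unitary_k J hg (lt_of_lt_of_le hk J.h43) a b) x y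
  | one =>
    show hermF ((1 : Matrix F9 F9 F) *ᵥ x) ((1 : Matrix F9 F9 F) *ᵥ y) = _
    rw [Matrix.one_mulVec, Matrix.one_mulVec]
  | mul a b _ _ ha hb =>
    show hermF ((a.1 * b.1) *ᵥ x) ((a.1 * b.1) *ᵥ y) = _
    rw [← Matrix.mulVec_mulVec, ← Matrix.mulVec_mulVec, ha, hb]
  | inv a _ ha =>
    rw [← ha ((a⁻¹).1 *ᵥ x) ((a⁻¹).1 *ᵥ y), Matrix.mulVec_mulVec, Matrix.mulVec_mulVec]
    have h : a.1 * (a⁻¹).1 = 1 := Units.mul_inv a
    rw [h, Matrix.one_mulVec, Matrix.one_mulVec]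

theorem hermF_smul (a b : F) (x y : F9 → F) : hermF (a • x) (b • y) = a * b ^ 2 * hermF x y := by
  unfold hermF
  rw [Finset.mul_sum]
  refine Finset.sum_congr rfl fun z _ => ?_
  show (a * x z) * (b * y z) ^ 2 = _
  ring

theorem herm_zero_iff (hg : Good ω) (a b : ℕ) : hermC a b = 0 ↔ hermF (vecOf ω a) (vecOf ω b) = 0 := by
  rw [← φ_hermC hg]
  constructor
  · intro h
    rw [h]
    rfl
  · intro h
    by_contra h2
    exact φ_ne_zero hg _ (Nat.pos_of_ne_zero h2) (hermC_lt a b) h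

theorem coe_pt_J (i : ℕ) (hi : i < n) : ((encFin n).pt i : Fin n) = ⟨i, hi⟩ :=
  Fin.ext (by simp [encFin, Fin.ofNat, Nat.mod_eq_of_lt hi])

theorem grInv_rep (hg : Good ω) : GramInv (encFin n) (rep J hg).range (grJ J) := by
  rintro _ ⟨g, rfl⟩ i j hi hj
  have e1 : cdOf (encFin n) (rep J hg g) i = (rep J hg g ⟨i, hi⟩).val := by
    show ((rep J hg g) ((encFin n).pt i)).val = _
    rw [coe_pt_J i hi]
  have e2 : cdOf (encFin n) (rep J hg g) j = (rep J hg g ⟨j, hj⟩).val := by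
    show ((rep J hg g) ((encFin n).pt j)).val = _
    rw [coe_pt_J j hj]
  rw [e1, e2]
  obtain ⟨c, hc, h1⟩ := rep_spec J hg g ⟨i, hi⟩
  obtain ⟨c', hc', h2⟩ := rep_spec J hg g ⟨j, hj⟩
  have h3 := herm_of_closure J hg g.1 g.2 (vec J ω ⟨i, hi⟩) (vec J ω ⟨j, hj⟩)
  rw [h1, h2, hermF_smul] at h3
  have h4 : hermC (J.tab (rep J hg g ⟨i, hi⟩).val) (J.tab (rep J hg g ⟨j, hj⟩).val) = 0 ↔ hermC (J.tab i) (J.tab j) = 0 := by
    rw [herm_zero_iff hg, herm_zero_iff hg]
    show hermF (vec J ω (rep J hg g ⟨i, hi⟩)) (vec J ω (rep J hg g ⟨j, hj⟩)) = 0 ↔ hermF (vec J ω ⟨i, hi⟩) (vec J ω ⟨j, hj⟩) = 0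
    rw [← h3]
    constructor
    · intro h5
      rw [h5, mul_zero]
    · intro h5
      exact (mul_eq_zero.1 h5).resolve_left (mul_ne_zero hc (pow_ne_zero 2 hc'))
  unfold grJ
  by_cases h5 : hermC (J.tab i) (J.tab j) = 0
  · have h6 := h4.2 h5
    rw [h5, h6]
  · have h6 : ¬ hermC (J.tab (rep J hg g ⟨i, hi⟩).val) (J.tab (rep J hg g ⟨j, hj⟩).val) = 0 := fun h7 => h5 (h4.1 h7)
    have e3 : Nat.beq (hermC (J.tab i) (J.tab j)) 0 = false := by
      rw [Bool.eq_false_iff]
      exact fun h7 => h5 (Nat.eq_of_beq_eq_true h7)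
    have e4 : Nat.beq (hermC (J.tab (rep J hg g ⟨i, hi⟩).val) (J.tab (rep J hg g ⟨j, hj⟩).val)) 0 = false := by
      rw [Bool.eq_false_iff]
      exact fun h7 => h6 (Nat.eq_of_beq_eq_true h7)
    rw [e3, e4]

/-! ### Fixing a base -/

/-- A base of the group: the points of the table for the vectors of the standard basis and a vector with no
coordinate zero. -/
structure BaseOK (J : JTab n nG) (bl : List ℕ) where
  /-- The points of the vectors of the standard basis. -/
  eb : ℕ → ℕ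
  /-- The point of a vector with no coordinate zero. -/
  v0 : ℕ
  hlt : ∀ b ∈ bl, b < n
  hmem : ∀ k, k < 9 → eb k ∈ bl
  hv0 : v0 ∈ bl
  hE : allBelow (fun k => allBelow (fun m => Nat.beq (dg (J.tab (eb k)) m) (bcond (Nat.beq m k) 1 0)) 9) 9 = true
  hV : allBelow (fun m => Nat.blt 0 (dg (J.tab v0) m)) 9 = true

theorem scalar_of_fix (hg : Good ω) {bl : List ℕ} (hb : BaseOK J bl) (g : ↥(GS J ω))
    (hfix : ∀ b (h : b < n), b ∈ bl → repS J hg g ⟨b, h⟩ = ⟨b, h⟩) :
    ∃ c : F, c ≠ 0 ∧ g.1.1 = c • (1 : Matrix F9 F9 F) := by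
  classical
  have h0 : ∀ k, k < 9 → ∀ m, m < 9 → dg (J.tab (hb.eb k)) m = bcond (Nat.beq m k) 1 0 := by
    intro k hk m hm
    exact Nat.eq_of_beq_eq_true ((allBelow_iff _ _).1 ((allBelow_iff _ _).1 hb.hE k hk) m hm)
  have hcol : ∀ z : F9, ∃ c : F, c ≠ 0 ∧ ∀ w, g.1.1 w z = c * (if w = z then 1 else 0) := by
    intro z
    have hl := hb.hlt _ (hb.hmem (zi z) (zi_lt z))
    have hm := hb.hmem (zi z) (zi_lt z)
    obtain ⟨c, hc, e⟩ := repS_spec J hg g ⟨_, hl⟩
    rw [hfix _ hl hm] at e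
    have hv : vec J ω ⟨_, hl⟩ = fun w => if w = z then 1 else 0 := by
      funext w
      show φ ω (dg (J.tab (hb.eb (zi z))) (zi w)) = _
      rw [h0 _ (zi_lt z) _ (zi_lt w)]
      by_cases hw : w = z
      · subst hw
        rw [if_pos rfl, Nat.beq_refl]
        rfl
      · have : Nat.beq (zi w) (zi z) = false := by
          rw [Bool.eq_false_iff]
          exact fun h7 => hw (zi_inj _ _ (Nat.eq_of_beq_eq_true h7))
        rw [if_neg hw, this]
        rfl
    refine ⟨c, hc, fun w => ?_⟩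
    have h3 := congrFun e w
    rw [hv] at h3
    have h4 : (g.1.1 *ᵥ fun w => if w = z then (1 : F) else 0) w = g.1.1 w z := by
      show ∑ a, g.1.1 w a * (if a = z then (1 : F) else 0) = _
      simp
    rw [h4] at h3
    exact h3
  choose c hc hcw using hcol
  have hv0 := hb.hlt _ hb.hv0
  obtain ⟨c₀, hc₀, e⟩ := repS_spec J hg g ⟨_, hv0⟩
  rw [hfix _ hv0 hb.hv0] at e
  have hnz : ∀ w : F9, vec J ω ⟨_, hv0⟩ w ≠ 0 := by
    intro w
    have h1 := (allBelow_iff _ _).1 hb.hV (zi w) (zi_lt w)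
    have h2 : 0 < dg (J.tab hb.v0) (zi w) := by simpa [Nat.blt_eq] using h1
    exact φ_ne_zero hg _ h2 (dg_lt _ _)
  have hcc : ∀ w, c w = c₀ := by
    intro w
    have h3 := congrFun e w
    have h4 : (g.1.1 *ᵥ vec J ω ⟨_, hv0⟩) w = c w * vec J ω ⟨_, hv0⟩ w := by
      show ∑ a, g.1.1 w a * vec J ω ⟨_, hv0⟩ a = _
      rw [Finset.sum_eq_single w]
      · rw [hcw w w, if_pos rfl, mul_one]
      · intro a _ ha
        rw [hcw a w, if_neg (Ne.symm ha), mul_zero, zero_mul]
      · intro h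
        exact absurd (Finset.mem_univ w) h
    rw [h4] at h3
    exact mul_right_cancel₀ (hnz w) h3
  refine ⟨c₀, hc₀, ?_⟩
  ext w z
  rw [hcw z w, hcc z, Matrix.smul_apply, Matrix.one_apply]
  rfl

theorem repS_eq_one_of_scalar (hg : Good ω) {g : ↥(GS J ω)} {c : F} (hc : c ≠ 0)
    (h : g.1.1 = c • (1 : Matrix F9 F9 F)) : repS J hg g = 1 := by
  ext i
  have h1 : repS J hg g i = i := repS_eq J hg hc (by
    rw [h, Matrix.smul_mulVec, Matrix.one_mulVec])
  rw [h1]
  rfl

theorem based_repS (hg : Good ω) {bl : List ℕ} (hb : BaseOK J bl) : Based (encFin n) (repS J hg).range bl := by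
  rintro _ ⟨g, rfl⟩ hfix
  obtain ⟨c, hc, h⟩ := scalar_of_fix J hg hb g (by
    intro b hlt hm
    have h2 := hfix b hm
    rwa [coe_pt_J b hlt] at h2)
  exact repS_eq_one_of_scalar J hg hc h

theorem H₀_le_range (hg : Good ω) : H₀ J ≤ (repS J hg).range := by
  rw [← range_rep J hg]
  rintro _ ⟨g, rfl⟩
  exact ⟨Subgroup.inclusion (three_le_GS J hg) g, rfl⟩

theorem ker_le_center_rep (hg : Good ω) {bl : List ℕ} (hb : BaseOK J bl) :
    (rep J hg).ker ≤ Subgroup.center ↥(threeJ3 F ω) := by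
  intro g hg1
  have hg1' : rep J hg g = 1 := hg1
  obtain ⟨c, hc, h⟩ := scalar_of_fix J hg hb (Subgroup.inclusion (three_le_GS J hg) g) (by
    intro b hlt _
    show rep J hg g _ = _
    rw [hg1']
    rfl)
  have h' : g.1.1 = c • (1 : Matrix F9 F9 F) := h
  rw [Subgroup.mem_center_iff]
  intro k
  apply Subtype.ext
  apply Units.ext
  show k.1.1 * g.1.1 = g.1.1 * k.1.1
  rw [h']
  simp

/-- The isomorphism of the Janko group with the group acting on the table of subspaces. -/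
theorem center_eq_ker (hg : Good ω) {bl : List ℕ} (hb : BaseOK J bl)
    (hz : ∀ x : ↥(H₀ J), (∀ y : ↥(H₀ J), x * y = y * x) → x = 1) :
    Subgroup.center ↥(threeJ3 F ω) = (rep J hg).ker := by
  apply le_antisymm
  · intro g hg'
    rw [MonoidHom.mem_ker]
    have hm : rep J hg g ∈ H₀ J := by
      rw [← range_rep J hg]
      exact ⟨g, rfl⟩
    have h1 : (⟨rep J hg g, hm⟩ : ↥(H₀ J)) = 1 := by
      apply hz
      rintro ⟨y, hy⟩
      rw [← range_rep J hg] at hy
      obtain ⟨k, rfl⟩ := hy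
      apply Subtype.ext
      show rep J hg g * rep J hg k = rep J hg k * rep J hg g
      rw [← map_mul, ← map_mul, (Subgroup.mem_center_iff.1 hg' k).symm]
    exact congrArg Subtype.val h1
  · exact ker_le_center_rep J hg hb

/-- The Janko group is isomorphic to the group acting on the table of subspaces. -/
noncomputable def equivJ3 (hg : Good ω) {bl : List ℕ} (hb : BaseOK J bl)
    (hz : ∀ x : ↥(H₀ J), (∀ y : ↥(H₀ J), x * y = y * x) → x = 1) : J3 F ω ≃* ↥(H₀ J) :=
  (QuotientGroup.quotientMulEquivOfEq (center_eq_ker J hg hb hz)).trans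
    ((QuotientGroup.quotientKerEquivRange (rep J hg)).trans (MulEquiv.subgroupCongr (range_rep J hg)))

end rep

end field

/-- A field with four elements with a primitive cube root of unity. -/
theorem good_of_card {F : Type*} [Field F] [Fintype F] (hF : Fintype.card F = 4) {ω : F} (hω : ω ^ 2 + ω + 1 = 0) :
    Good ω := by
  refine ⟨?_, hω⟩
  obtain ⟨p, hp⟩ := CharP.exists F
  obtain ⟨m, hp1, hm⟩ := FiniteField.card F p
  rw [hF] at hm
  have h2 : p ∣ 4 := by
    rw [hm]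
    exact dvd_pow_self p m.2.ne'
  have hp2 : p = 2 := by
    have h3 : p ∣ 2 ^ 2 := by simpa using h2
    exact (Nat.prime_dvd_prime_iff_eq hp1 Nat.prime_two).1 (hp1.dvd_of_dvd_pow h3)
  subst hp2
  have := CharTwo.add_self_eq_zero (1 : F)
  exact this

/-- A field with four elements exists. -/
theorem exists_model : ∃ (F : Type) (_ : Field F) (_ : Fintype F) (ω : F), Good ω := by
  classical
  have : Fact (Nat.Prime 2) := ⟨Nat.prime_two⟩
  let F := GaloisField 2 2
  letI : Fintype F := Fintype.ofFinite F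
  have hc : Fintype.card F = 4 := by
    have h := GaloisField.card 2 2 (by norm_num)
    rw [Nat.card_eq_fintype_card] at h
    rw [h]
    norm_num
  obtain ⟨x, hx⟩ : ∃ x : F, x ∉ ({0, 1} : Finset F) := by
    by_contra h
    have h1 : (Finset.univ : Finset F) ⊆ {0, 1} := fun a _ => by_contra fun ha => h ⟨a, ha⟩
    have h2 := Finset.card_le_card h1
    rw [Finset.card_univ, hc] at h2
    have h3 : ({0, 1} : Finset F).card ≤ 2 := Finset.card_le_two
    omega
  have hx0 : x ≠ 0 := fun h => hx (by simp [h])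
  have hx1 : x ≠ 1 := fun h => hx (by simp [h])
  have h3 : x ^ 3 = 1 := by
    have h := FiniteField.pow_card_sub_one_eq_one x hx0
    rw [hc] at h
    exact h
  have h4 : x ^ 2 + x + 1 = 0 := by
    have h5 : (x - 1) * (x ^ 2 + x + 1) = 0 := by linear_combination h3
    exact (mul_eq_zero.1 h5).resolve_left (sub_ne_zero.2 hx1)
  exact ⟨F, inferInstance, inferInstance, x, good_of_card hc h4⟩

end Cfsg.Agent.Lib.KnownSimple.J3
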