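import Cfsg.Agent.Lib.KnownSimple.J3.Gens

/-!
# The Janko group: the Schreier generators at the top of the chain
-/

set_option autoImplicit false

namespace Cfsg.Agent.Lib.KnownSimple.J3

open Cfsg Cfsg.Spor Cfsg.Agent.Lib.Compute Cfsg.Agent.Lib.KnownSimple.PE Cfsg.Agent.Lib.KnownSimple.Leech
open Cfsg.Agent.Lib.KnownSimple Cfsg.Agent.Lib.KnownSimple.AutRigid
open Cfsg.Agent.Lib.KnownSimple.J3Data

set_option maxRecDepth 100000 in
theorem sch0_30 : chunk (schG N L0 chTail0 2) 323 30 = true := by decide +kernel
set_option maxRecDepth 100000 in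
theorem sch0_31 : chunk (schG N L0 chTail0 2) 323 31 = true := by decide +kernel
set_option maxRecDepth 100000 in
theorem sch0_32 : chunk (schG N L0 chTail0 2) 323 32 = true := by decide +kernel
set_option maxRecDepth 100000 in
theorem sch0_33 : chunk (schG N L0 chTail0 2) 323 33 = true := by decide +kernel
set_option maxRecDepth 100000 in
theorem sch0_34 : chunk (schG N L0 chTail0 2) 323 34 = true := by decide +kernel
set_option maxRecDepth 100000 in
theorem sch0_35 : chunk (schG N L0 chTail0 2) 323 35 = true := by decide +kernel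

end Cfsg.Agent.Lib.KnownSimple.J3
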