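import Cfsg.Agent.Lib.KnownSimple.J3.TauD

/-!
# The Janko group: the outer automorphism acts on generators
-/

set_option autoImplicit false

namespace Cfsg.Agent.Lib.KnownSimple.J3

open Cfsg Cfsg.Spor Cfsg.Agent.Lib.Compute Cfsg.Agent.Lib.KnownSimple.PE Cfsg.Agent.Lib.KnownSimple.Leech
open Cfsg.Agent.Lib.KnownSimple Cfsg.Agent.Lib.KnownSimple.AutRigid
open Cfsg.Agent.Lib.KnownSimple.J3Data

set_option maxRecDepth 100000 in
theorem cF1_0 : chunk (gF 1 1 1) 2584 0 = true := by decide +kernel
set_option maxRecDepth 100000 in
theorem cF1_1 : chunk (gF 1 1 1) 2584 1 = true := by decide +kernel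
set_option maxRecDepth 100000 in
theorem cF1_2 : chunk (gF 1 1 1) 2584 2 = true := by decide +kernel
set_option maxRecDepth 100000 in
theorem cF1_3 : chunk (gF 1 1 1) 2584 3 = true := by decide +kernel
set_option maxRecDepth 100000 in
theorem cF1_4 : chunk (gF 1 1 1) 2584 4 = true := by decide +kernel
set_option maxRecDepth 100000 in
theorem cF1_5 : chunk (gF 1 1 1) 2584 5 = true := by decide +kernel
set_option maxRecDepth 100000 in
theorem cF1_6 : chunk (gF 1 1 1) 2584 6 = true := by decide +kernel
set_option maxRecDepth 100000 in
theorem cF1_7 : chunk (gF 1 1 1) 2584 7 = true := by decide +kernel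
set_option maxRecDepth 100000 in
theorem cF1_8 : chunk (gF 1 1 1) 2584 8 = true := by decide +kernel
theorem hF1 : allBelow (gF 1 1 1) (9 * 2584) = true := allBelow_of_chunks (fun c hc => by
    interval_cases c
    · exact cF1_0
    · exact cF1_1
    · exact cF1_2
    · exact cF1_3
    · exact cF1_4
    · exact cF1_5
    · exact cF1_6
    · exact cF1_7
    · exact cF1_8
  )
set_option maxRecDepth 100000 in
theorem cF3_0 : chunk (gF 3 6 1) 2584 0 = true := by decide +kernel
set_option maxRecDepth 100000 in
theorem cF3_1 : chunk (gF 3 6 1) 2584 1 = true := by decide +kernel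
set_option maxRecDepth 100000 in
theorem cF3_2 : chunk (gF 3 6 1) 2584 2 = true := by decide +kernel
set_option maxRecDepth 100000 in
theorem cF3_3 : chunk (gF 3 6 1) 2584 3 = true := by decide +kernel
set_option maxRecDepth 100000 in
theorem cF3_4 : chunk (gF 3 6 1) 2584 4 = true := by decide +kernel
set_option maxRecDepth 100000 in
theorem cF3_5 : chunk (gF 3 6 1) 2584 5 = true := by decide +kernel
set_option maxRecDepth 100000 in
theorem cF3_6 : chunk (gF 3 6 1) 2584 6 = true := by decide +kernel
set_option maxRecDepth 100000 in
theorem cF3_7 : chunk (gF 3 6 1) 2584 7 = true := by decide +kernel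
set_option maxRecDepth 100000 in
theorem cF3_8 : chunk (gF 3 6 1) 2584 8 = true := by decide +kernel
theorem hF3 : allBelow (gF 3 6 1) (9 * 2584) = true := allBelow_of_chunks (fun c hc => by
    interval_cases c
    · exact cF3_0
    · exact cF3_1
    · exact cF3_2
    · exact cF3_3
    · exact cF3_4
    · exact cF3_5
    · exact cF3_6
    · exact cF3_7
    · exact cF3_8
  )
set_option maxRecDepth 100000 in
theorem cF5_0 : chunk (gF 5 8 1) 2584 0 = true := by decide +kernel
set_option maxRecDepth 100000 in
theorem cF5_1 : chunk (gF 5 8 1) 2584 1 = true := by decide +kernel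
set_option maxRecDepth 100000 in
theorem cF5_2 : chunk (gF 5 8 1) 2584 2 = true := by decide +kernel
set_option maxRecDepth 100000 in
theorem cF5_3 : chunk (gF 5 8 1) 2584 3 = true := by decide +kernel
set_option maxRecDepth 100000 in
theorem cF5_4 : chunk (gF 5 8 1) 2584 4 = true := by decide +kernel
set_option maxRecDepth 100000 in
theorem cF5_5 : chunk (gF 5 8 1) 2584 5 = true := by decide +kernel
set_option maxRecDepth 100000 in
theorem cF5_6 : chunk (gF 5 8 1) 2584 6 = true := by decide +kernel
set_option maxRecDepth 100000 in
theorem cF5_7 : chunk (gF 5 8 1) 2584 7 = true := by decide +kernel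
set_option maxRecDepth 100000 in
theorem cF5_8 : chunk (gF 5 8 1) 2584 8 = true := by decide +kernel
theorem hF5 : allBelow (gF 5 8 1) (9 * 2584) = true := allBelow_of_chunks (fun c hc => by
    interval_cases c
    · exact cF5_0
    · exact cF5_1
    · exact cF5_2
    · exact cF5_3
    · exact cF5_4
    · exact cF5_5
    · exact cF5_6
    · exact cF5_7
    · exact cF5_8
  )
set_option maxRecDepth 100000 in
theorem cF7_0 : chunk (gF 7 4 1) 2584 0 = true := by decide +kernel
set_option maxRecDepth 100000 in
theorem cF7_1 : chunk (gF 7 4 1) 2584 1 = true := by decide +kernel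
set_option maxRecDepth 100000 in
theorem cF7_2 : chunk (gF 7 4 1) 2584 2 = true := by decide +kernel
set_option maxRecDepth 100000 in
theorem cF7_3 : chunk (gF 7 4 1) 2584 3 = true := by decide +kernel
set_option maxRecDepth 100000 in
theorem cF7_4 : chunk (gF 7 4 1) 2584 4 = true := by decide +kernel
set_option maxRecDepth 100000 in
theorem cF7_5 : chunk (gF 7 4 1) 2584 5 = true := by decide +kernel
set_option maxRecDepth 100000 in
theorem cF7_6 : chunk (gF 7 4 1) 2584 6 = true := by decide +kernel
set_option maxRecDepth 100000 in
theorem cF7_7 : chunk (gF 7 4 1) 2584 7 = true := by decide +kernel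
set_option maxRecDepth 100000 in
theorem cF7_8 : chunk (gF 7 4 1) 2584 8 = true := by decide +kernel
theorem hF7 : allBelow (gF 7 4 1) (9 * 2584) = true := allBelow_of_chunks (fun c hc => by
    interval_cases c
    · exact cF7_0
    · exact cF7_1
    · exact cF7_2
    · exact cF7_3
    · exact cF7_4
    · exact cF7_5
    · exact cF7_6
    · exact cF7_7
    · exact cF7_8
  )
set_option maxRecDepth 100000 in
theorem cF9_0 : chunk (gF 9 9 2) 2584 0 = true := by decide +kernel
set_option maxRecDepth 100000 in
theorem cF9_1 : chunk (gF 9 9 2) 2584 1 = true := by decide +kernel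
set_option maxRecDepth 100000 in
theorem cF9_2 : chunk (gF 9 9 2) 2584 2 = true := by decide +kernel
set_option maxRecDepth 100000 in
theorem cF9_3 : chunk (gF 9 9 2) 2584 3 = true := by decide +kernel
set_option maxRecDepth 100000 in
theorem cF9_4 : chunk (gF 9 9 2) 2584 4 = true := by decide +kernel
set_option maxRecDepth 100000 in
theorem cF9_5 : chunk (gF 9 9 2) 2584 5 = true := by decide +kernel
set_option maxRecDepth 100000 in
theorem cF9_6 : chunk (gF 9 9 2) 2584 6 = true := by decide +kernel
set_option maxRecDepth 100000 in
theorem cF9_7 : chunk (gF 9 9 2) 2584 7 = true := by decide +kernel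
set_option maxRecDepth 100000 in
theorem cF9_8 : chunk (gF 9 9 2) 2584 8 = true := by decide +kernel
theorem hF9 : allBelow (gF 9 9 2) (9 * 2584) = true := allBelow_of_chunks (fun c hc => by
    interval_cases c
    · exact cF9_0
    · exact cF9_1
    · exact cF9_2
    · exact cF9_3
    · exact cF9_4
    · exact cF9_5
    · exact cF9_6
    · exact cF9_7
    · exact cF9_8
  )
set_option maxRecDepth 100000 in
theorem cF11_0 : chunk (gF 11 10 2) 2584 0 = true := by decide +kernel
set_option maxRecDepth 100000 in
theorem cF11_1 : chunk (gF 11 10 2) 2584 1 = true := by decide +kernel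
set_option maxRecDepth 100000 in
theorem cF11_2 : chunk (gF 11 10 2) 2584 2 = true := by decide +kernel
set_option maxRecDepth 100000 in
theorem cF11_3 : chunk (gF 11 10 2) 2584 3 = true := by decide +kernel
set_option maxRecDepth 100000 in
theorem cF11_4 : chunk (gF 11 10 2) 2584 4 = true := by decide +kernel
set_option maxRecDepth 100000 in
theorem cF11_5 : chunk (gF 11 10 2) 2584 5 = true := by decide +kernel
set_option maxRecDepth 100000 in
theorem cF11_6 : chunk (gF 11 10 2) 2584 6 = true := by decide +kernel
set_option maxRecDepth 100000 in
theorem cF11_7 : chunk (gF 11 10 2) 2584 7 = true := by decide +kernel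
set_option maxRecDepth 100000 in
theorem cF11_8 : chunk (gF 11 10 2) 2584 8 = true := by decide +kernel
theorem hF11 : allBelow (gF 11 10 2) (9 * 2584) = true := allBelow_of_chunks (fun c hc => by
    interval_cases c
    · exact cF11_0
    · exact cF11_1
    · exact cF11_2
    · exact cF11_3
    · exact cF11_4
    · exact cF11_5
    · exact cF11_6
    · exact cF11_7
    · exact cF11_8
  )
set_option maxRecDepth 100000 in
theorem cF13_0 : chunk (gF 13 14 2) 2584 0 = true := by decide +kernel
set_option maxRecDepth 100000 in
theorem cF13_1 : chunk (gF 13 14 2) 2584 1 = true := by decide +kernel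
set_option maxRecDepth 100000 in
theorem cF13_2 : chunk (gF 13 14 2) 2584 2 = true := by decide +kernel
set_option maxRecDepth 100000 in
theorem cF13_3 : chunk (gF 13 14 2) 2584 3 = true := by decide +kernel
set_option maxRecDepth 100000 in
theorem cF13_4 : chunk (gF 13 14 2) 2584 4 = true := by decide +kernel
set_option maxRecDepth 100000 in
theorem cF13_5 : chunk (gF 13 14 2) 2584 5 = true := by decide +kernel
set_option maxRecDepth 100000 in
theorem cF13_6 : chunk (gF 13 14 2) 2584 6 = true := by decide +kernel
set_option maxRecDepth 100000 in
theorem cF13_7 : chunk (gF 13 14 2) 2584 7 = true := by decide +kernel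
set_option maxRecDepth 100000 in
theorem cF13_8 : chunk (gF 13 14 2) 2584 8 = true := by decide +kernel
theorem hF13 : allBelow (gF 13 14 2) (9 * 2584) = true := allBelow_of_chunks (fun c hc => by
    interval_cases c
    · exact cF13_0
    · exact cF13_1
    · exact cF13_2
    · exact cF13_3
    · exact cF13_4
    · exact cF13_5
    · exact cF13_6
    · exact cF13_7
    · exact cF13_8
  )
set_option maxRecDepth 100000 in
theorem cF15_0 : chunk (gF 15 15 2) 2584 0 = true := by decide +kernel
set_option maxRecDepth 100000 in
theorem cF15_1 : chunk (gF 15 15 2) 2584 1 = true := by decide +kernel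
set_option maxRecDepth 100000 in
theorem cF15_2 : chunk (gF 15 15 2) 2584 2 = true := by decide +kernel
set_option maxRecDepth 100000 in
theorem cF15_3 : chunk (gF 15 15 2) 2584 3 = true := by decide +kernel
set_option maxRecDepth 100000 in
theorem cF15_4 : chunk (gF 15 15 2) 2584 4 = true := by decide +kernel
set_option maxRecDepth 100000 in
theorem cF15_5 : chunk (gF 15 15 2) 2584 5 = true := by decide +kernel
set_option maxRecDepth 100000 in
theorem cF15_6 : chunk (gF 15 15 2) 2584 6 = true := by decide +kernel
set_option maxRecDepth 100000 in
theorem cF15_7 : chunk (gF 15 15 2) 2584 7 = true := by decide +kernel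
set_option maxRecDepth 100000 in
theorem cF15_8 : chunk (gF 15 15 2) 2584 8 = true := by decide +kernel
theorem hF15 : allBelow (gF 15 15 2) (9 * 2584) = true := allBelow_of_chunks (fun c hc => by
    interval_cases c
    · exact cF15_0
    · exact cF15_1
    · exact cF15_2
    · exact cF15_3
    · exact cF15_4
    · exact cF15_5
    · exact cF15_6
    · exact cF15_7
    · exact cF15_8
  )
set_option maxRecDepth 100000 in
theorem cF17_0 : chunk (gF 17 16 2) 2584 0 = true := by decide +kernel
set_option maxRecDepth 100000 in
theorem cF17_1 : chunk (gF 17 16 2) 2584 1 = true := by decide +kernel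
set_option maxRecDepth 100000 in
theorem cF17_2 : chunk (gF 17 16 2) 2584 2 = true := by decide +kernel
set_option maxRecDepth 100000 in
theorem cF17_3 : chunk (gF 17 16 2) 2584 3 = true := by decide +kernel
set_option maxRecDepth 100000 in
theorem cF17_4 : chunk (gF 17 16 2) 2584 4 = true := by decide +kernel
set_option maxRecDepth 100000 in
theorem cF17_5 : chunk (gF 17 16 2) 2584 5 = true := by decide +kernel
set_option maxRecDepth 100000 in
theorem cF17_6 : chunk (gF 17 16 2) 2584 6 = true := by decide +kernel
set_option maxRecDepth 100000 in
theorem cF17_7 : chunk (gF 17 16 2) 2584 7 = true := by decide +kernel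
set_option maxRecDepth 100000 in
theorem cF17_8 : chunk (gF 17 16 2) 2584 8 = true := by decide +kernel
theorem hF17 : allBelow (gF 17 16 2) (9 * 2584) = true := allBelow_of_chunks (fun c hc => by
    interval_cases c
    · exact cF17_0
    · exact cF17_1
    · exact cF17_2
    · exact cF17_3
    · exact cF17_4
    · exact cF17_5
    · exact cF17_6
    · exact cF17_7
    · exact cF17_8
  )
set_option maxRecDepth 100000 in
theorem cF19_0 : chunk (gF 19 20 1) 2584 0 = true := by decide +kernel
set_option maxRecDepth 100000 in
theorem cF19_1 : chunk (gF 19 20 1) 2584 1 = true := by decide +kernel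
set_option maxRecDepth 100000 in
theorem cF19_2 : chunk (gF 19 20 1) 2584 2 = true := by decide +kernel
set_option maxRecDepth 100000 in
theorem cF19_3 : chunk (gF 19 20 1) 2584 3 = true := by decide +kernel
set_option maxRecDepth 100000 in
theorem cF19_4 : chunk (gF 19 20 1) 2584 4 = true := by decide +kernel
set_option maxRecDepth 100000 in
theorem cF19_5 : chunk (gF 19 20 1) 2584 5 = true := by decide +kernel
set_option maxRecDepth 100000 in
theorem cF19_6 : chunk (gF 19 20 1) 2584 6 = true := by decide +kernel
set_option maxRecDepth 100000 in
theorem cF19_7 : chunk (gF 19 20 1) 2584 7 = true := by decide +kernel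
set_option maxRecDepth 100000 in
theorem cF19_8 : chunk (gF 19 20 1) 2584 8 = true := by decide +kernel
theorem hF19 : allBelow (gF 19 20 1) (9 * 2584) = true := allBelow_of_chunks (fun c hc => by
    interval_cases c
    · exact cF19_0
    · exact cF19_1
    · exact cF19_2
    · exact cF19_3
    · exact cF19_4
    · exact cF19_5
    · exact cF19_6
    · exact cF19_7
    · exact cF19_8
  )
set_option maxRecDepth 100000 in
theorem cF21_0 : chunk (gF 21 21 1) 2584 0 = true := by decide +kernel
set_option maxRecDepth 100000 in
theorem cF21_1 : chunk (gF 21 21 1) 2584 1 = true := by decide +kernel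
set_option maxRecDepth 100000 in
theorem cF21_2 : chunk (gF 21 21 1) 2584 2 = true := by decide +kernel
set_option maxRecDepth 100000 in
theorem cF21_3 : chunk (gF 21 21 1) 2584 3 = true := by decide +kernel
set_option maxRecDepth 100000 in
theorem cF21_4 : chunk (gF 21 21 1) 2584 4 = true := by decide +kernel
set_option maxRecDepth 100000 in
theorem cF21_5 : chunk (gF 21 21 1) 2584 5 = true := by decide +kernel
set_option maxRecDepth 100000 in
theorem cF21_6 : chunk (gF 21 21 1) 2584 6 = true := by decide +kernel
set_option maxRecDepth 100000 in
theorem cF21_7 : chunk (gF 21 21 1) 2584 7 = true := by decide +kernel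
set_option maxRecDepth 100000 in
theorem cF21_8 : chunk (gF 21 21 1) 2584 8 = true := by decide +kernel
theorem hF21 : allBelow (gF 21 21 1) (9 * 2584) = true := allBelow_of_chunks (fun c hc => by
    interval_cases c
    · exact cF21_0
    · exact cF21_1
    · exact cF21_2
    · exact cF21_3
    · exact cF21_4
    · exact cF21_5
    · exact cF21_6
    · exact cF21_7
    · exact cF21_8
  )
set_option maxRecDepth 100000 in
theorem cF23_0 : chunk (gF 23 22 1) 2584 0 = true := by decide +kernel
set_option maxRecDepth 100000 in
theorem cF23_1 : chunk (gF 23 22 1) 2584 1 = true := by decide +kernel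
set_option maxRecDepth 100000 in
theorem cF23_2 : chunk (gF 23 22 1) 2584 2 = true := by decide +kernel
set_option maxRecDepth 100000 in
theorem cF23_3 : chunk (gF 23 22 1) 2584 3 = true := by decide +kernel
set_option maxRecDepth 100000 in
theorem cF23_4 : chunk (gF 23 22 1) 2584 4 = true := by decide +kernel
set_option maxRecDepth 100000 in
theorem cF23_5 : chunk (gF 23 22 1) 2584 5 = true := by decide +kernel
set_option maxRecDepth 100000 in
theorem cF23_6 : chunk (gF 23 22 1) 2584 6 = true := by decide +kernel
set_option maxRecDepth 100000 in
theorem cF23_7 : chunk (gF 23 22 1) 2584 7 = true := by decide +kernel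
set_option maxRecDepth 100000 in
theorem cF23_8 : chunk (gF 23 22 1) 2584 8 = true := by decide +kernel
theorem hF23 : allBelow (gF 23 22 1) (9 * 2584) = true := allBelow_of_chunks (fun c hc => by
    interval_cases c
    · exact cF23_0
    · exact cF23_1
    · exact cF23_2
    · exact cF23_3
    · exact cF23_4
    · exact cF23_5
    · exact cF23_6
    · exact cF23_7
    · exact cF23_8
  )
set_option maxRecDepth 100000 in
theorem cF25_0 : chunk (gF 25 26 1) 2584 0 = true := by decide +kernel
set_option maxRecDepth 100000 in
theorem cF25_1 : chunk (gF 25 26 1) 2584 1 = true := by decide +kernel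
set_option maxRecDepth 100000 in
theorem cF25_2 : chunk (gF 25 26 1) 2584 2 = true := by decide +kernel
set_option maxRecDepth 100000 in
theorem cF25_3 : chunk (gF 25 26 1) 2584 3 = true := by decide +kernel
set_option maxRecDepth 100000 in
theorem cF25_4 : chunk (gF 25 26 1) 2584 4 = true := by decide +kernel
set_option maxRecDepth 100000 in
theorem cF25_5 : chunk (gF 25 26 1) 2584 5 = true := by decide +kernel
set_option maxRecDepth 100000 in
theorem cF25_6 : chunk (gF 25 26 1) 2584 6 = true := by decide +kernel
set_option maxRecDepth 100000 in
theorem cF25_7 : chunk (gF 25 26 1) 2584 7 = true := by decide +kernel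
set_option maxRecDepth 100000 in
theorem cF25_8 : chunk (gF 25 26 1) 2584 8 = true := by decide +kernel
theorem hF25 : allBelow (gF 25 26 1) (9 * 2584) = true := allBelow_of_chunks (fun c hc => by
    interval_cases c
    · exact cF25_0
    · exact cF25_1
    · exact cF25_2
    · exact cF25_3
    · exact cF25_4
    · exact cF25_5
    · exact cF25_6
    · exact cF25_7
    · exact cF25_8
  )
set_option maxRecDepth 100000 in
theorem cF27_0 : chunk (gF 27 28 1) 2584 0 = true := by decide +kernel
set_option maxRecDepth 100000 in
theorem cF27_1 : chunk (gF 27 28 1) 2584 1 = true := by decide +kernel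
set_option maxRecDepth 100000 in
theorem cF27_2 : chunk (gF 27 28 1) 2584 2 = true := by decide +kernel
set_option maxRecDepth 100000 in
theorem cF27_3 : chunk (gF 27 28 1) 2584 3 = true := by decide +kernel
set_option maxRecDepth 100000 in
theorem cF27_4 : chunk (gF 27 28 1) 2584 4 = true := by decide +kernel
set_option maxRecDepth 100000 in
theorem cF27_5 : chunk (gF 27 28 1) 2584 5 = true := by decide +kernel
set_option maxRecDepth 100000 in
theorem cF27_6 : chunk (gF 27 28 1) 2584 6 = true := by decide +kernel
set_option maxRecDepth 100000 in
theorem cF27_7 : chunk (gF 27 28 1) 2584 7 = true := by decide +kernel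
set_option maxRecDepth 100000 in
theorem cF27_8 : chunk (gF 27 28 1) 2584 8 = true := by decide +kernel
theorem hF27 : allBelow (gF 27 28 1) (9 * 2584) = true := allBelow_of_chunks (fun c hc => by
    interval_cases c
    · exact cF27_0
    · exact cF27_1
    · exact cF27_2
    · exact cF27_3
    · exact cF27_4
    · exact cF27_5
    · exact cF27_6
    · exact cF27_7
    · exact cF27_8
  )
set_option maxRecDepth 100000 in
theorem cF29_0 : chunk (gF 29 0 1) 2584 0 = true := by decide +kernel
set_option maxRecDepth 100000 in
theorem cF29_1 : chunk (gF 29 0 1) 2584 1 = true := by decide +kernel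
set_option maxRecDepth 100000 in
theorem cF29_2 : chunk (gF 29 0 1) 2584 2 = true := by decide +kernel
set_option maxRecDepth 100000 in
theorem cF29_3 : chunk (gF 29 0 1) 2584 3 = true := by decide +kernel
set_option maxRecDepth 100000 in
theorem cF29_4 : chunk (gF 29 0 1) 2584 4 = true := by decide +kernel
set_option maxRecDepth 100000 in
theorem cF29_5 : chunk (gF 29 0 1) 2584 5 = true := by decide +kernel
set_option maxRecDepth 100000 in
theorem cF29_6 : chunk (gF 29 0 1) 2584 6 = true := by decide +kernel
set_option maxRecDepth 100000 in
theorem cF29_7 : chunk (gF 29 0 1) 2584 7 = true := by decide +kernel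
set_option maxRecDepth 100000 in
theorem cF29_8 : chunk (gF 29 0 1) 2584 8 = true := by decide +kernel
theorem hF29 : allBelow (gF 29 0 1) (9 * 2584) = true := allBelow_of_chunks (fun c hc => by
    interval_cases c
    · exact cF29_0
    · exact cF29_1
    · exact cF29_2
    · exact cF29_3
    · exact cF29_4
    · exact cF29_5
    · exact cF29_6
    · exact cF29_7
    · exact cF29_8
  )
set_option maxRecDepth 100000 in
theorem cF31_0 : chunk (gF 31 30 1) 2584 0 = true := by decide +kernel
set_option maxRecDepth 100000 in
theorem cF31_1 : chunk (gF 31 30 1) 2584 1 = true := by decide +kernel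
set_option maxRecDepth 100000 in
theorem cF31_2 : chunk (gF 31 30 1) 2584 2 = true := by decide +kernel
set_option maxRecDepth 100000 in
theorem cF31_3 : chunk (gF 31 30 1) 2584 3 = true := by decide +kernel
set_option maxRecDepth 100000 in
theorem cF31_4 : chunk (gF 31 30 1) 2584 4 = true := by decide +kernel
set_option maxRecDepth 100000 in
theorem cF31_5 : chunk (gF 31 30 1) 2584 5 = true := by decide +kernel
set_option maxRecDepth 100000 in
theorem cF31_6 : chunk (gF 31 30 1) 2584 6 = true := by decide +kernel
set_option maxRecDepth 100000 in
theorem cF31_7 : chunk (gF 31 30 1) 2584 7 = true := by decide +kernel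
set_option maxRecDepth 100000 in
theorem cF31_8 : chunk (gF 31 30 1) 2584 8 = true := by decide +kernel
theorem hF31 : allBelow (gF 31 30 1) (9 * 2584) = true := allBelow_of_chunks (fun c hc => by
    interval_cases c
    · exact cF31_0
    · exact cF31_1
    · exact cF31_2
    · exact cF31_3
    · exact cF31_4
    · exact cF31_5
    · exact cF31_6
    · exact cF31_7
    · exact cF31_8
  )
set_option maxRecDepth 100000 in
theorem cF33_0 : chunk (gF 33 34 1) 2584 0 = true := by decide +kernel
set_option maxRecDepth 100000 in
theorem cF33_1 : chunk (gF 33 34 1) 2584 1 = true := by decide +kernel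
set_option maxRecDepth 100000 in
theorem cF33_2 : chunk (gF 33 34 1) 2584 2 = true := by decide +kernel
set_option maxRecDepth 100000 in
theorem cF33_3 : chunk (gF 33 34 1) 2584 3 = true := by decide +kernel
set_option maxRecDepth 100000 in
theorem cF33_4 : chunk (gF 33 34 1) 2584 4 = true := by decide +kernel
set_option maxRecDepth 100000 in
theorem cF33_5 : chunk (gF 33 34 1) 2584 5 = true := by decide +kernel
set_option maxRecDepth 100000 in
theorem cF33_6 : chunk (gF 33 34 1) 2584 6 = true := by decide +kernel
set_option maxRecDepth 100000 in
theorem cF33_7 : chunk (gF 33 34 1) 2584 7 = true := by decide +kernel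
set_option maxRecDepth 100000 in
theorem cF33_8 : chunk (gF 33 34 1) 2584 8 = true := by decide +kernel
theorem hF33 : allBelow (gF 33 34 1) (9 * 2584) = true := allBelow_of_chunks (fun c hc => by
    interval_cases c
    · exact cF33_0
    · exact cF33_1
    · exact cF33_2
    · exact cF33_3
    · exact cF33_4
    · exact cF33_5
    · exact cF33_6
    · exact cF33_7
    · exact cF33_8
  )
set_option maxRecDepth 100000 in
theorem cF35_0 : chunk (gF 35 36 1) 2584 0 = true := by decide +kernel
set_option maxRecDepth 100000 in
theorem cF35_1 : chunk (gF 35 36 1) 2584 1 = true := by decide +kernel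
set_option maxRecDepth 100000 in
theorem cF35_2 : chunk (gF 35 36 1) 2584 2 = true := by decide +kernel
set_option maxRecDepth 100000 in
theorem cF35_3 : chunk (gF 35 36 1) 2584 3 = true := by decide +kernel
set_option maxRecDepth 100000 in
theorem cF35_4 : chunk (gF 35 36 1) 2584 4 = true := by decide +kernel
set_option maxRecDepth 100000 in
theorem cF35_5 : chunk (gF 35 36 1) 2584 5 = true := by decide +kernel
set_option maxRecDepth 100000 in
theorem cF35_6 : chunk (gF 35 36 1) 2584 6 = true := by decide +kernel
set_option maxRecDepth 100000 in
theorem cF35_7 : chunk (gF 35 36 1) 2584 7 = true := by decide +kernel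
set_option maxRecDepth 100000 in
theorem cF35_8 : chunk (gF 35 36 1) 2584 8 = true := by decide +kernel
theorem hF35 : allBelow (gF 35 36 1) (9 * 2584) = true := allBelow_of_chunks (fun c hc => by
    interval_cases c
    · exact cF35_0
    · exact cF35_1
    · exact cF35_2
    · exact cF35_3
    · exact cF35_4
    · exact cF35_5
    · exact cF35_6
    · exact cF35_7
    · exact cF35_8
  )
set_option maxRecDepth 100000 in
theorem cF37_0 : chunk (gF 37 37 1) 2584 0 = true := by decide +kernel
set_option maxRecDepth 100000 in
theorem cF37_1 : chunk (gF 37 37 1) 2584 1 = true := by decide +kernel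
set_option maxRecDepth 100000 in
theorem cF37_2 : chunk (gF 37 37 1) 2584 2 = true := by decide +kernel
set_option maxRecDepth 100000 in
theorem cF37_3 : chunk (gF 37 37 1) 2584 3 = true := by decide +kernel
set_option maxRecDepth 100000 in
theorem cF37_4 : chunk (gF 37 37 1) 2584 4 = true := by decide +kernel
set_option maxRecDepth 100000 in
theorem cF37_5 : chunk (gF 37 37 1) 2584 5 = true := by decide +kernel
set_option maxRecDepth 100000 in
theorem cF37_6 : chunk (gF 37 37 1) 2584 6 = true := by decide +kernel
set_option maxRecDepth 100000 in
theorem cF37_7 : chunk (gF 37 37 1) 2584 7 = true := by decide +kernel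
set_option maxRecDepth 100000 in
theorem cF37_8 : chunk (gF 37 37 1) 2584 8 = true := by decide +kernel
theorem hF37 : allBelow (gF 37 37 1) (9 * 2584) = true := allBelow_of_chunks (fun c hc => by
    interval_cases c
    · exact cF37_0
    · exact cF37_1
    · exact cF37_2
    · exact cF37_3
    · exact cF37_4
    · exact cF37_5
    · exact cF37_6
    · exact cF37_7
    · exact cF37_8
  )
set_option maxRecDepth 100000 in
theorem cF39_0 : chunk (gF 39 38 1) 2584 0 = true := by decide +kernel
set_option maxRecDepth 100000 in
theorem cF39_1 : chunk (gF 39 38 1) 2584 1 = true := by decide +kernel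
set_option maxRecDepth 100000 in
theorem cF39_2 : chunk (gF 39 38 1) 2584 2 = true := by decide +kernel
set_option maxRecDepth 100000 in
theorem cF39_3 : chunk (gF 39 38 1) 2584 3 = true := by decide +kernel
set_option maxRecDepth 100000 in
theorem cF39_4 : chunk (gF 39 38 1) 2584 4 = true := by decide +kernel
set_option maxRecDepth 100000 in
theorem cF39_5 : chunk (gF 39 38 1) 2584 5 = true := by decide +kernel
set_option maxRecDepth 100000 in
theorem cF39_6 : chunk (gF 39 38 1) 2584 6 = true := by decide +kernel
set_option maxRecDepth 100000 in
theorem cF39_7 : chunk (gF 39 38 1) 2584 7 = true := by decide +kernel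
set_option maxRecDepth 100000 in
theorem cF39_8 : chunk (gF 39 38 1) 2584 8 = true := by decide +kernel
theorem hF39 : allBelow (gF 39 38 1) (9 * 2584) = true := allBelow_of_chunks (fun c hc => by
    interval_cases c
    · exact cF39_0
    · exact cF39_1
    · exact cF39_2
    · exact cF39_3
    · exact cF39_4
    · exact cF39_5
    · exact cF39_6
    · exact cF39_7
    · exact cF39_8
  )
set_option maxRecDepth 100000 in
theorem cF41_0 : chunk (gF 41 42 1) 2584 0 = true := by decide +kernel
set_option maxRecDepth 100000 in
theorem cF41_1 : chunk (gF 41 42 1) 2584 1 = true := by decide +kernel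
set_option maxRecDepth 100000 in
theorem cF41_2 : chunk (gF 41 42 1) 2584 2 = true := by decide +kernel
set_option maxRecDepth 100000 in
theorem cF41_3 : chunk (gF 41 42 1) 2584 3 = true := by decide +kernel
set_option maxRecDepth 100000 in
theorem cF41_4 : chunk (gF 41 42 1) 2584 4 = true := by decide +kernel
set_option maxRecDepth 100000 in
theorem cF41_5 : chunk (gF 41 42 1) 2584 5 = true := by decide +kernel
set_option maxRecDepth 100000 in
theorem cF41_6 : chunk (gF 41 42 1) 2584 6 = true := by decide +kernel
set_option maxRecDepth 100000 in
theorem cF41_7 : chunk (gF 41 42 1) 2584 7 = true := by decide +kernel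
set_option maxRecDepth 100000 in
theorem cF41_8 : chunk (gF 41 42 1) 2584 8 = true := by decide +kernel
theorem hF41 : allBelow (gF 41 42 1) (9 * 2584) = true := allBelow_of_chunks (fun c hc => by
    interval_cases c
    · exact cF41_0
    · exact cF41_1
    · exact cF41_2
    · exact cF41_3
    · exact cF41_4
    · exact cF41_5
    · exact cF41_6
    · exact cF41_7
    · exact cF41_8
  )

end Cfsg.Agent.Lib.KnownSimple.J3
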