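import Cfsg.Agent.Lib.KnownSimple.J3.Tau0
import Cfsg.Agent.Lib.KnownSimple.J3.Tau1

/-!
# The Janko group: the outer automorphism
-/

set_option autoImplicit false

namespace Cfsg.Agent.Lib.KnownSimple.J3

open Cfsg Cfsg.Spor Cfsg.Agent.Lib.Compute Cfsg.Agent.Lib.KnownSimple.PE Cfsg.Agent.Lib.KnownSimple.Leech
open Cfsg.Agent.Lib.KnownSimple Cfsg.Agent.Lib.KnownSimple.AutRigid
open Cfsg.Agent.Lib.KnownSimple.J3Data

set_option maxRecDepth 100000 in
theorem cInvF_0 : chunk gInvF 2584 0 = true := by decide +kernel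
set_option maxRecDepth 100000 in
theorem cInvF_1 : chunk gInvF 2584 1 = true := by decide +kernel
set_option maxRecDepth 100000 in
theorem cInvF_2 : chunk gInvF 2584 2 = true := by decide +kernel
set_option maxRecDepth 100000 in
theorem cInvF_3 : chunk gInvF 2584 3 = true := by decide +kernel
set_option maxRecDepth 100000 in
theorem cInvF_4 : chunk gInvF 2584 4 = true := by decide +kernel
set_option maxRecDepth 100000 in
theorem cInvF_5 : chunk gInvF 2584 5 = true := by decide +kernel
set_option maxRecDepth 100000 in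
theorem cInvF_6 : chunk gInvF 2584 6 = true := by decide +kernel
set_option maxRecDepth 100000 in
theorem cInvF_7 : chunk gInvF 2584 7 = true := by decide +kernel
set_option maxRecDepth 100000 in
theorem cInvF_8 : chunk gInvF 2584 8 = true := by decide +kernel
set_option maxRecDepth 100000 in
theorem cFw_0 : chunk gFw 2584 0 = true := by decide +kernel
set_option maxRecDepth 100000 in
theorem cFw_1 : chunk gFw 2584 1 = true := by decide +kernel
set_option maxRecDepth 100000 in
theorem cFw_2 : chunk gFw 2584 2 = true := by decide +kernel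
set_option maxRecDepth 100000 in
theorem cFw_3 : chunk gFw 2584 3 = true := by decide +kernel
set_option maxRecDepth 100000 in
theorem cFw_4 : chunk gFw 2584 4 = true := by decide +kernel
set_option maxRecDepth 100000 in
theorem cFw_5 : chunk gFw 2584 5 = true := by decide +kernel
set_option maxRecDepth 100000 in
theorem cFw_6 : chunk gFw 2584 6 = true := by decide +kernel
set_option maxRecDepth 100000 in
theorem cFw_7 : chunk gFw 2584 7 = true := by decide +kernel
set_option maxRecDepth 100000 in
theorem cFw_8 : chunk gFw 2584 8 = true := by decide +kernel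

theorem hInvF : allBelow gInvF (9 * 2584) = true := allBelow_of_chunks (fun c hc => by
    interval_cases c
    · exact cInvF_0
    · exact cInvF_1
    · exact cInvF_2
    · exact cInvF_3
    · exact cInvF_4
    · exact cInvF_5
    · exact cInvF_6
    · exact cInvF_7
    · exact cInvF_8
  )
theorem hFw : allBelow gFw (9 * 2584) = true := allBelow_of_chunks (fun c hc => by
    interval_cases c
    · exact cFw_0
    · exact cFw_1
    · exact cFw_2
    · exact cFw_3
    · exact cFw_4
    · exact cFw_5
    · exact cFw_6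
    · exact cFw_7
    · exact cFw_8
  )

theorem tf_lt {i : ℕ} (hi : i < N) : tf i < N := by
  have h := (allBelow_iff _ _).1 hInvF i hi
  simp only [gInvF, Bool.and_eq_true] at h
  simpa [Nat.blt_eq] using h.1

theorem tf_tf {i : ℕ} (hi : i < N) : tf (tf i) = i := by
  have h := (allBelow_iff _ _).1 hInvF i hi
  simp only [gInvF, Bool.and_eq_true] at h
  exact Nat.eq_of_beq_eq_true h.2

/-- The involution on the points. -/
noncomputable def fP : Equiv.Perm (Fin N) where
  toFun := fun a => ⟨tf a, tf_lt a.isLt⟩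
  invFun := fun a => ⟨tf a, tf_lt a.isLt⟩
  left_inv := fun a => Fin.ext (tf_tf a.isLt)
  right_inv := fun a => Fin.ext (tf_tf a.isLt)

theorem code_fP : E.IsCode fP tf := fun _ => rfl
theorem fP_inv : fP⁻¹ = fP := rfl

/-- Permutations given by the same table on all points are equal. -/
theorem eq_of_all {σ τ : Equiv.Perm (Fin N)} {f g : ℕ → ℕ} (h1 : E.IsCode σ f) (h2 : E.IsCode τ g)
    (h : ∀ i, i < N → f i = g i) : σ = τ := by
  ext a
  have h3 : f a = (σ a).val := h1 a
  have h4 : g a = (τ a).val := h2 a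
  rw [← h3, ← h4]
  exact h _ a.isLt

theorem fP_gen {k k' e : ℕ} (hk : k < 47) (hk' : k' < 47) (h : allBelow (gF k k' e) (9 * 2584) = true) :
    fP * P k * fP⁻¹ = P k' ^ e := by
  rw [fP_inv]
  refine eq_of_all (isCode_mul (isCode_mul code_fP (P_code hk)) code_fP) (isCode_pow (P_code hk') e) ?_
  intro i hi
  exact Nat.eq_of_beq_eq_true ((allBelow_iff _ _).1 h i hi)

theorem fP_gen_H {k : ℕ} (hk : k < 43) : fP * P k * fP⁻¹ ∈ H := by
  interval_cases k
  · rw [fP_gen (by norm_num) (by norm_num) hF0]
    exact H.pow_mem (P_H (by norm_num)) _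
  · rw [fP_gen (by norm_num) (by norm_num) hF1]
    exact H.pow_mem (P_H (by norm_num)) _
  · rw [fP_gen (by norm_num) (by norm_num) hF2]
    exact H.pow_mem (P_H (by norm_num)) _
  · rw [fP_gen (by norm_num) (by norm_num) hF3]
    exact H.pow_mem (P_H (by norm_num)) _
  · rw [fP_gen (by norm_num) (by norm_num) hF4]
    exact H.pow_mem (P_H (by norm_num)) _
  · rw [fP_gen (by norm_num) (by norm_num) hF5]
    exact H.pow_mem (P_H (by norm_num)) _
  · rw [fP_gen (by norm_num) (by norm_num) hF6]
    exact H.pow_mem (P_H (by norm_num)) _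
  · rw [fP_gen (by norm_num) (by norm_num) hF7]
    exact H.pow_mem (P_H (by norm_num)) _
  · rw [fP_gen (by norm_num) (by norm_num) hF8]
    exact H.pow_mem (P_H (by norm_num)) _
  · rw [fP_gen (by norm_num) (by norm_num) hF9]
    exact H.pow_mem (P_H (by norm_num)) _
  · rw [fP_gen (by norm_num) (by norm_num) hF10]
    exact H.pow_mem (P_H (by norm_num)) _
  · rw [fP_gen (by norm_num) (by norm_num) hF11]
    exact H.pow_mem (P_H (by norm_num)) _
  · rw [fP_gen (by norm_num) (by norm_num) hF12]
    exact H.pow_mem (P_H (by norm_num)) _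
  · rw [fP_gen (by norm_num) (by norm_num) hF13]
    exact H.pow_mem (P_H (by norm_num)) _
  · rw [fP_gen (by norm_num) (by norm_num) hF14]
    exact H.pow_mem (P_H (by norm_num)) _
  · rw [fP_gen (by norm_num) (by norm_num) hF15]
    exact H.pow_mem (P_H (by norm_num)) _
  · rw [fP_gen (by norm_num) (by norm_num) hF16]
    exact H.pow_mem (P_H (by norm_num)) _
  · rw [fP_gen (by norm_num) (by norm_num) hF17]
    exact H.pow_mem (P_H (by norm_num)) _
  · rw [fP_gen (by norm_num) (by norm_num) hF18]
    exact H.pow_mem (P_H (by norm_num)) _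
  · rw [fP_gen (by norm_num) (by norm_num) hF19]
    exact H.pow_mem (P_H (by norm_num)) _
  · rw [fP_gen (by norm_num) (by norm_num) hF20]
    exact H.pow_mem (P_H (by norm_num)) _
  · rw [fP_gen (by norm_num) (by norm_num) hF21]
    exact H.pow_mem (P_H (by norm_num)) _
  · rw [fP_gen (by norm_num) (by norm_num) hF22]
    exact H.pow_mem (P_H (by norm_num)) _
  · rw [fP_gen (by norm_num) (by norm_num) hF23]
    exact H.pow_mem (P_H (by norm_num)) _
  · rw [fP_gen (by norm_num) (by norm_num) hF24]
    exact H.pow_mem (P_H (by norm_num)) _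
  · rw [fP_gen (by norm_num) (by norm_num) hF25]
    exact H.pow_mem (P_H (by norm_num)) _
  · rw [fP_gen (by norm_num) (by norm_num) hF26]
    exact H.pow_mem (P_H (by norm_num)) _
  · rw [fP_gen (by norm_num) (by norm_num) hF27]
    exact H.pow_mem (P_H (by norm_num)) _
  · rw [fP_gen (by norm_num) (by norm_num) hF28]
    exact H.pow_mem (P_H (by norm_num)) _
  · rw [fP_gen (by norm_num) (by norm_num) hF29]
    exact H.pow_mem (P_H (by norm_num)) _
  · rw [fP_gen (by norm_num) (by norm_num) hF30]
    exact H.pow_mem (P_H (by norm_num)) _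
  · rw [fP_gen (by norm_num) (by norm_num) hF31]
    exact H.pow_mem (P_H (by norm_num)) _
  · rw [fP_gen (by norm_num) (by norm_num) hF32]
    exact H.pow_mem (P_H (by norm_num)) _
  · rw [fP_gen (by norm_num) (by norm_num) hF33]
    exact H.pow_mem (P_H (by norm_num)) _
  · rw [fP_gen (by norm_num) (by norm_num) hF34]
    exact H.pow_mem (P_H (by norm_num)) _
  · rw [fP_gen (by norm_num) (by norm_num) hF35]
    exact H.pow_mem (P_H (by norm_num)) _
  · rw [fP_gen (by norm_num) (by norm_num) hF36]
    exact H.pow_mem (P_H (by norm_num)) _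
  · rw [fP_gen (by norm_num) (by norm_num) hF37]
    exact H.pow_mem (P_H (by norm_num)) _
  · rw [fP_gen (by norm_num) (by norm_num) hF38]
    exact H.pow_mem (P_H (by norm_num)) _
  · rw [fP_gen (by norm_num) (by norm_num) hF39]
    exact H.pow_mem (P_H (by norm_num)) _
  · rw [fP_gen (by norm_num) (by norm_num) hF40]
    exact H.pow_mem (P_H (by norm_num)) _
  · rw [fP_gen (by norm_num) (by norm_num) hF41]
    exact H.pow_mem (P_H (by norm_num)) _
  · rw [fP_gen (by norm_num) (by norm_num) hF42]
    exact H.pow_mem (P_H (by norm_num)) _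

theorem fP_conj : ∀ σ ∈ H, fP * σ * fP⁻¹ ∈ H := by
  intro σ hσ
  induction hσ using Subgroup.closure_induction with
  | mem x hx =>
    obtain ⟨k, hk, hc⟩ := hx
    have e : x = P k := perm_ext_of_code hc (P_code (by omega))
    rw [e]
    exact fP_gen_H hk
  | one => simp [H.one_mem]
  | mul a b _ _ ha hb =>
    have e : fP * (a * b) * fP⁻¹ = (fP * a * fP⁻¹) * (fP * b * fP⁻¹) := by group
    rw [e]
    exact H.mul_mem ha hb
  | inv a _ ha =>
    have e : fP * a⁻¹ * fP⁻¹ = (fP * a * fP⁻¹)⁻¹ := by group
    rw [e]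
    exact H.inv_mem ha

/-- The outer automorphism. -/
noncomputable def τ : MulAut G where
  toFun := fun g => ⟨fP * g.1 * fP⁻¹, fP_conj _ g.2⟩
  invFun := fun g => ⟨fP * g.1 * fP⁻¹, fP_conj _ g.2⟩
  left_inv := fun g => by
    apply Subtype.ext
    show fP * (fP * g.1 * fP⁻¹) * fP⁻¹ = g.1
    have h2 : fP * fP = 1 := by
      ext a
      exact congrArg Fin.val (fP.left_inv a)
    rw [fP_inv]
    calc fP * (fP * g.1 * fP) * fP = (fP * fP) * g.1 * (fP * fP) := by group
      _ = g.1 := by rw [h2]; group
  right_inv := fun g => by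
    apply Subtype.ext
    show fP * (fP * g.1 * fP⁻¹) * fP⁻¹ = g.1
    have h2 : fP * fP = 1 := by
      ext a
      exact congrArg Fin.val (fP.left_inv a)
    rw [fP_inv]
    calc fP * (fP * g.1 * fP) * fP = (fP * fP) * g.1 * (fP * fP) := by group
      _ = g.1 := by rw [h2]; group
  map_mul' := fun a b => by
    apply Subtype.ext
    show fP * (a.1 * b.1) * fP⁻¹ = (fP * a.1 * fP⁻¹) * (fP * b.1 * fP⁻¹)
    group

end Cfsg.Agent.Lib.KnownSimple.J3
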