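import Cfsg.Agent.Lib.KnownSimple.J3.TauD

/-!
# The Janko group: the outer automorphism acts on generators
-/

set_option autoImplicit false

namespace Cfsg.Agent.Lib.KnownSimple.J3

open Cfsg Cfsg.Spor Cfsg.Agent.Lib.Compute Cfsg.Agent.Lib.KnownSimple.PE Cfsg.Agent.Lib.KnownSimple.Leech
open Cfsg.Agent.Lib.KnownSimple Cfsg.Agent.Lib.KnownSimple.AutRigid
open Cfsg.Agent.Lib.KnownSimple.J3Data

set_option maxRecDepth 100000 in
theorem cF0_0 : chunk (gF 0 0 1) 2584 0 = true := by decide +kernel
set_option maxRecDepth 100000 in
theorem cF0_1 : chunk (gF 0 0 1) 2584 1 = true := by decide +kernel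
set_option maxRecDepth 100000 in
theorem cF0_2 : chunk (gF 0 0 1) 2584 2 = true := by decide +kernel
set_option maxRecDepth 100000 in
theorem cF0_3 : chunk (gF 0 0 1) 2584 3 = true := by decide +kernel
set_option maxRecDepth 100000 in
theorem cF0_4 : chunk (gF 0 0 1) 2584 4 = true := by decide +kernel
set_option maxRecDepth 100000 in
theorem cF0_5 : chunk (gF 0 0 1) 2584 5 = true := by decide +kernel
set_option maxRecDepth 100000 in
theorem cF0_6 : chunk (gF 0 0 1) 2584 6 = true := by decide +kernel
set_option maxRecDepth 100000 in
theorem cF0_7 : chunk (gF 0 0 1) 2584 7 = true := by decide +kernel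
set_option maxRecDepth 100000 in
theorem cF0_8 : chunk (gF 0 0 1) 2584 8 = true := by decide +kernel
theorem hF0 : allBelow (gF 0 0 1) (9 * 2584) = true := allBelow_of_chunks (fun c hc => by
    interval_cases c
    · exact cF0_0
    · exact cF0_1
    · exact cF0_2
    · exact cF0_3
    · exact cF0_4
    · exact cF0_5
    · exact cF0_6
    · exact cF0_7
    · exact cF0_8
  )
set_option maxRecDepth 100000 in
theorem cF2_0 : chunk (gF 2 2 1) 2584 0 = true := by decide +kernel
set_option maxRecDepth 100000 in
theorem cF2_1 : chunk (gF 2 2 1) 2584 1 = true := by decide +kernel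
set_option maxRecDepth 100000 in
theorem cF2_2 : chunk (gF 2 2 1) 2584 2 = true := by decide +kernel
set_option maxRecDepth 100000 in
theorem cF2_3 : chunk (gF 2 2 1) 2584 3 = true := by decide +kernel
set_option maxRecDepth 100000 in
theorem cF2_4 : chunk (gF 2 2 1) 2584 4 = true := by decide +kernel
set_option maxRecDepth 100000 in
theorem cF2_5 : chunk (gF 2 2 1) 2584 5 = true := by decide +kernel
set_option maxRecDepth 100000 in
theorem cF2_6 : chunk (gF 2 2 1) 2584 6 = true := by decide +kernel
set_option maxRecDepth 100000 in
theorem cF2_7 : chunk (gF 2 2 1) 2584 7 = true := by decide +kernel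
set_option maxRecDepth 100000 in
theorem cF2_8 : chunk (gF 2 2 1) 2584 8 = true := by decide +kernel
theorem hF2 : allBelow (gF 2 2 1) (9 * 2584) = true := allBelow_of_chunks (fun c hc => by
    interval_cases c
    · exact cF2_0
    · exact cF2_1
    · exact cF2_2
    · exact cF2_3
    · exact cF2_4
    · exact cF2_5
    · exact cF2_6
    · exact cF2_7
    · exact cF2_8
  )
set_option maxRecDepth 100000 in
theorem cF4_0 : chunk (gF 4 7 1) 2584 0 = true := by decide +kernel
set_option maxRecDepth 100000 in
theorem cF4_1 : chunk (gF 4 7 1) 2584 1 = true := by decide +kernel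
set_option maxRecDepth 100000 in
theorem cF4_2 : chunk (gF 4 7 1) 2584 2 = true := by decide +kernel
set_option maxRecDepth 100000 in
theorem cF4_3 : chunk (gF 4 7 1) 2584 3 = true := by decide +kernel
set_option maxRecDepth 100000 in
theorem cF4_4 : chunk (gF 4 7 1) 2584 4 = true := by decide +kernel
set_option maxRecDepth 100000 in
theorem cF4_5 : chunk (gF 4 7 1) 2584 5 = true := by decide +kernel
set_option maxRecDepth 100000 in
theorem cF4_6 : chunk (gF 4 7 1) 2584 6 = true := by decide +kernel
set_option maxRecDepth 100000 in
theorem cF4_7 : chunk (gF 4 7 1) 2584 7 = true := by decide +kernel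
set_option maxRecDepth 100000 in
theorem cF4_8 : chunk (gF 4 7 1) 2584 8 = true := by decide +kernel
theorem hF4 : allBelow (gF 4 7 1) (9 * 2584) = true := allBelow_of_chunks (fun c hc => by
    interval_cases c
    · exact cF4_0
    · exact cF4_1
    · exact cF4_2
    · exact cF4_3
    · exact cF4_4
    · exact cF4_5
    · exact cF4_6
    · exact cF4_7
    · exact cF4_8
  )
set_option maxRecDepth 100000 in
theorem cF6_0 : chunk (gF 6 3 1) 2584 0 = true := by decide +kernel
set_option maxRecDepth 100000 in
theorem cF6_1 : chunk (gF 6 3 1) 2584 1 = true := by decide +kernel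
set_option maxRecDepth 100000 in
theorem cF6_2 : chunk (gF 6 3 1) 2584 2 = true := by decide +kernel
set_option maxRecDepth 100000 in
theorem cF6_3 : chunk (gF 6 3 1) 2584 3 = true := by decide +kernel
set_option maxRecDepth 100000 in
theorem cF6_4 : chunk (gF 6 3 1) 2584 4 = true := by decide +kernel
set_option maxRecDepth 100000 in
theorem cF6_5 : chunk (gF 6 3 1) 2584 5 = true := by decide +kernel
set_option maxRecDepth 100000 in
theorem cF6_6 : chunk (gF 6 3 1) 2584 6 = true := by decide +kernel
set_option maxRecDepth 100000 in
theorem cF6_7 : chunk (gF 6 3 1) 2584 7 = true := by decide +kernel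
set_option maxRecDepth 100000 in
theorem cF6_8 : chunk (gF 6 3 1) 2584 8 = true := by decide +kernel
theorem hF6 : allBelow (gF 6 3 1) (9 * 2584) = true := allBelow_of_chunks (fun c hc => by
    interval_cases c
    · exact cF6_0
    · exact cF6_1
    · exact cF6_2
    · exact cF6_3
    · exact cF6_4
    · exact cF6_5
    · exact cF6_6
    · exact cF6_7
    · exact cF6_8
  )
set_option maxRecDepth 100000 in
theorem cF8_0 : chunk (gF 8 5 1) 2584 0 = true := by decide +kernel
set_option maxRecDepth 100000 in
theorem cF8_1 : chunk (gF 8 5 1) 2584 1 = true := by decide +kernel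
set_option maxRecDepth 100000 in
theorem cF8_2 : chunk (gF 8 5 1) 2584 2 = true := by decide +kernel
set_option maxRecDepth 100000 in
theorem cF8_3 : chunk (gF 8 5 1) 2584 3 = true := by decide +kernel
set_option maxRecDepth 100000 in
theorem cF8_4 : chunk (gF 8 5 1) 2584 4 = true := by decide +kernel
set_option maxRecDepth 100000 in
theorem cF8_5 : chunk (gF 8 5 1) 2584 5 = true := by decide +kernel
set_option maxRecDepth 100000 in
theorem cF8_6 : chunk (gF 8 5 1) 2584 6 = true := by decide +kernel
set_option maxRecDepth 100000 in
theorem cF8_7 : chunk (gF 8 5 1) 2584 7 = true := by decide +kernel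
set_option maxRecDepth 100000 in
theorem cF8_8 : chunk (gF 8 5 1) 2584 8 = true := by decide +kernel
theorem hF8 : allBelow (gF 8 5 1) (9 * 2584) = true := allBelow_of_chunks (fun c hc => by
    interval_cases c
    · exact cF8_0
    · exact cF8_1
    · exact cF8_2
    · exact cF8_3
    · exact cF8_4
    · exact cF8_5
    · exact cF8_6
    · exact cF8_7
    · exact cF8_8
  )
set_option maxRecDepth 100000 in
theorem cF10_0 : chunk (gF 10 11 2) 2584 0 = true := by decide +kernel
set_option maxRecDepth 100000 in
theorem cF10_1 : chunk (gF 10 11 2) 2584 1 = true := by decide +kernel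
set_option maxRecDepth 100000 in
theorem cF10_2 : chunk (gF 10 11 2) 2584 2 = true := by decide +kernel
set_option maxRecDepth 100000 in
theorem cF10_3 : chunk (gF 10 11 2) 2584 3 = true := by decide +kernel
set_option maxRecDepth 100000 in
theorem cF10_4 : chunk (gF 10 11 2) 2584 4 = true := by decide +kernel
set_option maxRecDepth 100000 in
theorem cF10_5 : chunk (gF 10 11 2) 2584 5 = true := by decide +kernel
set_option maxRecDepth 100000 in
theorem cF10_6 : chunk (gF 10 11 2) 2584 6 = true := by decide +kernel
set_option maxRecDepth 100000 in
theorem cF10_7 : chunk (gF 10 11 2) 2584 7 = true := by decide +kernel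
set_option maxRecDepth 100000 in
theorem cF10_8 : chunk (gF 10 11 2) 2584 8 = true := by decide +kernel
theorem hF10 : allBelow (gF 10 11 2) (9 * 2584) = true := allBelow_of_chunks (fun c hc => by
    interval_cases c
    · exact cF10_0
    · exact cF10_1
    · exact cF10_2
    · exact cF10_3
    · exact cF10_4
    · exact cF10_5
    · exact cF10_6
    · exact cF10_7
    · exact cF10_8
  )
set_option maxRecDepth 100000 in
theorem cF12_0 : chunk (gF 12 12 2) 2584 0 = true := by decide +kernel
set_option maxRecDepth 100000 in
theorem cF12_1 : chunk (gF 12 12 2) 2584 1 = true := by decide +kernel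
set_option maxRecDepth 100000 in
theorem cF12_2 : chunk (gF 12 12 2) 2584 2 = true := by decide +kernel
set_option maxRecDepth 100000 in
theorem cF12_3 : chunk (gF 12 12 2) 2584 3 = true := by decide +kernel
set_option maxRecDepth 100000 in
theorem cF12_4 : chunk (gF 12 12 2) 2584 4 = true := by decide +kernel
set_option maxRecDepth 100000 in
theorem cF12_5 : chunk (gF 12 12 2) 2584 5 = true := by decide +kernel
set_option maxRecDepth 100000 in
theorem cF12_6 : chunk (gF 12 12 2) 2584 6 = true := by decide +kernel
set_option maxRecDepth 100000 in
theorem cF12_7 : chunk (gF 12 12 2) 2584 7 = true := by decide +kernel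
set_option maxRecDepth 100000 in
theorem cF12_8 : chunk (gF 12 12 2) 2584 8 = true := by decide +kernel
theorem hF12 : allBelow (gF 12 12 2) (9 * 2584) = true := allBelow_of_chunks (fun c hc => by
    interval_cases c
    · exact cF12_0
    · exact cF12_1
    · exact cF12_2
    · exact cF12_3
    · exact cF12_4
    · exact cF12_5
    · exact cF12_6
    · exact cF12_7
    · exact cF12_8
  )
set_option maxRecDepth 100000 in
theorem cF14_0 : chunk (gF 14 13 2) 2584 0 = true := by decide +kernel
set_option maxRecDepth 100000 in
theorem cF14_1 : chunk (gF 14 13 2) 2584 1 = true := by decide +kernel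
set_option maxRecDepth 100000 in
theorem cF14_2 : chunk (gF 14 13 2) 2584 2 = true := by decide +kernel
set_option maxRecDepth 100000 in
theorem cF14_3 : chunk (gF 14 13 2) 2584 3 = true := by decide +kernel
set_option maxRecDepth 100000 in
theorem cF14_4 : chunk (gF 14 13 2) 2584 4 = true := by decide +kernel
set_option maxRecDepth 100000 in
theorem cF14_5 : chunk (gF 14 13 2) 2584 5 = true := by decide +kernel
set_option maxRecDepth 100000 in
theorem cF14_6 : chunk (gF 14 13 2) 2584 6 = true := by decide +kernel
set_option maxRecDepth 100000 in
theorem cF14_7 : chunk (gF 14 13 2) 2584 7 = true := by decide +kernel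
set_option maxRecDepth 100000 in
theorem cF14_8 : chunk (gF 14 13 2) 2584 8 = true := by decide +kernel
theorem hF14 : allBelow (gF 14 13 2) (9 * 2584) = true := allBelow_of_chunks (fun c hc => by
    interval_cases c
    · exact cF14_0
    · exact cF14_1
    · exact cF14_2
    · exact cF14_3
    · exact cF14_4
    · exact cF14_5
    · exact cF14_6
    · exact cF14_7
    · exact cF14_8
  )
set_option maxRecDepth 100000 in
theorem cF16_0 : chunk (gF 16 17 2) 2584 0 = true := by decide +kernel
set_option maxRecDepth 100000 in
theorem cF16_1 : chunk (gF 16 17 2) 2584 1 = true := by decide +kernel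
set_option maxRecDepth 100000 in
theorem cF16_2 : chunk (gF 16 17 2) 2584 2 = true := by decide +kernel
set_option maxRecDepth 100000 in
theorem cF16_3 : chunk (gF 16 17 2) 2584 3 = true := by decide +kernel
set_option maxRecDepth 100000 in
theorem cF16_4 : chunk (gF 16 17 2) 2584 4 = true := by decide +kernel
set_option maxRecDepth 100000 in
theorem cF16_5 : chunk (gF 16 17 2) 2584 5 = true := by decide +kernel
set_option maxRecDepth 100000 in
theorem cF16_6 : chunk (gF 16 17 2) 2584 6 = true := by decide +kernel
set_option maxRecDepth 100000 in
theorem cF16_7 : chunk (gF 16 17 2) 2584 7 = true := by decide +kernel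
set_option maxRecDepth 100000 in
theorem cF16_8 : chunk (gF 16 17 2) 2584 8 = true := by decide +kernel
theorem hF16 : allBelow (gF 16 17 2) (9 * 2584) = true := allBelow_of_chunks (fun c hc => by
    interval_cases c
    · exact cF16_0
    · exact cF16_1
    · exact cF16_2
    · exact cF16_3
    · exact cF16_4
    · exact cF16_5
    · exact cF16_6
    · exact cF16_7
    · exact cF16_8
  )
set_option maxRecDepth 100000 in
theorem cF18_0 : chunk (gF 18 0 1) 2584 0 = true := by decide +kernel
set_option maxRecDepth 100000 in
theorem cF18_1 : chunk (gF 18 0 1) 2584 1 = true := by decide +kernel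
set_option maxRecDepth 100000 in
theorem cF18_2 : chunk (gF 18 0 1) 2584 2 = true := by decide +kernel
set_option maxRecDepth 100000 in
theorem cF18_3 : chunk (gF 18 0 1) 2584 3 = true := by decide +kernel
set_option maxRecDepth 100000 in
theorem cF18_4 : chunk (gF 18 0 1) 2584 4 = true := by decide +kernel
set_option maxRecDepth 100000 in
theorem cF18_5 : chunk (gF 18 0 1) 2584 5 = true := by decide +kernel
set_option maxRecDepth 100000 in
theorem cF18_6 : chunk (gF 18 0 1) 2584 6 = true := by decide +kernel
set_option maxRecDepth 100000 in
theorem cF18_7 : chunk (gF 18 0 1) 2584 7 = true := by decide +kernel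
set_option maxRecDepth 100000 in
theorem cF18_8 : chunk (gF 18 0 1) 2584 8 = true := by decide +kernel
theorem hF18 : allBelow (gF 18 0 1) (9 * 2584) = true := allBelow_of_chunks (fun c hc => by
    interval_cases c
    · exact cF18_0
    · exact cF18_1
    · exact cF18_2
    · exact cF18_3
    · exact cF18_4
    · exact cF18_5
    · exact cF18_6
    · exact cF18_7
    · exact cF18_8
  )
set_option maxRecDepth 100000 in
theorem cF20_0 : chunk (gF 20 19 1) 2584 0 = true := by decide +kernel
set_option maxRecDepth 100000 in
theorem cF20_1 : chunk (gF 20 19 1) 2584 1 = true := by decide +kernel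
set_option maxRecDepth 100000 in
theorem cF20_2 : chunk (gF 20 19 1) 2584 2 = true := by decide +kernel
set_option maxRecDepth 100000 in
theorem cF20_3 : chunk (gF 20 19 1) 2584 3 = true := by decide +kernel
set_option maxRecDepth 100000 in
theorem cF20_4 : chunk (gF 20 19 1) 2584 4 = true := by decide +kernel
set_option maxRecDepth 100000 in
theorem cF20_5 : chunk (gF 20 19 1) 2584 5 = true := by decide +kernel
set_option maxRecDepth 100000 in
theorem cF20_6 : chunk (gF 20 19 1) 2584 6 = true := by decide +kernel
set_option maxRecDepth 100000 in
theorem cF20_7 : chunk (gF 20 19 1) 2584 7 = true := by decide +kernel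
set_option maxRecDepth 100000 in
theorem cF20_8 : chunk (gF 20 19 1) 2584 8 = true := by decide +kernel
theorem hF20 : allBelow (gF 20 19 1) (9 * 2584) = true := allBelow_of_chunks (fun c hc => by
    interval_cases c
    · exact cF20_0
    · exact cF20_1
    · exact cF20_2
    · exact cF20_3
    · exact cF20_4
    · exact cF20_5
    · exact cF20_6
    · exact cF20_7
    · exact cF20_8
  )
set_option maxRecDepth 100000 in
theorem cF22_0 : chunk (gF 22 23 1) 2584 0 = true := by decide +kernel
set_option maxRecDepth 100000 in
theorem cF22_1 : chunk (gF 22 23 1) 2584 1 = true := by decide +kernel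
set_option maxRecDepth 100000 in
theorem cF22_2 : chunk (gF 22 23 1) 2584 2 = true := by decide +kernel
set_option maxRecDepth 100000 in
theorem cF22_3 : chunk (gF 22 23 1) 2584 3 = true := by decide +kernel
set_option maxRecDepth 100000 in
theorem cF22_4 : chunk (gF 22 23 1) 2584 4 = true := by decide +kernel
set_option maxRecDepth 100000 in
theorem cF22_5 : chunk (gF 22 23 1) 2584 5 = true := by decide +kernel
set_option maxRecDepth 100000 in
theorem cF22_6 : chunk (gF 22 23 1) 2584 6 = true := by decide +kernel
set_option maxRecDepth 100000 in
theorem cF22_7 : chunk (gF 22 23 1) 2584 7 = true := by decide +kernel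
set_option maxRecDepth 100000 in
theorem cF22_8 : chunk (gF 22 23 1) 2584 8 = true := by decide +kernel
theorem hF22 : allBelow (gF 22 23 1) (9 * 2584) = true := allBelow_of_chunks (fun c hc => by
    interval_cases c
    · exact cF22_0
    · exact cF22_1
    · exact cF22_2
    · exact cF22_3
    · exact cF22_4
    · exact cF22_5
    · exact cF22_6
    · exact cF22_7
    · exact cF22_8
  )
set_option maxRecDepth 100000 in
theorem cF24_0 : chunk (gF 24 24 1) 2584 0 = true := by decide +kernel
set_option maxRecDepth 100000 in
theorem cF24_1 : chunk (gF 24 24 1) 2584 1 = true := by decide +kernel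
set_option maxRecDepth 100000 in
theorem cF24_2 : chunk (gF 24 24 1) 2584 2 = true := by decide +kernel
set_option maxRecDepth 100000 in
theorem cF24_3 : chunk (gF 24 24 1) 2584 3 = true := by decide +kernel
set_option maxRecDepth 100000 in
theorem cF24_4 : chunk (gF 24 24 1) 2584 4 = true := by decide +kernel
set_option maxRecDepth 100000 in
theorem cF24_5 : chunk (gF 24 24 1) 2584 5 = true := by decide +kernel
set_option maxRecDepth 100000 in
theorem cF24_6 : chunk (gF 24 24 1) 2584 6 = true := by decide +kernel
set_option maxRecDepth 100000 in
theorem cF24_7 : chunk (gF 24 24 1) 2584 7 = true := by decide +kernel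
set_option maxRecDepth 100000 in
theorem cF24_8 : chunk (gF 24 24 1) 2584 8 = true := by decide +kernel
theorem hF24 : allBelow (gF 24 24 1) (9 * 2584) = true := allBelow_of_chunks (fun c hc => by
    interval_cases c
    · exact cF24_0
    · exact cF24_1
    · exact cF24_2
    · exact cF24_3
    · exact cF24_4
    · exact cF24_5
    · exact cF24_6
    · exact cF24_7
    · exact cF24_8
  )
set_option maxRecDepth 100000 in
theorem cF26_0 : chunk (gF 26 25 1) 2584 0 = true := by decide +kernel
set_option maxRecDepth 100000 in
theorem cF26_1 : chunk (gF 26 25 1) 2584 1 = true := by decide +kernel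
set_option maxRecDepth 100000 in
theorem cF26_2 : chunk (gF 26 25 1) 2584 2 = true := by decide +kernel
set_option maxRecDepth 100000 in
theorem cF26_3 : chunk (gF 26 25 1) 2584 3 = true := by decide +kernel
set_option maxRecDepth 100000 in
theorem cF26_4 : chunk (gF 26 25 1) 2584 4 = true := by decide +kernel
set_option maxRecDepth 100000 in
theorem cF26_5 : chunk (gF 26 25 1) 2584 5 = true := by decide +kernel
set_option maxRecDepth 100000 in
theorem cF26_6 : chunk (gF 26 25 1) 2584 6 = true := by decide +kernel
set_option maxRecDepth 100000 in
theorem cF26_7 : chunk (gF 26 25 1) 2584 7 = true := by decide +kernel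
set_option maxRecDepth 100000 in
theorem cF26_8 : chunk (gF 26 25 1) 2584 8 = true := by decide +kernel
theorem hF26 : allBelow (gF 26 25 1) (9 * 2584) = true := allBelow_of_chunks (fun c hc => by
    interval_cases c
    · exact cF26_0
    · exact cF26_1
    · exact cF26_2
    · exact cF26_3
    · exact cF26_4
    · exact cF26_5
    · exact cF26_6
    · exact cF26_7
    · exact cF26_8
  )
set_option maxRecDepth 100000 in
theorem cF28_0 : chunk (gF 28 27 1) 2584 0 = true := by decide +kernel
set_option maxRecDepth 100000 in
theorem cF28_1 : chunk (gF 28 27 1) 2584 1 = true := by decide +kernel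
set_option maxRecDepth 100000 in
theorem cF28_2 : chunk (gF 28 27 1) 2584 2 = true := by decide +kernel
set_option maxRecDepth 100000 in
theorem cF28_3 : chunk (gF 28 27 1) 2584 3 = true := by decide +kernel
set_option maxRecDepth 100000 in
theorem cF28_4 : chunk (gF 28 27 1) 2584 4 = true := by decide +kernel
set_option maxRecDepth 100000 in
theorem cF28_5 : chunk (gF 28 27 1) 2584 5 = true := by decide +kernel
set_option maxRecDepth 100000 in
theorem cF28_6 : chunk (gF 28 27 1) 2584 6 = true := by decide +kernel
set_option maxRecDepth 100000 in
theorem cF28_7 : chunk (gF 28 27 1) 2584 7 = true := by decide +kernel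
set_option maxRecDepth 100000 in
theorem cF28_8 : chunk (gF 28 27 1) 2584 8 = true := by decide +kernel
theorem hF28 : allBelow (gF 28 27 1) (9 * 2584) = true := allBelow_of_chunks (fun c hc => by
    interval_cases c
    · exact cF28_0
    · exact cF28_1
    · exact cF28_2
    · exact cF28_3
    · exact cF28_4
    · exact cF28_5
    · exact cF28_6
    · exact cF28_7
    · exact cF28_8
  )
set_option maxRecDepth 100000 in
theorem cF30_0 : chunk (gF 30 31 1) 2584 0 = true := by decide +kernel
set_option maxRecDepth 100000 in
theorem cF30_1 : chunk (gF 30 31 1) 2584 1 = true := by decide +kernel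
set_option maxRecDepth 100000 in
theorem cF30_2 : chunk (gF 30 31 1) 2584 2 = true := by decide +kernel
set_option maxRecDepth 100000 in
theorem cF30_3 : chunk (gF 30 31 1) 2584 3 = true := by decide +kernel
set_option maxRecDepth 100000 in
theorem cF30_4 : chunk (gF 30 31 1) 2584 4 = true := by decide +kernel
set_option maxRecDepth 100000 in
theorem cF30_5 : chunk (gF 30 31 1) 2584 5 = true := by decide +kernel
set_option maxRecDepth 100000 in
theorem cF30_6 : chunk (gF 30 31 1) 2584 6 = true := by decide +kernel
set_option maxRecDepth 100000 in
theorem cF30_7 : chunk (gF 30 31 1) 2584 7 = true := by decide +kernel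
set_option maxRecDepth 100000 in
theorem cF30_8 : chunk (gF 30 31 1) 2584 8 = true := by decide +kernel
theorem hF30 : allBelow (gF 30 31 1) (9 * 2584) = true := allBelow_of_chunks (fun c hc => by
    interval_cases c
    · exact cF30_0
    · exact cF30_1
    · exact cF30_2
    · exact cF30_3
    · exact cF30_4
    · exact cF30_5
    · exact cF30_6
    · exact cF30_7
    · exact cF30_8
  )
set_option maxRecDepth 100000 in
theorem cF32_0 : chunk (gF 32 32 1) 2584 0 = true := by decide +kernel
set_option maxRecDepth 100000 in
theorem cF32_1 : chunk (gF 32 32 1) 2584 1 = true := by decide +kernel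
set_option maxRecDepth 100000 in
theorem cF32_2 : chunk (gF 32 32 1) 2584 2 = true := by decide +kernel
set_option maxRecDepth 100000 in
theorem cF32_3 : chunk (gF 32 32 1) 2584 3 = true := by decide +kernel
set_option maxRecDepth 100000 in
theorem cF32_4 : chunk (gF 32 32 1) 2584 4 = true := by decide +kernel
set_option maxRecDepth 100000 in
theorem cF32_5 : chunk (gF 32 32 1) 2584 5 = true := by decide +kernel
set_option maxRecDepth 100000 in
theorem cF32_6 : chunk (gF 32 32 1) 2584 6 = true := by decide +kernel
set_option maxRecDepth 100000 in
theorem cF32_7 : chunk (gF 32 32 1) 2584 7 = true := by decide +kernel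
set_option maxRecDepth 100000 in
theorem cF32_8 : chunk (gF 32 32 1) 2584 8 = true := by decide +kernel
theorem hF32 : allBelow (gF 32 32 1) (9 * 2584) = true := allBelow_of_chunks (fun c hc => by
    interval_cases c
    · exact cF32_0
    · exact cF32_1
    · exact cF32_2
    · exact cF32_3
    · exact cF32_4
    · exact cF32_5
    · exact cF32_6
    · exact cF32_7
    · exact cF32_8
  )
set_option maxRecDepth 100000 in
theorem cF34_0 : chunk (gF 34 33 1) 2584 0 = true := by decide +kernel
set_option maxRecDepth 100000 in
theorem cF34_1 : chunk (gF 34 33 1) 2584 1 = true := by decide +kernel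
set_option maxRecDepth 100000 in
theorem cF34_2 : chunk (gF 34 33 1) 2584 2 = true := by decide +kernel
set_option maxRecDepth 100000 in
theorem cF34_3 : chunk (gF 34 33 1) 2584 3 = true := by decide +kernel
set_option maxRecDepth 100000 in
theorem cF34_4 : chunk (gF 34 33 1) 2584 4 = true := by decide +kernel
set_option maxRecDepth 100000 in
theorem cF34_5 : chunk (gF 34 33 1) 2584 5 = true := by decide +kernel
set_option maxRecDepth 100000 in
theorem cF34_6 : chunk (gF 34 33 1) 2584 6 = true := by decide +kernel
set_option maxRecDepth 100000 in
theorem cF34_7 : chunk (gF 34 33 1) 2584 7 = true := by decide +kernel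
set_option maxRecDepth 100000 in
theorem cF34_8 : chunk (gF 34 33 1) 2584 8 = true := by decide +kernel
theorem hF34 : allBelow (gF 34 33 1) (9 * 2584) = true := allBelow_of_chunks (fun c hc => by
    interval_cases c
    · exact cF34_0
    · exact cF34_1
    · exact cF34_2
    · exact cF34_3
    · exact cF34_4
    · exact cF34_5
    · exact cF34_6
    · exact cF34_7
    · exact cF34_8
  )
set_option maxRecDepth 100000 in
theorem cF36_0 : chunk (gF 36 35 1) 2584 0 = true := by decide +kernel
set_option maxRecDepth 100000 in
theorem cF36_1 : chunk (gF 36 35 1) 2584 1 = true := by decide +kernel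
set_option maxRecDepth 100000 in
theorem cF36_2 : chunk (gF 36 35 1) 2584 2 = true := by decide +kernel
set_option maxRecDepth 100000 in
theorem cF36_3 : chunk (gF 36 35 1) 2584 3 = true := by decide +kernel
set_option maxRecDepth 100000 in
theorem cF36_4 : chunk (gF 36 35 1) 2584 4 = true := by decide +kernel
set_option maxRecDepth 100000 in
theorem cF36_5 : chunk (gF 36 35 1) 2584 5 = true := by decide +kernel
set_option maxRecDepth 100000 in
theorem cF36_6 : chunk (gF 36 35 1) 2584 6 = true := by decide +kernel
set_option maxRecDepth 100000 in
theorem cF36_7 : chunk (gF 36 35 1) 2584 7 = true := by decide +kernel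
set_option maxRecDepth 100000 in
theorem cF36_8 : chunk (gF 36 35 1) 2584 8 = true := by decide +kernel
theorem hF36 : allBelow (gF 36 35 1) (9 * 2584) = true := allBelow_of_chunks (fun c hc => by
    interval_cases c
    · exact cF36_0
    · exact cF36_1
    · exact cF36_2
    · exact cF36_3
    · exact cF36_4
    · exact cF36_5
    · exact cF36_6
    · exact cF36_7
    · exact cF36_8
  )
set_option maxRecDepth 100000 in
theorem cF38_0 : chunk (gF 38 39 1) 2584 0 = true := by decide +kernel
set_option maxRecDepth 100000 in
theorem cF38_1 : chunk (gF 38 39 1) 2584 1 = true := by decide +kernel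
set_option maxRecDepth 100000 in
theorem cF38_2 : chunk (gF 38 39 1) 2584 2 = true := by decide +kernel
set_option maxRecDepth 100000 in
theorem cF38_3 : chunk (gF 38 39 1) 2584 3 = true := by decide +kernel
set_option maxRecDepth 100000 in
theorem cF38_4 : chunk (gF 38 39 1) 2584 4 = true := by decide +kernel
set_option maxRecDepth 100000 in
theorem cF38_5 : chunk (gF 38 39 1) 2584 5 = true := by decide +kernel
set_option maxRecDepth 100000 in
theorem cF38_6 : chunk (gF 38 39 1) 2584 6 = true := by decide +kernel
set_option maxRecDepth 100000 in
theorem cF38_7 : chunk (gF 38 39 1) 2584 7 = true := by decide +kernel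
set_option maxRecDepth 100000 in
theorem cF38_8 : chunk (gF 38 39 1) 2584 8 = true := by decide +kernel
theorem hF38 : allBelow (gF 38 39 1) (9 * 2584) = true := allBelow_of_chunks (fun c hc => by
    interval_cases c
    · exact cF38_0
    · exact cF38_1
    · exact cF38_2
    · exact cF38_3
    · exact cF38_4
    · exact cF38_5
    · exact cF38_6
    · exact cF38_7
    · exact cF38_8
  )
set_option maxRecDepth 100000 in
theorem cF40_0 : chunk (gF 40 40 1) 2584 0 = true := by decide +kernel
set_option maxRecDepth 100000 in
theorem cF40_1 : chunk (gF 40 40 1) 2584 1 = true := by decide +kernel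
set_option maxRecDepth 100000 in
theorem cF40_2 : chunk (gF 40 40 1) 2584 2 = true := by decide +kernel
set_option maxRecDepth 100000 in
theorem cF40_3 : chunk (gF 40 40 1) 2584 3 = true := by decide +kernel
set_option maxRecDepth 100000 in
theorem cF40_4 : chunk (gF 40 40 1) 2584 4 = true := by decide +kernel
set_option maxRecDepth 100000 in
theorem cF40_5 : chunk (gF 40 40 1) 2584 5 = true := by decide +kernel
set_option maxRecDepth 100000 in
theorem cF40_6 : chunk (gF 40 40 1) 2584 6 = true := by decide +kernel
set_option maxRecDepth 100000 in
theorem cF40_7 : chunk (gF 40 40 1) 2584 7 = true := by decide +kernel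
set_option maxRecDepth 100000 in
theorem cF40_8 : chunk (gF 40 40 1) 2584 8 = true := by decide +kernel
theorem hF40 : allBelow (gF 40 40 1) (9 * 2584) = true := allBelow_of_chunks (fun c hc => by
    interval_cases c
    · exact cF40_0
    · exact cF40_1
    · exact cF40_2
    · exact cF40_3
    · exact cF40_4
    · exact cF40_5
    · exact cF40_6
    · exact cF40_7
    · exact cF40_8
  )
set_option maxRecDepth 100000 in
theorem cF42_0 : chunk (gF 42 41 1) 2584 0 = true := by decide +kernel
set_option maxRecDepth 100000 in
theorem cF42_1 : chunk (gF 42 41 1) 2584 1 = true := by decide +kernel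
set_option maxRecDepth 100000 in
theorem cF42_2 : chunk (gF 42 41 1) 2584 2 = true := by decide +kernel
set_option maxRecDepth 100000 in
theorem cF42_3 : chunk (gF 42 41 1) 2584 3 = true := by decide +kernel
set_option maxRecDepth 100000 in
theorem cF42_4 : chunk (gF 42 41 1) 2584 4 = true := by decide +kernel
set_option maxRecDepth 100000 in
theorem cF42_5 : chunk (gF 42 41 1) 2584 5 = true := by decide +kernel
set_option maxRecDepth 100000 in
theorem cF42_6 : chunk (gF 42 41 1) 2584 6 = true := by decide +kernel
set_option maxRecDepth 100000 in
theorem cF42_7 : chunk (gF 42 41 1) 2584 7 = true := by decide +kernel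
set_option maxRecDepth 100000 in
theorem cF42_8 : chunk (gF 42 41 1) 2584 8 = true := by decide +kernel
theorem hF42 : allBelow (gF 42 41 1) (9 * 2584) = true := allBelow_of_chunks (fun c hc => by
    interval_cases c
    · exact cF42_0
    · exact cF42_1
    · exact cF42_2
    · exact cF42_3
    · exact cF42_4
    · exact cF42_5
    · exact cF42_6
    · exact cF42_7
    · exact cF42_8
  )

end Cfsg.Agent.Lib.KnownSimple.J3
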