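import Cfsg.Agent.Lib.KnownSimple.J3.Top

/-!
# The Janko group: the outer automorphism
-/

set_option autoImplicit false

namespace Cfsg.Agent.Lib.KnownSimple.J3

open Cfsg Cfsg.Spor Cfsg.Agent.Lib.Compute Cfsg.Agent.Lib.KnownSimple.PE Cfsg.Agent.Lib.KnownSimple.Leech
open Cfsg.Agent.Lib.KnownSimple Cfsg.Agent.Lib.KnownSimple.AutRigid
open Cfsg.Agent.Lib.KnownSimple.J3Data

/-- The table of the semilinear map. -/
noncomputable def tf (i : ℕ) : ℕ := pq tfB i
/-- The check of the semilinear map on a generator. -/
noncomputable def gF (k k' e i : ℕ) : Bool := Nat.beq (tf (T k (tf i))) (iterN (T k') e i)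
/-- The body of the check of the involution. -/
noncomputable def gInvF (i : ℕ) : Bool := Nat.blt (tf i) N && Nat.beq (tf (tf i)) i
/-- The body of the check of the action on the element of order 19. -/
noncomputable def gFw (i : ℕ) : Bool := Nat.beq (tf (T 43 (tf i))) (iterN (T 43) 18 i)

end Cfsg.Agent.Lib.KnownSimple.J3
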