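import Cfsg.Agent.Lib.KnownSimple.J3.TopA
import Cfsg.Agent.Lib.KnownSimple.J3.Sch0
import Cfsg.Agent.Lib.KnownSimple.J3.Sch1
import Cfsg.Agent.Lib.KnownSimple.J3.Sch2
import Cfsg.Agent.Lib.KnownSimple.J3.Sch3
import Cfsg.Agent.Lib.KnownSimple.J3.Sch4
import Cfsg.Agent.Lib.KnownSimple.J3.Sch5
import Cfsg.Agent.Lib.KnownSimple.J3.Sch6
import Cfsg.Agent.Lib.KnownSimple.J3.Sch7
import Cfsg.Agent.Lib.KnownSimple.J3.Sch8
import Cfsg.Agent.Lib.KnownSimple.J3.Sch9
import Cfsg.Agent.Lib.KnownSimple.J3.Sch10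
import Cfsg.Agent.Lib.KnownSimple.J3.Sch11

/-!
# The Janko group: the chain
-/

set_option autoImplicit false

namespace Cfsg.Agent.Lib.KnownSimple.J3

open Cfsg Cfsg.Spor Cfsg.Agent.Lib.Compute Cfsg.Agent.Lib.KnownSimple.PE Cfsg.Agent.Lib.KnownSimple.Leech
open Cfsg.Agent.Lib.KnownSimple Cfsg.Agent.Lib.KnownSimple.AutRigid
open Cfsg.Agent.Lib.KnownSimple.J3Data

theorem codei_D0 : E.IsCode ((D0⁻¹ : G) : Equiv.Perm (Fin N)) (pq tiD0) :=
  inv_of_chk code_D0 (by
    have h : allBelow gInv0 (9 * 2584) = true := allBelow_of_chunks (fun c hc => by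
    interval_cases c
    · exact cInv0_0
    · exact cInv0_1
    · exact cInv0_2
    · exact cInv0_3
    · exact cInv0_4
    · exact cInv0_5
    · exact cInv0_6
    · exact cInv0_7
    · exact cInv0_8
  )
    exact h)
theorem D1_inv : ((D1⁻¹ : G) : Equiv.Perm (Fin N)) = (D1 : Equiv.Perm (Fin N)) := by
  have h1 : ((D1 * D1 : G) : Equiv.Perm (Fin N)) = 1 := by
    have h : allBelow gInv1 (9 * 2584) = true := allBelow_of_chunks (fun c hc => by
    interval_cases c
    · exact cInv1_0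
    · exact cInv1_1
    · exact cInv1_2
    · exact cInv1_3
    · exact cInv1_4
    · exact cInv1_5
    · exact cInv1_6
    · exact cInv1_7
    · exact cInv1_8
  )
    have h2 := congr_of_chk (coe_code_mul code_D1 code_D1) (g := fun i => i) h
    exact perm_ext_of_code h2 (isCode_one E)
  exact inv_eq_of_mul_eq_one_left h1
theorem codei_D1 : E.IsCode ((D1⁻¹ : G) : Equiv.Perm (Fin N)) (T 35) := by
  rw [D1_inv]
  exact code_D1

theorem gens0 : GensIn E K L0 := by
  intro k
  match k with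
  | 0 => exact ⟨_, memK_D0, code_D0, codei_D0⟩
  | 1 => exact ⟨_, memK_D1, code_D1, codei_D1⟩
  | (k + 2) =>
    refine ⟨1, K.one_mem, isCode_one E, ?_⟩
    rw [inv_one]
    exact isCode_one E

theorem hS0 : ∀ s ∈ Sx, ∃ k, k < 2 ∧ E.IsCode s (L0.fs k) := by
  rintro s (rfl | rfl)
  · exact ⟨0, by norm_num, code_D0⟩
  · exact ⟨1, by norm_num, code_D1⟩

theorem K_le_H : K ≤ H := by
  rw [K, Subgroup.closure_le]
  rintro s (rfl | rfl)
  · exact (D0 : G).2
  · exact (D1 : G).2

theorem K1_le : KK1 ≤ K := by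
  rw [KK1, Subgroup.closure_le]
  rintro s (rfl | rfl)
  · exact K.mul_mem (memK_pow D0 8 memK_D0) (K.mul_mem (memK_pow D1 1 memK_D1) (K.mul_mem (memK_pow D0 8 memK_D0) (K.mul_mem (memK_pow D0 8 memK_D0) (K.mul_mem (memK_pow D0 8 memK_D0) (K.mul_mem (memK_pow D0 8 memK_D0) (K.mul_mem (memK_pow D1 1 memK_D1) (K.mul_mem (memK_pow D0 8 memK_D0) (K.mul_mem (memK_pow D1 1 memK_D1) (K.mul_mem (memK_pow D0 8 memK_D0) (K.mul_mem (memK_pow D1 1 memK_D1) (K.mul_mem (memK_pow D0 1 memK_D0) (K.mul_mem (memK_pow D0 1 memK_D0) (K.mul_mem (memK_pow D1 1 memK_D1) (K.mul_mem (memK_pow D0 1 memK_D0) (K.mul_mem (memK_pow D0 1 memK_D0) (K.mul_mem (memK_pow D0 1 memK_D0) (K.mul_mem (memK_pow D0 1 memK_D0) (K.mul_mem (memK_pow D0 1 memK_D0) (K.mul_mem (memK_pow D0 1 memK_D0) (K.mul_mem (memK_pow D0 1 memK_D0) (K.mul_mem (memK_pow D1 1 memK_D1) (K.mul_mem (memK_pow D0 1 memK_D0) (K.mul_mem (memK_pow D1 1 memK_D1) (K.mul_mem (memK_pow D0 1 memK_D0) (K.mul_mem (memK_pow D0 1 memK_D0)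 (K.mul_mem (memK_pow D1 1 memK_D1) (K.mul_mem (memK_pow D0 1 memK_D0) (K.mul_mem (memK_pow D1 1 memK_D1) (K.mul_mem (memK_pow D0 1 memK_D0) (memK_pow D0 1 memK_D0))))))))))))))))))))))))))))))
  · exact K.mul_mem (memK_pow D0 8 memK_D0) (K.mul_mem (memK_pow D1 1 memK_D1) (K.mul_mem (memK_pow D0 8 memK_D0) (K.mul_mem (memK_pow D1 1 memK_D1) (K.mul_mem (memK_pow D0 8 memK_D0) (K.mul_mem (memK_pow D1 1 memK_D1) (K.mul_mem (memK_pow D0 8 memK_D0) (K.mul_mem (memK_pow D1 1 memK_D1) (K.mul_mem (memK_pow D0 8 memK_D0) (K.mul_mem (memK_pow D0 8 memK_D0) (K.mul_mem (memK_pow D1 1 memK_D1) (K.mul_mem (memK_pow D0 8 memK_D0) (K.mul_mem (memK_pow D1 1 memK_D1) (K.mul_mem (memK_pow D0 1 memK_D0) (K.mul_mem (memK_pow D1 1 memK_D1) (K.mul_mem (memK_pow D0 1 memK_D0) (K.mul_mem (memK_pow D0 1 memK_D0) (K.mul_mem (memK_pow D1 1 memK_D1) (K.mul_mem (memK_pow D0 1 memK_D0) (K.mul_mem (memK_pow D0 1 memK_D0) (K.mul_mem (memK_pow D0 1 memK_D0) (K.mul_mem (memK_pow D0 1 memK_D0)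 (K.mul_mem (memK_pow D1 1 memK_D1) (K.mul_mem (memK_pow D0 1 memK_D0) (K.mul_mem (memK_pow D1 1 memK_D1) (K.mul_mem (memK_pow D0 1 memK_D0) (K.mul_mem (memK_pow D0 1 memK_D0) (K.mul_mem (memK_pow D0 1 memK_D0) (K.mul_mem (memK_pow D0 1 memK_D0) (K.mul_mem (memK_pow D0 1 memK_D0) (K.mul_mem (memK_pow D0 1 memK_D0) (K.mul_mem (memK_pow D0 1 memK_D0) (K.mul_mem (memK_pow D1 1 memK_D1) (memK_pow D0 1 memK_D0)))))))))))))))))))))))))))))))))

theorem fix0 : ∀ σ ∈ KK1, σ (E.pt 0) = E.pt 0 := by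
  apply closure_fix
  rintro s (rfl | rfl)
  · exact fix_of_code code_S0 (by norm_num) (by decide +kernel)
  · exact fix_of_code code_S1 (by norm_num) (by decide +kernel)

theorem tree0 : L0.treeOK N = true := by
  have h : allBelow (L0.treeAt N) (9 * 2584) = true := allBelow_of_chunks (fun c hc => by
    interval_cases c
    · exact trc0_0
    · exact trc0_1
    · exact trc0_2
    · exact trc0_3
    · exact trc0_4
    · exact trc0_5
    · exact trc0_6
    · exact trc0_7
    · exact trc0_8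
  )
  exact h

theorem sch0 : schOK N L0 chTail0 2 = true :=
  schOK_of_chunks (m := 72) (s := 323) (by norm_num) (fun c hc => by
    interval_cases c
    · exact sch0_0
    · exact sch0_1
    · exact sch0_2
    · exact sch0_3
    · exact sch0_4
    · exact sch0_5
    · exact sch0_6
    · exact sch0_7
    · exact sch0_8
    · exact sch0_9
    · exact sch0_10
    · exact sch0_11
    · exact sch0_12
    · exact sch0_13
    · exact sch0_14
    · exact sch0_15
    · exact sch0_16
    · exact sch0_17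
    · exact sch0_18
    · exact sch0_19
    · exact sch0_20
    · exact sch0_21
    · exact sch0_22
    · exact sch0_23
    · exact sch0_24
    · exact sch0_25
    · exact sch0_26
    · exact sch0_27
    · exact sch0_28
    · exact sch0_29
    · exact sch0_30
    · exact sch0_31
    · exact sch0_32
    · exact sch0_33
    · exact sch0_34
    · exact sch0_35
    · exact sch0_36
    · exact sch0_37
    · exact sch0_38
    · exact sch0_39
    · exact sch0_40
    · exact sch0_41
    · exact sch0_42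
    · exact sch0_43
    · exact sch0_44
    · exact sch0_45
    · exact sch0_46
    · exact sch0_47
    · exact sch0_48
    · exact sch0_49
    · exact sch0_50
    · exact sch0_51
    · exact sch0_52
    · exact sch0_53
    · exact sch0_54
    · exact sch0_55
    · exact sch0_56
    · exact sch0_57
    · exact sch0_58
    · exact sch0_59
    · exact sch0_60
    · exact sch0_61
    · exact sch0_62
    · exact sch0_63
    · exact sch0_64
    · exact sch0_65
    · exact sch0_66
    · exact sch0_67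
    · exact sch0_68
    · exact sch0_69
    · exact sch0_70
    · exact sch0_71
  )

theorem lev0 : LevelSem E K KK1 L0 :=
  levelS (A := A) (S := Sx) (ng := 2) (by decide +kernel) rfl hS0 gens0 tree0 (by decide +kernel) (by decide +kernel)
    ch1 K1_le fix0 [] ((by decide +kernel : [] ++ L0.b :: basesOf chTail0 = baseAll) ▸ based_all) (K_le_H.trans H_le_A) (by simp) sch0

theorem ch0 : ChainSem E K (L0 :: chTail0) := ⟨_, lev0, ch1⟩

theorem sift_all : allBelow (fun k => siftL (n := N) (L0 :: chTail0) ((basesOf (L0 :: chTail0)).map (T k))) 47 = true := by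
  decide +kernel

theorem P_mem_K {k : ℕ} (hk : k < 47) : P k ∈ K :=
  sift_sound ch0 [] ((by decide +kernel : [] ++ basesOf (L0 :: chTail0) = baseAll) ▸ based_all) (K_le_H.trans H_le_A) (by simp)
    (P_mem hk) (by simp) (P_code hk) ((allBelow_iff _ _).1 sift_all k hk)

theorem H_eq : H = K := by
  apply le_antisymm _ K_le_H
  show Subgroup.closure (B₀ J) ≤ K
  rw [Subgroup.closure_le]
  rintro σ ⟨k, hk, hc⟩
  have e : σ = P k := perm_ext_of_code hc (P_code (by omega))
  rw [e]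
  exact P_mem_K (by omega)

theorem P_H' {k : ℕ} (hk : k < 47) : P k ∈ H := by
  rw [H_eq]
  exact P_mem_K hk

/-- The levels. -/
noncomputable def Ls : List Lev := [L0, L1, L2]

theorem chainH : ChainSem E H Ls := by
  rw [H_eq]
  exact ⟨_, lev0, chF⟩

theorem sizes : (Ls.map (Lev.size N)).prod = 50232960 := by decide +kernel

theorem card_H : Nat.card H = 50232960 := by
  rw [chainH.card_eq, sizes]

end Cfsg.Agent.Lib.KnownSimple.J3
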