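import Cfsg.Agent.Lib.KnownSimple.J3.Gens

/-!
# The Janko group: checks of the top level of the chain
-/

set_option autoImplicit false

namespace Cfsg.Agent.Lib.KnownSimple.J3

open Cfsg Cfsg.Spor Cfsg.Agent.Lib.Compute Cfsg.Agent.Lib.KnownSimple.PE Cfsg.Agent.Lib.KnownSimple.Leech
open Cfsg.Agent.Lib.KnownSimple Cfsg.Agent.Lib.KnownSimple.AutRigid
open Cfsg.Agent.Lib.KnownSimple.J3Data

set_option maxRecDepth 100000 in
theorem cInv0_0 : chunk gInv0 2584 0 = true := by decide +kernel
set_option maxRecDepth 100000 in
theorem cInv0_1 : chunk gInv0 2584 1 = true := by decide +kernel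
set_option maxRecDepth 100000 in
theorem cInv0_2 : chunk gInv0 2584 2 = true := by decide +kernel
set_option maxRecDepth 100000 in
theorem cInv0_3 : chunk gInv0 2584 3 = true := by decide +kernel
set_option maxRecDepth 100000 in
theorem cInv0_4 : chunk gInv0 2584 4 = true := by decide +kernel
set_option maxRecDepth 100000 in
theorem cInv0_5 : chunk gInv0 2584 5 = true := by decide +kernel
set_option maxRecDepth 100000 in
theorem cInv0_6 : chunk gInv0 2584 6 = true := by decide +kernel
set_option maxRecDepth 100000 in
theorem cInv0_7 : chunk gInv0 2584 7 = true := by decide +kernel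
set_option maxRecDepth 100000 in
theorem cInv0_8 : chunk gInv0 2584 8 = true := by decide +kernel
set_option maxRecDepth 100000 in
theorem cInv1_0 : chunk gInv1 2584 0 = true := by decide +kernel
set_option maxRecDepth 100000 in
theorem cInv1_1 : chunk gInv1 2584 1 = true := by decide +kernel
set_option maxRecDepth 100000 in
theorem cInv1_2 : chunk gInv1 2584 2 = true := by decide +kernel
set_option maxRecDepth 100000 in
theorem cInv1_3 : chunk gInv1 2584 3 = true := by decide +kernel
set_option maxRecDepth 100000 in
theorem cInv1_4 : chunk gInv1 2584 4 = true := by decide +kernel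
set_option maxRecDepth 100000 in
theorem cInv1_5 : chunk gInv1 2584 5 = true := by decide +kernel
set_option maxRecDepth 100000 in
theorem cInv1_6 : chunk gInv1 2584 6 = true := by decide +kernel
set_option maxRecDepth 100000 in
theorem cInv1_7 : chunk gInv1 2584 7 = true := by decide +kernel
set_option maxRecDepth 100000 in
theorem cInv1_8 : chunk gInv1 2584 8 = true := by decide +kernel
set_option maxRecDepth 100000 in
theorem trc0_0 : chunk (L0.treeAt N) 2584 0 = true := by decide +kernel
set_option maxRecDepth 100000 in
theorem trc0_1 : chunk (L0.treeAt N) 2584 1 = true := by decide +kernel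
set_option maxRecDepth 100000 in
theorem trc0_2 : chunk (L0.treeAt N) 2584 2 = true := by decide +kernel
set_option maxRecDepth 100000 in
theorem trc0_3 : chunk (L0.treeAt N) 2584 3 = true := by decide +kernel
set_option maxRecDepth 100000 in
theorem trc0_4 : chunk (L0.treeAt N) 2584 4 = true := by decide +kernel
set_option maxRecDepth 100000 in
theorem trc0_5 : chunk (L0.treeAt N) 2584 5 = true := by decide +kernel
set_option maxRecDepth 100000 in
theorem trc0_6 : chunk (L0.treeAt N) 2584 6 = true := by decide +kernel
set_option maxRecDepth 100000 in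
theorem trc0_7 : chunk (L0.treeAt N) 2584 7 = true := by decide +kernel
set_option maxRecDepth 100000 in
theorem trc0_8 : chunk (L0.treeAt N) 2584 8 = true := by decide +kernel

end Cfsg.Agent.Lib.KnownSimple.J3
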